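import Groth.Agent.ProjX.HProj
import Groth.Agent.PnCoh.Chow.Proper

/-!
# A projective morphism is proper
-/

set_option linter.style.haveILetI false
set_option linter.unusedSectionVars false
set_option backward.isDefEq.respectTransparency false
set_option backward.isDefEq.respectTransparency.types false

universe u

open CategoryTheory CategoryTheory.Limits AlgebraicGeometry Opposite HomogeneousLocalization
open CohB1 (polyGrading ProjSpace ProjSpaceOver)

namespace Groth.Agent.ProjX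

variable {S P : Scheme.{u}} {𝒮 : RelProj.QCGrAlg S} {p : P ⟶ S}
  {chart : ∀ (U : S.Opens) (hU : IsAffineOpen U), ((p ⁻¹ᵁ U : P.Opens) : Scheme.{u}) ≅ Proj (𝒮.deg U hU)}

/-- Over an affine open, an algebra generated in degree one with finite degree-one part is, in positive
degrees, a quotient of a polynomial ring over the functions. -/
theorem exists_closedImmersion_chart (hgen : 𝒮.IsGenDegOne) (hft : 𝒮.IsFTDeg 1) (U : S.Opens) (hU : IsAffineOpen U) :
    ∃ (m : ℕ) (c : Proj (𝒮.deg U hU) ⟶ ProjSpace m Γ(S, U)), IsClosedImmersion c ∧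
      c ≫ CohB1.ProjSpace.toSpec m Γ(S, U) = Proj.toSpecZero (𝒮.deg U hU) ≫ Spec.map (𝒮.strZero U hU) := by
  classical
  obtain ⟨T, hT, hspan⟩ := hft U hU
  let m := T.card
  let t : Fin (m + 1) → 𝒮.presheaf.obj (op U) := Fin.cons 0 fun j => (T.equivFin.symm j : 𝒮.presheaf.obj (op U))
  have ht : ∀ j, t j ∈ 𝒮.deg U hU 1 := by
    refine Fin.cases ?_ (fun j => ?_)
    · exact zero_mem _
    · exact hT (T.equivFin.symm j).2
  let q₀ : MvPolynomial (Fin (m + 1)) Γ(S, U) →+* 𝒮.presheaf.obj (op U) :=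
    MvPolynomial.eval₂Hom (𝒮.str.app (op U)).hom t
  let q : polyGrading m Γ(S, U) →+*ᵍ 𝒮.deg U hU :=
    { q₀ with
      map_mem := fun {d a} ha => by
        show q₀ a ∈ 𝒮.deg U hU d
        rw [MvPolynomial.as_sum a, map_sum]
        refine sum_mem fun e he => ?_
        have hd : e.degree = d := by
          have := (MvPolynomial.mem_homogeneousSubmodule d a).1 ha (MvPolynomial.mem_support_iff.1 he)
          rw [Finsupp.degree_eq_weight_one]; exact this
        subst hd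
        have h0 : (𝒮.str.app (op U)).hom (a.coeff e) * e.prod (fun j k => t j ^ k) ∈ 𝒮.deg U hU (0 + e.degree) := by
          refine SetLike.mul_mem_graded (𝒮.str_mem U hU _) ?_
          rw [Finsupp.prod, Finsupp.degree]
          refine SetLike.prod_mem_graded _ _ _ fun j _ => ?_
          have := SetLike.pow_mem_graded (e j) (ht j)
          rwa [smul_eq_mul, mul_one] at this
        rw [zero_add] at h0
        simpa [q₀, MvPolynomial.eval₂_monomial] using h0 }
  have hqC : ∀ r, q (MvPolynomial.C r) = (𝒮.str.app (op U)).hom r := fun r => MvPolynomial.eval₂Hom_C _ _ r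
  have hqX : ∀ j, q (MvPolynomial.X j) = t j := fun j => MvPolynomial.eval₂Hom_X' _ _ j
  have hdeg1 : ∀ x ∈ 𝒮.deg U hU 1, ∃ a, q a = x := by
    intro x hx
    obtain ⟨c, rfl⟩ := hspan x hx
    refine ⟨∑ y : T, MvPolynomial.C (c y.1) * MvPolynomial.X (T.equivFin y).succ, ?_⟩
    simp only [map_sum, map_mul, hqX, t, Fin.cons_succ, Equiv.symm_apply_apply]
    rw [← Finset.sum_coe_sort T]
    exact Finset.sum_congr rfl fun x _ => congrArg (· * _) (hqC _)
  have hmul : ∀ a0 ∈ 𝒮.deg U hU 0, ∀ b, ∃ c0 ∈ 𝒮.deg U hU 0, ∃ b', a0 * q b = c0 + q b' := by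
    intro a0 ha0 b
    induction b using MvPolynomial.induction_on with
    | C r =>
      refine ⟨a0 * (𝒮.str.app (op U)).hom r, ?_, 0, by rw [hqC, map_zero, add_zero]⟩
      simpa using SetLike.mul_mem_graded ha0 (𝒮.str_mem U hU r)
    | add b₁ b₂ h₁ h₂ =>
      obtain ⟨c₁, hc₁, d₁, e₁⟩ := h₁
      obtain ⟨c₂, hc₂, d₂, e₂⟩ := h₂
      exact ⟨c₁ + c₂, add_mem hc₁ hc₂, d₁ + d₂, by rw [map_add, map_add, mul_add, e₁, e₂]; abel⟩
    | mul_X b j h =>
      obtain ⟨w, hw⟩ := hdeg1 (a0 * t j) (by simpa using SetLike.mul_mem_graded ha0 (ht j))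
      refine ⟨0, zero_mem _, b * w, ?_⟩
      rw [map_mul, map_mul, hw, hqX, zero_add]
      ring
  have hall : ∀ x, ∃ c0 ∈ 𝒮.deg U hU 0, ∃ b, x = c0 + q b := by
    intro x
    have hx : x ∈ Subring.closure ((𝒮.deg U hU 0 : Set (𝒮.presheaf.obj (op U))) ∪ (𝒮.deg U hU 1 : Set _)) :=
      (hgen U hU).ge trivial
    induction hx using Subring.closure_induction with
    | mem y hy =>
      rcases hy with hy | hy
      · exact ⟨y, hy, 0, by rw [map_zero, add_zero]⟩
      · obtain ⟨w, hw⟩ := hdeg1 y hy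
        exact ⟨0, zero_mem _, w, by rw [hw, zero_add]⟩
    | zero => exact ⟨0, zero_mem _, 0, by rw [map_zero, add_zero]⟩
    | one => exact ⟨1, SetLike.one_mem_graded _, 0, by rw [map_zero, add_zero]⟩
    | add x y _ _ hx hy =>
      obtain ⟨c₁, hc₁, b₁, rfl⟩ := hx
      obtain ⟨c₂, hc₂, b₂, rfl⟩ := hy
      exact ⟨c₁ + c₂, add_mem hc₁ hc₂, b₁ + b₂, by rw [map_add]; abel⟩
    | neg x _ hx =>
      obtain ⟨c₁, hc₁, b₁, rfl⟩ := hx
      exact ⟨-c₁, neg_mem hc₁, -b₁, by rw [map_neg]; abel⟩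
    | mul x y _ _ hx hy =>
      obtain ⟨c₁, hc₁, b₁, rfl⟩ := hx
      obtain ⟨c₂, hc₂, b₂, rfl⟩ := hy
      obtain ⟨d₁, hd₁, e₁, he₁⟩ := hmul c₁ hc₁ b₂
      obtain ⟨d₂, hd₂, e₂, he₂⟩ := hmul c₂ hc₂ b₁
      refine ⟨c₁ * c₂ + d₁ + d₂, add_mem (add_mem ?_ hd₁) hd₂, e₁ + e₂ + b₁ * b₂, ?_⟩
      · simpa using SetLike.mul_mem_graded hc₁ hc₂
      · have h3 : (c₁ + q b₁) * (c₂ + q b₂) = c₁ * c₂ + c₁ * q b₂ + c₂ * q b₁ + q b₁ * q b₂ := by ring
        rw [h3, he₁, he₂, map_add, map_add, map_mul]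
        abel
  have hpos : ∀ d, 0 < d → ∀ x ∈ 𝒮.deg U hU d, ∃ a ∈ polyGrading m Γ(S, U) d, q a = x := by
    intro d hd x hx
    obtain ⟨c0, hc0, b, rfl⟩ := hall x
    refine ⟨GradedRing.proj (polyGrading m Γ(S, U)) d b, SetLike.coe_mem _, ?_⟩
    rw [Proj16.proj_map_commutes]
    have := Proj16.proj_of_mem (𝒮.deg U hU) hx
    rw [map_add, Proj16.proj_of_mem_ne (𝒮.deg U hU) hc0 (Nat.pos_iff_ne_zero.1 hd).symm, zero_add] at this
    exact this
  have hirr : HomogeneousIdeal.irrelevant (𝒮.deg U hU) ≤ (HomogeneousIdeal.irrelevant (polyGrading m Γ(S, U))).map q := by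
    rw [HomogeneousIdeal.irrelevant_le]
    intro d hd x hx
    obtain ⟨a, ha, rfl⟩ := hpos d hd x hx
    exact Ideal.mem_map_of_mem _ (HomogeneousIdeal.mem_irrelevant_of_mem _ hd ha)
  refine ⟨m, Proj.map q hirr, ?_, ?_⟩
  · refine Proj16.map_of_away (P := @IsClosedImmersion) q hirr fun d s hd hs => ?_
    refine IsClosedImmersion.spec_of_surjective _ fun z => ?_
    obtain ⟨k, b, hb, rfl⟩ := z.mk_surjective (𝒮.deg U hU) (q.2 hs)
    obtain ⟨a, ha, hab⟩ := hpos ((k + 1) • d) (by simp only [smul_eq_mul]; positivity) (q s * b) (by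
      simpa [Nat.succ_mul, add_comm] using SetLike.mul_mem_graded (q.2 hs) hb)
    refine ⟨Away.mk _ hs (k + 1) a ha, ?_⟩
    rw [Proj16.awayMk_succ (𝒜 := 𝒮.deg U hU) (q.2 hs) k b hb]
    show Away.map q s _ = _
    rw [Away.map_mk]
    congr 1
  · exact map_toSpecZero q hirr _ _ fun r => hqC r

/-- The structure morphism of a relative `Proj` generated in degree one with finite degree-one part is proper. -/
theorem isProper_of_isRelProj (hP : RelProj.IsRelProj 𝒮 p chart) (hgen : 𝒮.IsGenDegOne) (hft : 𝒮.IsFTDeg 1) :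
    IsProper p :=
  Proj16.of_affineOpens hP @IsProper fun U hU => by
    obtain ⟨m, c, hc, hcw⟩ := exists_closedImmersion_chart hgen hft U hU
    haveI : IsProper (CohB1.ProjSpace.toSpec m Γ(S, U)) := PnCoh.Chow.isProper_toSpec m _
    show IsProper _
    rw [← hcw]
    exact IsProper.stableUnderComposition.comp_mem _ _ inferInstance ‹_›

/-- Projective morphisms are proper. -/
theorem isProper_of_isProjective {X : Scheme.{u}} {f : X ⟶ S} (hf : RelProj.IsProjective f) : IsProper f := by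
  obtain ⟨𝒮, P, p, chart, e, hgen, hft, hP, rfl⟩ := hf
  haveI := isProper_of_isRelProj hP hgen hft
  infer_instance

end Groth.Agent.ProjX
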