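import Groth.Agent.ProjX.TwistSect
import Groth.Agent.AmpleY.FrameTensor

/-!
# Products of twisting sheaves on a relative `Proj`
-/

set_option linter.style.haveILetI false
set_option linter.unusedSectionVars false
set_option backward.isDefEq.respectTransparency false
set_option backward.isDefEq.respectTransparency.types false

noncomputable section

universe u

open CategoryTheory CategoryTheory.Limits AlgebraicGeometry TopologicalSpace Opposite
open scoped HomogeneousIdeal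

namespace Groth.Agent.ProjX

open Groth.Agent

variable {Y P : Scheme.{u}} {𝒮 : RelProj.QCGrAlg Y} {p : P ⟶ Y}
  {chart : ∀ (U : Y.Opens) (hU : IsAffineOpen U), (((p ⁻¹ᵁ U : P.Opens) : Scheme.{u}) ≅ Proj (𝒮.deg U hU))}
  {l m k : ℤ} {L L' L'' : P.Modules}
  {lam : ∀ (U : Y.Opens) (hU : IsAffineOpen U),
    L ⟶ (Scheme.Modules.pushforward (RelProj.emb p chart U hU)).obj (GrTwist.twist (𝒮.deg U hU) l)}
  {lam' : ∀ (U : Y.Opens) (hU : IsAffineOpen U),
    L' ⟶ (Scheme.Modules.pushforward (RelProj.emb p chart U hU)).obj (GrTwist.twist (𝒮.deg U hU) m)}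
  {lam'' : ∀ (U : Y.Opens) (hU : IsAffineOpen U),
    L'' ⟶ (Scheme.Modules.pushforward (RelProj.emb p chart U hU)).obj (GrTwist.twist (𝒮.deg U hU) k)}

/-- The value of a section in a chart. -/
abbrev cval (lam : ∀ (U : Y.Opens) (hU : IsAffineOpen U),
      L ⟶ (Scheme.Modules.pushforward (RelProj.emb p chart U hU)).obj (GrTwist.twist (𝒮.deg U hU) l))
    (U : Y.Opens) (hU : IsAffineOpen U) {W : P.Opens} (s : Γ(L, W))
    (y : (RelProj.emb p chart U hU ⁻¹ᵁ W : (Proj (𝒮.deg U hU)).Opens)) : GrTwist.Loc (𝒮.deg U hU) y.1 :=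
  GrTwist.val (V := RelProj.emb p chart U hU ⁻¹ᵁ W) ((lam U hU).app W s) y

lemma cval_smul (lam : ∀ (U : Y.Opens) (hU : IsAffineOpen U),
      L ⟶ (Scheme.Modules.pushforward (RelProj.emb p chart U hU)).obj (GrTwist.twist (𝒮.deg U hU) l))
    (U : Y.Opens) (hU : IsAffineOpen U) {W : P.Opens} (g : Γ(P, W)) (s : Γ(L, W))
    (y : (RelProj.emb p chart U hU ⁻¹ᵁ W : (Proj (𝒮.deg U hU)).Opens)) :
    cval lam U hU (g • s) y =
      (((RelProj.emb p chart U hU).app W g).1 y : GrTwist.A0 (𝒮.deg U hU) y.1).val * cval lam U hU s y := by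
  rw [cval, Scheme.Modules.Hom.app_smul]
  exact GrTwist.coe_smul_val l y.1 _ _

variable (hP : RelProj.IsRelProj 𝒮 p chart) (hL : RelProj.IsRelTwist 𝒮 p chart l L lam)
  (hL' : RelProj.IsRelTwist 𝒮 p chart m L' lam') (hL'' : RelProj.IsRelTwist 𝒮 p chart k L'' lam'')

variable (lam lam' lam'') in
/-- `s''` is the product of `s` and `s'` in the chart. -/
def IsMulAt (U : Y.Opens) (hU : IsAffineOpen U) {W : P.Opens} (s : Γ(L, W)) (s' : Γ(L', W)) (s'' : Γ(L'', W)) : Prop :=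
  ∀ y, cval lam'' U hU s'' y = cval lam U hU s y * cval lam' U hU s' y

include hP hL hL' hL'' in
lemma IsMulAt.down {U : Y.Opens} {hU : IsAffineOpen U} (r : Γ(Y, U)) {D : Y.Opens} (hD : IsAffineOpen D)
    (e : D = Y.basicOpen r) {W : P.Opens} {s : Γ(L, W)} {s' : Γ(L', W)} {s'' : Γ(L'', W)}
    (h : IsMulAt lam lam' lam'' U hU s s' s'') : IsMulAt lam lam' lam'' D hD s s' s'' := by
  subst e
  rintro ⟨z, hz⟩
  have hz' := mem_comap_of_mem hP hU r hz
  refine (hL''.compat U hU r W s'' z hz hz').trans ?_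
  refine (congrArg _ (h ⟨_, hz'⟩)).trans ?_
  rw [map_mul]
  exact congr_arg₂ (· * ·) (hL.compat U hU r W s z hz hz').symm (hL'.compat U hU r W s' z hz hz').symm

include hP hL hL' hL'' in
lemma IsMulAt.all {U : Y.Opens} {hU : IsAffineOpen U} {W : P.Opens} (hW : W ≤ p ⁻¹ᵁ U) {s : Γ(L, W)}
    {s' : Γ(L', W)} {s'' : Γ(L'', W)} (h : IsMulAt lam lam' lam'' U hU s s' s'') (V : Y.Opens) (hV : IsAffineOpen V) :
    IsMulAt lam lam' lam'' V hV s s' s'' := by
  rintro ⟨y, hy⟩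
  have hxV : RelProj.emb p chart V hV y ∈ p ⁻¹ᵁ V := by
    rw [← RelTildeX.opensRange_emb p chart V hV]; exact ⟨y, rfl⟩
  obtain ⟨r, r', e, hxr⟩ := exists_basicOpen_le_affine_inter hU hV (p (RelProj.emb p chart V hV y)) ⟨hW hy, hxV⟩
  have key : ∀ (D : Y.Opens) (hD : IsAffineOpen D), D = Y.basicOpen r → D = Y.basicOpen r' →
      ∀ z : Proj (𝒮.deg D hD), RelProj.emb p chart D hD z = RelProj.emb p chart V hV y →
        cval lam'' V hV s'' ⟨y, hy⟩ = cval lam V hV s ⟨y, hy⟩ * cval lam' V hV s' ⟨y, hy⟩ := by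
    intro D hD e₁ e₂ z hz
    subst e₂
    let a : Y.AffineZariskiSite := ⟨V, hV⟩
    obtain ⟨c, hc⟩ := invertsZero_resLE (𝒮 := 𝒮) (a.basicOpen_le r')
    have hzy : ProjectiveSpectrum.comap (𝒮.res hV (hV.basicOpen r') (Y.basicOpen_le r'))
        (𝒮.irrelevant_le_map V hV r') z = y := by
      refine (RelProj.emb p chart V hV).isOpenEmbedding.injective ?_
      refine Eq.trans ?_ hz
      exact congrArg (fun ψ : Proj (𝒮.deg (Y.basicOpen r') hD) ⟶ P => ψ.base z) (RelProj.map_res_emb hP V hV r')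
    subst hzy
    have hzW : (RelProj.emb p chart (Y.basicOpen r') hD).base z ∈ W := by
      rw [show (RelProj.emb p chart (Y.basicOpen r') hD).base z = _ from hz]
      exact hy
    refine locMap_injective hc _ z ?_
    refine ((hL''.compat V hV r' W s'' z hzW hy).symm.trans ?_).trans (map_mul _ _ _).symm
    refine Eq.trans ?_ (congr_arg₂ (· * ·) (hL.compat V hV r' W s z hzW hy) (hL'.compat V hV r' W s' z hzW hy))
    exact IsMulAt.down hP hL hL' hL'' r hD e₁ h ⟨z, hzW⟩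
  have hzr : RelProj.emb p chart V hV y ∈ (RelProj.emb p chart _ (hU.basicOpen r)).opensRange := by
    rw [RelTildeX.opensRange_emb]; exact hxr
  obtain ⟨z, hz⟩ := hzr
  exact key _ (hU.basicOpen r) rfl e z hz

lemma exists_frame_chart (hL : RelProj.IsRelTwist 𝒮 p chart l L lam) (U : Y.Opens) (hU : IsAffineOpen U)
    {D : (Proj (𝒮.deg U hU)).Opens} (φ : GrTwistX.UnitFrac (𝒜 := 𝒮.deg U hU) l D) :
    ∃ e : Γ(L, RelProj.emb p chart U hU ''ᵁ D), InvX.IsFrame e ∧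
      ∀ (y : ProjectiveSpectrum (𝒮.deg U hU)) (hy : y ∈ RelProj.emb p chart U hU ⁻¹ᵁ (RelProj.emb p chart U hU ''ᵁ D))
        (hyD : y ∈ D),
        cval lam U hU e ⟨y, hy⟩ = Localization.mk φ.num ⟨φ.den, φ.den_ne ⟨y, hyD⟩⟩ := by
  let j := RelProj.emb p chart U hU
  have hpre : j ⁻¹ᵁ (j ''ᵁ D) ≤ D := (j.preimage_image_eq D).le
  obtain ⟨e, he⟩ := (hL.bijective U hU (j ''ᵁ D)
    ((j.image_le_opensRange D).trans (RelTildeX.opensRange_emb p chart U hU).le)).2 (GrTwistX.fracSect (φ.res hpre))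
  refine ⟨e, ?_, fun y hy hyD => ?_⟩
  · have hloc : AmpleX.locus e = j ''ᵁ D := by
      refine le_antisymm (AmpleX.locus_le e) fun x hx => ?_
      refine (inf_le_left : AmpleX.locus e ⊓ p ⁻¹ᵁ U ≤ AmpleX.locus e) ?_
      rw [locus_inf_preimage e U hU hL, he]
      obtain ⟨y, hyD, rfl⟩ := hx
      refine ⟨y, AmpleX.le_locus _ le_rfl ?_ (show y ∈ j ⁻¹ᵁ (j ''ᵁ D) from ⟨y, hyD, rfl⟩), rfl⟩
      rw [AModX.res_self]
      intro V hV
      exact GrTwistX.trivMap_bijective ((φ.res hpre).res hV)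
    have := AmpleX.isFrame_res_of_le e hloc.ge
    rwa [AModX.res_self] at this
  · rw [cval, he]
    rfl

include hP hL hL' hL'' in
/-- Transition functions of products multiply. -/
lemma transition {U₁ U₂ : Y.Opens} {h₁ : IsAffineOpen U₁} {h₂ : IsAffineOpen U₂} {O₁ O₂ : P.Opens}
    (hO₁ : O₁ ≤ p ⁻¹ᵁ U₁) (hO₂ : O₂ ≤ p ⁻¹ᵁ U₂)
    {a : Γ(L, O₁)} {a' : Γ(L', O₁)} {a'' : Γ(L'', O₁)} (ha : IsMulAt lam lam' lam'' U₁ h₁ a a' a'')
    {b : Γ(L, O₂)} {b' : Γ(L', O₂)} {b'' : Γ(L'', O₂)} (hb : IsMulAt lam lam' lam'' U₂ h₂ b b' b'')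
    (W : P.Opens) (hWa : W ≤ O₁) (hWb : W ≤ O₂) (g g' : Γ(P, W))
    (hg : AModX.res L hWb b = g • AModX.res L hWa a) (hg' : AModX.res L' hWb b' = g' • AModX.res L' hWa a') :
    AModX.res L'' hWb b'' = (g * g') • AModX.res L'' hWa a'' := by
  refine (hL''.bijective U₁ h₁ W (hWa.trans hO₁)).1 (twist_ext fun ⟨y, hy⟩ => ?_)
  show cval lam'' U₁ h₁ _ ⟨y, hy⟩ = cval lam'' U₁ h₁ _ ⟨y, hy⟩
  have h2 := IsMulAt.all hP hL hL' hL'' hO₂ hb U₁ h₁ ⟨y, hWb hy⟩
  have h1 := ha ⟨y, hWa hy⟩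
  unfold cval at h1 h2 ⊢
  rw [val_lam_res]
  refine h2.trans ?_
  rw [← val_lam_res O₂ W hWb b U₁ h₁ y hy, ← val_lam_res O₂ W hWb b' U₁ h₁ y hy, hg, hg']
  refine (congr_arg₂ (· * ·) (cval_smul lam U₁ h₁ g _ ⟨y, hy⟩) (cval_smul lam' U₁ h₁ g' _ ⟨y, hy⟩)).trans ?_
  refine Eq.trans ?_ (cval_smul lam'' U₁ h₁ (g * g') _ ⟨y, hy⟩).symm
  unfold cval
  rw [val_lam_res, val_lam_res, val_lam_res, h1, map_mul]
  refine Eq.trans ?_ (congrArg (· * _) (HomogeneousLocalization.val_mul _ _).symm)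
  ring

end Groth.Agent.ProjX

namespace Groth.Agent.GrTwistX

variable {A σ : Type u} [CommRing A] [SetLike σ A] [AddSubgroupClass σ A] {𝒜 : ℕ → σ} [GradedRing 𝒜]
  {m n : ℤ} {U : Opens (ProjectiveSpectrum.top 𝒜)}

/-- The product of two fractions. -/
def UnitFrac.mul (φ : UnitFrac (𝒜 := 𝒜) m U) (ψ : UnitFrac (𝒜 := 𝒜) n U) : UnitFrac (𝒜 := 𝒜) (m + n) U where
  i := φ.i + ψ.i
  j := φ.j + ψ.j
  num := φ.num * ψ.num
  den := φ.den * ψ.den
  num_mem := SetLike.mul_mem_graded φ.num_mem ψ.num_mem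
  den_mem := SetLike.mul_mem_graded φ.den_mem ψ.den_mem
  deg := by have := φ.deg; have := ψ.deg; push_cast; omega
  num_ne x := mul_notMem (φ.num_ne x) (ψ.num_ne x)
  den_ne x := mul_notMem (φ.den_ne x) (ψ.den_ne x)

/-- A fraction of equal degree. -/
def UnitFrac.cast (φ : UnitFrac (𝒜 := 𝒜) m U) (h : m = n) : UnitFrac (𝒜 := 𝒜) n U :=
  { φ with deg := h ▸ φ.deg }

/-- The fraction `1 / 1`. -/
def UnitFrac.one : UnitFrac (𝒜 := 𝒜) 0 U where
  i := 0
  j := 0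
  num := 1
  den := 1
  num_mem := SetLike.GradedOne.one_mem
  den_mem := SetLike.GradedOne.one_mem
  deg := by simp
  num_ne x h := x.1.isPrime.ne_top ((Ideal.eq_top_iff_one _).mpr h)
  den_ne x h := x.1.isPrime.ne_top ((Ideal.eq_top_iff_one _).mpr h)

end Groth.Agent.GrTwistX

namespace Groth.Agent.ProjX

open Groth.Agent

variable {Y P : Scheme.{u}} {𝒮 : RelProj.QCGrAlg Y} {p : P ⟶ Y}
  {chart : ∀ (U : Y.Opens) (hU : IsAffineOpen U), (((p ⁻¹ᵁ U : P.Opens) : Scheme.{u}) ≅ Proj (𝒮.deg U hU))}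
  {l m k : ℤ} {L L' L'' : P.Modules}
  {lam : ∀ (U : Y.Opens) (hU : IsAffineOpen U),
    L ⟶ (Scheme.Modules.pushforward (RelProj.emb p chart U hU)).obj (GrTwist.twist (𝒮.deg U hU) l)}
  {lam' : ∀ (U : Y.Opens) (hU : IsAffineOpen U),
    L' ⟶ (Scheme.Modules.pushforward (RelProj.emb p chart U hU)).obj (GrTwist.twist (𝒮.deg U hU) m)}
  {lam'' : ∀ (U : Y.Opens) (hU : IsAffineOpen U),
    L'' ⟶ (Scheme.Modules.pushforward (RelProj.emb p chart U hU)).obj (GrTwist.twist (𝒮.deg U hU) k)}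
  (hP : RelProj.IsRelProj 𝒮 p chart) (hL : RelProj.IsRelTwist 𝒮 p chart l L lam)
  (hL' : RelProj.IsRelTwist 𝒮 p chart m L' lam') (hL'' : RelProj.IsRelTwist 𝒮 p chart k L'' lam'')

include hL hL' hL'' in
lemma exists_mulFrame (hk : l + m = k) (U : Y.Opens) (hU : IsAffineOpen U) {D : (Proj (𝒮.deg U hU)).Opens}
    (φ : GrTwistX.UnitFrac (𝒜 := 𝒮.deg U hU) l D) (ψ : GrTwistX.UnitFrac (𝒜 := 𝒮.deg U hU) m D) :
    ∃ (e : Γ(L, RelProj.emb p chart U hU ''ᵁ D)) (e' : Γ(L', RelProj.emb p chart U hU ''ᵁ D))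
      (e'' : Γ(L'', RelProj.emb p chart U hU ''ᵁ D)),
      InvX.IsFrame e ∧ InvX.IsFrame e' ∧ InvX.IsFrame e'' ∧ IsMulAt lam lam' lam'' U hU e e' e'' := by
  obtain ⟨e, he, hv⟩ := exists_frame_chart hL U hU φ
  obtain ⟨e', he', hv'⟩ := exists_frame_chart hL' U hU ψ
  obtain ⟨e'', he'', hv''⟩ := exists_frame_chart hL'' U hU ((φ.mul ψ).cast hk)
  refine ⟨e, e', e'', he, he', he'', fun ⟨y, hy⟩ => ?_⟩
  have hyD : y ∈ D := ((RelProj.emb p chart U hU).preimage_image_eq D).le hy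
  rw [hv y hy hyD, hv' y hy hyD, hv'' y hy hyD, Localization.mk_mul]
  rfl

lemma exists_chart_point (x : P) : ∃ (U : Y.Opens) (hU : IsAffineOpen U) (y : Proj (𝒮.deg U hU)),
    RelProj.emb p chart U hU y = x := by
  obtain ⟨_, ⟨U, hU, rfl⟩, hxU, -⟩ := Y.isBasis_affineOpens.exists_subset_of_mem_open
    (Set.mem_univ (p x)) isOpen_univ
  have hxr : x ∈ (RelProj.emb p chart U hU).opensRange := by rw [RelTildeX.opensRange_emb]; exact hxU
  obtain ⟨y, hy⟩ := hxr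
  exact ⟨U, hU, y, hy⟩

include hP hL hL' hL'' in
theorem nonempty_tensor_iso (hgen : 𝒮.IsGenDegOne) (hk : l + m = k) :
    Nonempty (CohB1.tensorMod L L' ≅ L'') := by
  have hex : ∀ x : P, ∃ (U : Y.Opens) (hU : IsAffineOpen U) (y : Proj (𝒮.deg U hU)) (f : 𝒮.presheaf.obj (op U)),
      f ∈ 𝒮.deg U hU 1 ∧ y ∈ Proj.basicOpen (𝒮.deg U hU) f ∧ RelProj.emb p chart U hU y = x := fun x => by
    obtain ⟨U, hU, y, hy⟩ := exists_chart_point (chart := chart) x
    obtain ⟨f, hfy⟩ := Opens.mem_iSup.1 ((iSup_basicOpen_deg_one hgen U hU _ Ideal.subset_span).ge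
      (trivial : y ∈ (⊤ : (Proj (𝒮.deg U hU)).Opens)))
    exact ⟨U, hU, y, f.1, f.2, hfy, hy⟩
  choose U hU y f hf hfy hy using hex
  have hfr := fun x : P => exists_mulFrame hL hL' hL'' hk (U x) (hU x)
    ((GrTwistX.powFrac (U := Proj.basicOpen (𝒮.deg (U x) (hU x)) (f x)) (hf x) SetLike.GradedOne.one_mem
      (zero_add 1).symm l (fun z => z.2) (fun z h => z.1.isPrime.ne_top ((Ideal.eq_top_iff_one _).mpr h))).cast
        (by rw [Nat.cast_one, mul_one]))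
    ((GrTwistX.powFrac (U := Proj.basicOpen (𝒮.deg (U x) (hU x)) (f x)) (hf x) SetLike.GradedOne.one_mem
      (zero_add 1).symm m (fun z => z.2) (fun z h => z.1.isPrime.ne_top ((Ideal.eq_top_iff_one _).mpr h))).cast
        (by rw [Nat.cast_one, mul_one]))
  choose e e' e'' he he' he'' hmul using hfr
  refine AmpleY.nonempty_tensorMod_iso_of_frames
    (fun x => RelProj.emb p chart (U x) (hU x) ''ᵁ Proj.basicOpen (𝒮.deg (U x) (hU x)) (f x)) (fun x => ⟨x, y x, hfy x, hy x⟩) e e' e'' he he' he''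
    fun a b W ha hb g g' hg hg' => ?_
  exact transition hP hL hL' hL'' ((Scheme.Hom.image_le_opensRange _ _).trans (RelTildeX.opensRange_emb _ _ _ _).le)
    ((Scheme.Hom.image_le_opensRange _ _).trans (RelTildeX.opensRange_emb _ _ _ _).le) (hmul a) (hmul b) W ha hb g g' hg hg'

include hP hL in
theorem nonempty_iso_structureModule_of_deg_zero (hl : l = 0) (W : P.Opens) :
    Nonempty (L.restrict W.ι ≅ Coh.structureModule W.toScheme) := by
  subst hl
  obtain ⟨e, he, -⟩ := existsUnique_sect hP hL W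
    (fun U hU => GrTwistX.fracSect (GrTwistX.UnitFrac.one (U := RelProj.emb p chart U hU ⁻¹ᵁ W)))
    fun U hU r y hy => by
      refine Eq.trans ?_ (GrTwist.locMap_mk _ _ y _ _).symm
      exact congr_arg₂ Localization.mk (map_one _).symm (Subtype.ext (map_one _).symm)
  refine nonempty_iso_of_locus e (le_antisymm (AmpleX.locus_le e) fun x hx => ?_)
  obtain ⟨U, hU, y, rfl⟩ := exists_chart_point (chart := chart) x
  refine (inf_le_left : AmpleX.locus e ⊓ p ⁻¹ᵁ U ≤ AmpleX.locus e) ?_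
  rw [locus_inf_preimage e U hU hL, he U hU]
  refine ⟨y, AmpleX.le_locus _ le_rfl ?_ hx, rfl⟩
  rw [AModX.res_self]
  intro V hV
  exact GrTwistX.trivMap_bijective (GrTwistX.UnitFrac.one.res hV)

/-- Finitely many positive degree basic opens cover a quasi-compact open. -/
lemma exists_period_cover (U : P.Opens) (hU : IsCompact (U : Set P)) :
    ∃ d : ℕ, 0 < d ∧ ∀ x ∈ U, ∃ (V : Y.Opens) (hV : IsAffineOpen V) (e : ℕ) (f : 𝒮.presheaf.obj (op V))
      (y : Proj (𝒮.deg V hV)), e ∣ d ∧ f ∈ 𝒮.deg V hV e ∧ y ∈ Proj.basicOpen (𝒮.deg V hV) f ∧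
        RelProj.emb p chart V hV y = x := by
  classical
  have hex : ∀ x : P, ∃ (V : Y.Opens) (hV : IsAffineOpen V) (e : ℕ) (f : 𝒮.presheaf.obj (op V))
      (y : Proj (𝒮.deg V hV)), 0 < e ∧ f ∈ 𝒮.deg V hV e ∧ y ∈ Proj.basicOpen (𝒮.deg V hV) f ∧
        RelProj.emb p chart V hV y = x := fun x => by
    obtain ⟨V, hV, y, hy⟩ := exists_chart_point (chart := chart) x
    obtain ⟨f, d, hd, hf, hyf, -⟩ := GrModX.exists_basicOpen_le (𝒮.deg V hV) (y := y)
      (V := ⊤) trivial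
    exact ⟨V, hV, d, f, y, hd, hf, hyf, hy⟩
  choose V hV e f y he hf hyf hy using hex
  obtain ⟨t, ht⟩ := hU.elim_finite_subcover
    (fun x => ((RelProj.emb p chart (V x) (hV x) ''ᵁ Proj.basicOpen (𝒮.deg (V x) (hV x)) (f x) : P.Opens) : Set P))
    (fun x => Opens.isOpen _) (fun x _ => Set.mem_iUnion.2 ⟨x, y x, hyf x, hy x⟩)
  refine ⟨∏ x ∈ t, e x, Finset.prod_pos fun x _ => he x, fun x hx => ?_⟩
  obtain ⟨a, hat, z, hz, hzx⟩ := Set.mem_iUnion₂.1 (ht hx)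
  exact ⟨V a, hV a, e a, f a, z, Finset.dvd_prod_of_mem e hat, hf a, hz, hzx⟩

/-- A fraction of degree `n` on `D₊(f)`, `deg f ∣ n`. -/
def periodFrac (V : Y.Opens) (hV : IsAffineOpen V) {e : ℕ} {f : 𝒮.presheaf.obj (op V)} (hf : f ∈ 𝒮.deg V hV e)
    {n : ℤ} (h : (e : ℤ) ∣ n) {D : (Proj (𝒮.deg V hV)).Opens} (hD : D ≤ Proj.basicOpen (𝒮.deg V hV) f) :
    GrTwistX.UnitFrac (𝒜 := 𝒮.deg V hV) n D :=
  (GrTwistX.powFrac (U := D) hf SetLike.GradedOne.one_mem (zero_add e).symm h.choose (fun z => hD z.2)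
    (fun z h => z.1.isPrime.ne_top ((Ideal.eq_top_iff_one _).mpr h))).cast
      (by rw [mul_comm]; exact h.choose_spec.symm)

theorem exists_period_isInvertible (U : P.Opens) (hU : IsCompact (U : Set P)) :
    ∃ d : ℕ, 0 < d ∧ ∀ (n : ℤ), (d : ℤ) ∣ n →
      ∀ (L : P.Modules)
        (lam : ∀ (V : Y.Opens) (hV : IsAffineOpen V),
          L ⟶ (Scheme.Modules.pushforward (RelProj.emb p chart V hV)).obj (GrTwist.twist (𝒮.deg V hV) n)),
        RelProj.IsRelTwist 𝒮 p chart n L lam → PicF.IsInvertible (L.restrict U.ι) := by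
  obtain ⟨d, hd, hcov⟩ := exists_period_cover (chart := chart) U hU
  refine ⟨d, hd, fun n hn L lam hL => InvX.isInvertible_of_frames fun ⟨x, hx⟩ => ?_⟩
  obtain ⟨V, hV, e, f, y, hed, hf, hyf, rfl⟩ := hcov x hx
  let j := RelProj.emb p chart V hV
  let D : (Proj (𝒮.deg V hV)).Opens := Proj.basicOpen (𝒮.deg V hV) f ⊓ j ⁻¹ᵁ U
  obtain ⟨a, ha, -⟩ := exists_frame_chart hL V hV
    (periodFrac (D := D) V hV hf ((Int.natCast_dvd_natCast.2 hed).trans hn) inf_le_left)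
  have hle : j ''ᵁ D ≤ U := by
    rintro _ ⟨z, hz, rfl⟩
    exact hz.2
  have himg : U.ι ''ᵁ (U.ι ⁻¹ᵁ (j ''ᵁ D)) = j ''ᵁ D := by
    rw [Scheme.Hom.image_preimage_eq_opensRange_inf, Scheme.Opens.opensRange_ι, inf_eq_right.2 hle]
  exact ⟨U.ι ⁻¹ᵁ (j ''ᵁ D), ⟨y, ⟨hyf, hx⟩, rfl⟩, AModX.res L himg.le a,
    (AmpleX.isFrame_restrict_iff U.ι _).2 (ha.res himg.le)⟩

theorem exists_period_tensor_neg_iso (hP : RelProj.IsRelProj 𝒮 p chart) (U : P.Opens) (hU : IsCompact (U : Set P)) :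
    ∃ d : ℕ, 0 < d ∧ ∀ (n : ℤ), (d : ℤ) ∣ n →
      ∀ (L : P.Modules)
        (lam : ∀ (V : Y.Opens) (hV : IsAffineOpen V),
          L ⟶ (Scheme.Modules.pushforward (RelProj.emb p chart V hV)).obj (GrTwist.twist (𝒮.deg V hV) n)),
        RelProj.IsRelTwist 𝒮 p chart n L lam →
      ∀ (L' : P.Modules)
        (lam' : ∀ (V : Y.Opens) (hV : IsAffineOpen V),
          L' ⟶ (Scheme.Modules.pushforward (RelProj.emb p chart V hV)).obj (GrTwist.twist (𝒮.deg V hV) (-n))),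
        RelProj.IsRelTwist 𝒮 p chart (-n) L' lam' →
          Nonempty (CohB1.tensorMod (L.restrict U.ι) (L'.restrict U.ι) ≅ Coh.structureModule (U : Scheme.{u})) := by
  obtain ⟨d, hd, hcov⟩ := exists_period_cover (chart := chart) U hU
  refine ⟨d, hd, fun n hn L lam hL L' lam' hL' => ?_⟩
  obtain ⟨L₀, lam₀, hL₀⟩ := exists_isRelTwist hP (0 : ℤ)
  obtain ⟨i₀⟩ := nonempty_iso_structureModule_of_deg_zero hP hL₀ rfl U
  have hex : ∀ x : U.toScheme, ∃ (V : Y.Opens) (hV : IsAffineOpen V) (D : (Proj (𝒮.deg V hV)).Opens),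
      x.1 ∈ RelProj.emb p chart V hV ''ᵁ D ∧ RelProj.emb p chart V hV ''ᵁ D ≤ U ∧
      ∃ (e : Γ(L, RelProj.emb p chart V hV ''ᵁ D)) (e' : Γ(L', RelProj.emb p chart V hV ''ᵁ D))
        (e'' : Γ(L₀, RelProj.emb p chart V hV ''ᵁ D)),
        InvX.IsFrame e ∧ InvX.IsFrame e' ∧ InvX.IsFrame e'' ∧ IsMulAt lam lam' lam₀ V hV e e' e'' := by
    rintro ⟨x, hx⟩
    obtain ⟨V, hV, e, f, y, hed, hf, hyf, rfl⟩ := hcov x hx
    let D : (Proj (𝒮.deg V hV)).Opens := Proj.basicOpen (𝒮.deg V hV) f ⊓ RelProj.emb p chart V hV ⁻¹ᵁ U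
    have hdvd : (e : ℤ) ∣ n := (Int.natCast_dvd_natCast.2 hed).trans hn
    refine ⟨V, hV, D, ⟨y, ⟨hyf, hx⟩, rfl⟩, ?_, exists_mulFrame hL hL' hL₀ (add_neg_cancel n) V hV
      (periodFrac (D := D) V hV hf hdvd inf_le_left) (periodFrac (D := D) V hV hf (dvd_neg.2 hdvd) inf_le_left)⟩
    rintro _ ⟨z, hz, rfl⟩
    exact hz.2
  choose V hV D hxD hle e e' e'' he he' he'' hmul using hex
  have himg : ∀ x, U.ι ''ᵁ (U.ι ⁻¹ᵁ (RelProj.emb p chart (V x) (hV x) ''ᵁ D x)) =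
      RelProj.emb p chart (V x) (hV x) ''ᵁ D x := fun x => by
    rw [Scheme.Hom.image_preimage_eq_opensRange_inf, Scheme.Opens.opensRange_ι, inf_eq_right.2 (hle x)]
  obtain ⟨i⟩ := AmpleY.nonempty_tensorMod_iso_of_frames (M := L.restrict U.ι) (M' := L'.restrict U.ι)
    (N := L₀.restrict U.ι) (fun x => U.ι ⁻¹ᵁ (RelProj.emb p chart (V x) (hV x) ''ᵁ D x))
    (fun x => ⟨x, hxD x⟩) (fun x => AModX.res L (himg x).le (e x)) (fun x => AModX.res L' (himg x).le (e' x))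
    (fun x => AModX.res L₀ (himg x).le (e'' x))
    (fun x => (AmpleX.isFrame_restrict_iff U.ι _).2 ((he x).res (himg x).le))
    (fun x => (AmpleX.isFrame_restrict_iff U.ι _).2 ((he' x).res (himg x).le))
    (fun x => (AmpleX.isFrame_restrict_iff U.ι _).2 ((he'' x).res (himg x).le))
    (fun a b W ha hb g g' hg hg' => by
      let c : Γ(U.toScheme, W) → Γ(P, U.ι ''ᵁ W) := fun r => (U.ι.appIso W).inv r
      have hWa : U.ι ''ᵁ W ≤ RelProj.emb p chart (V a) (hV a) ''ᵁ D a := (U.ι.image_mono ha).trans (himg a).le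
      have hWb : U.ι ''ᵁ W ≤ RelProj.emb p chart (V b) (hV b) ''ᵁ D b := (U.ι.image_mono hb).trans (himg b).le
      have h1 : AModX.res L hWb (e b) = c g • AModX.res L hWa (e a) := by
        have := hg
        change AModX.res L (U.ι.image_mono hb) _ = c g • AModX.res L (U.ι.image_mono ha) _ at this
        rwa [AModX.res_res, AModX.res_res] at this
      have h2 : AModX.res L' hWb (e' b) = c g' • AModX.res L' hWa (e' a) := by
        have := hg'
        change AModX.res L' (U.ι.image_mono hb) _ = c g' • AModX.res L' (U.ι.image_mono ha) _ at this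
        rwa [AModX.res_res, AModX.res_res] at this
      have h3 := transition hP hL hL' hL₀
        ((Scheme.Hom.image_le_opensRange _ _).trans (RelTildeX.opensRange_emb _ _ _ _).le)
        ((Scheme.Hom.image_le_opensRange _ _).trans (RelTildeX.opensRange_emb _ _ _ _).le)
        (hmul a) (hmul b) (U.ι ''ᵁ W) hWa hWb (c g) (c g') h1 h2
      show AModX.res L₀ (U.ι.image_mono hb) _ = c (g * g') • AModX.res L₀ (U.ι.image_mono ha) _
      rw [AModX.res_res, AModX.res_res, show c (g * g') = c g * c g' from map_mul _ _ _]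
      exact h3)
  exact ⟨i ≪≫ i₀⟩

end Groth.Agent.ProjX
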