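import Groth.Agent.ProjX.TwistMul
import Groth.Agent.DivX.MeroMod

/-!
# Twisting sheaves and morphisms of relative `Proj`
-/

set_option linter.style.haveILetI false
set_option linter.unusedSectionVars false
set_option backward.isDefEq.respectTransparency false
set_option backward.isDefEq.respectTransparency.types false

noncomputable section

universe u

open CategoryTheory CategoryTheory.Limits AlgebraicGeometry TopologicalSpace Opposite
open scoped HomogeneousIdeal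

namespace Groth.Agent.ProjX

open Groth.Agent

section square

variable {A B C D σ τ υ ω : Type u} [CommRing A] [SetLike σ A] [AddSubgroupClass σ A]
  [CommRing B] [SetLike τ B] [AddSubgroupClass τ B] [CommRing C] [SetLike υ C] [AddSubgroupClass υ C]
  [CommRing D] [SetLike ω D] [AddSubgroupClass ω D]
  {𝒜 : ℕ → σ} [GradedRing 𝒜] {ℬ : ℕ → τ} [GradedRing ℬ] {𝒞 : ℕ → υ} [GradedRing 𝒞]
  {𝒟 : ℕ → ω} [GradedRing 𝒟]

/-- A commutative square of graded rings acts the same way on fractions. -/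
lemma locMap_square (f₁ : 𝒜 →+*ᵍ ℬ) (hf₁ : ℬ₊ ≤ (𝒜₊).map f₁) (g₁ : ℬ →+*ᵍ 𝒟) (hg₁ : 𝒟₊ ≤ (ℬ₊).map g₁)
    (f₂ : 𝒜 →+*ᵍ 𝒞) (hf₂ : 𝒞₊ ≤ (𝒜₊).map f₂) (g₂ : 𝒞 →+*ᵍ 𝒟) (hg₂ : 𝒟₊ ≤ (𝒞₊).map g₂)
    (e : ∀ a, g₁ (f₁ a) = g₂ (f₂ a)) (z : ProjectiveSpectrum 𝒟) {V : Set (ProjectiveSpectrum 𝒜)}
    (q : ∀ x : V, GrTwist.Loc 𝒜 x.1)
    (h₁ : ProjectiveSpectrum.comap f₁ hf₁ (ProjectiveSpectrum.comap g₁ hg₁ z) ∈ V)
    (h₂ : ProjectiveSpectrum.comap f₂ hf₂ (ProjectiveSpectrum.comap g₂ hg₂ z) ∈ V) :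
    GrTwist.locMap g₁ hg₁ z (GrTwist.locMap f₁ hf₁ _ (q ⟨_, h₁⟩)) =
      GrTwist.locMap g₂ hg₂ z (GrTwist.locMap f₂ hf₂ _ (q ⟨_, h₂⟩)) := by
  obtain ⟨a, ⟨s, hs⟩, ha⟩ := IsLocalization.exists_mk'_eq (ProjectiveSpectrum.comap f₁ hf₁
    (ProjectiveSpectrum.comap g₁ hg₁ z)).asHomogeneousIdeal.toIdeal.primeCompl (q ⟨_, h₁⟩)
  rw [← Localization.mk_eq_mk'] at ha
  have hpt : ProjectiveSpectrum.comap f₂ hf₂ (ProjectiveSpectrum.comap g₂ hg₂ z) =
      ProjectiveSpectrum.comap f₁ hf₁ (ProjectiveSpectrum.comap g₁ hg₁ z) :=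
    ProjectiveSpectrum.ext (HomogeneousIdeal.ext' fun i x _ => by
      show g₂ (f₂ x) ∈ z.asHomogeneousIdeal ↔ g₁ (f₁ x) ∈ z.asHomogeneousIdeal
      rw [e])
  have key : ∀ (x : ProjectiveSpectrum 𝒜) (_ : x = ProjectiveSpectrum.comap f₁ hf₁ (ProjectiveSpectrum.comap g₁ hg₁ z))
      (hx : x ∈ V) (hx' : s ∉ x.asHomogeneousIdeal), q ⟨x, hx⟩ = Localization.mk a ⟨s, hx'⟩ := by
    intro x he hx hx'
    subst he
    exact ha.symm
  have hs2 : s ∉ (ProjectiveSpectrum.comap f₂ hf₂ (ProjectiveSpectrum.comap g₂ hg₂ z)).asHomogeneousIdeal := by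
    rw [hpt]; exact hs
  rw [← ha, key _ hpt h₂ hs2, GrTwist.locMap_mk, GrTwist.locMap_mk, GrTwist.locMap_mk, GrTwist.locMap_mk]
  exact congr_arg₂ Localization.mk (e a) (Subtype.ext (e s))

end square

variable {Y PA PB : Scheme.{u}} {𝒜 ℬ : RelProj.QCGrAlg Y} {φ : 𝒜.toQCAlg ⟶ ℬ.toQCAlg}
  {hφ : RelProj.IsGradedHom φ}
  {hirr : ∀ (U : Y.Opens) (hU : IsAffineOpen U),
    (ℬ.deg U hU)₊ ≤ ((𝒜.deg U hU)₊).map (RelProj.gradedHomAt φ hφ U hU)}
  {pA : PA ⟶ Y} {pB : PB ⟶ Y}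
  {chartA : ∀ (U : Y.Opens) (hU : IsAffineOpen U), (((pA ⁻¹ᵁ U : PA.Opens) : Scheme.{u}) ≅ Proj (𝒜.deg U hU))}
  {chartB : ∀ (U : Y.Opens) (hU : IsAffineOpen U), (((pB ⁻¹ᵁ U : PB.Opens) : Scheme.{u}) ≅ Proj (ℬ.deg U hU))}
  {h : PB ⟶ PA} {n : ℤ} {LA : PA.Modules}
  {lamA : ∀ (U : Y.Opens) (hU : IsAffineOpen U),
    LA ⟶ (Scheme.Modules.pushforward (RelProj.emb pA chartA U hU)).obj (GrTwist.twist (𝒜.deg U hU) n)}
  {LB : PB.Modules}
  {lamB : ∀ (U : Y.Opens) (hU : IsAffineOpen U),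
    LB ⟶ (Scheme.Modules.pushforward (RelProj.emb pB chartB U hU)).obj (GrTwist.twist (ℬ.deg U hU) n)}

lemma emb_relProjMap (hh : RelProj.IsRelProjMap φ hφ hirr chartA chartB h) (U : Y.Opens) (hU : IsAffineOpen U) :
    RelProj.emb pB chartB U hU ≫ h =
      Proj.map (RelProj.gradedHomAt φ hφ U hU) (hirr U hU) ≫ RelProj.emb pA chartA U hU := by
  rw [RelProj.emb, Category.assoc, hh U hU, Iso.inv_hom_id_assoc, RelProj.emb]

lemma emb_relProjMap_base (hh : RelProj.IsRelProjMap φ hφ hirr chartA chartB h) (U : Y.Opens) (hU : IsAffineOpen U)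
    (y : ProjectiveSpectrum (ℬ.deg U hU)) :
    (RelProj.emb pA chartA U hU).base
        (ProjectiveSpectrum.comap (RelProj.gradedHomAt φ hφ U hU) (hirr U hU) y) =
      h ((RelProj.emb pB chartB U hU).base y) :=
  (congrArg (fun ψ : Proj (ℬ.deg U hU) ⟶ PA => ψ.base y) (emb_relProjMap hh U hU)).symm

lemma emb_relProjMap_app (hh : RelProj.IsRelProjMap φ hφ hirr chartA chartB h) (U : Y.Opens) (hU : IsAffineOpen U)
    (W : PA.Opens) (r : Γ(PA, W)) (y : (RelProj.emb pB chartB U hU ⁻¹ᵁ (h ⁻¹ᵁ W) : (Proj (ℬ.deg U hU)).Opens))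
    (hy' : (RelProj.emb pA chartA U hU).base
      (ProjectiveSpectrum.comap (RelProj.gradedHomAt φ hφ U hU) (hirr U hU) y.1) ∈ W) :
    (((RelProj.emb pB chartB U hU).app (h ⁻¹ᵁ W) (h.app W r)).1 y : GrTwist.A0 (ℬ.deg U hU) y.1).val =
      GrTwist.locMap (RelProj.gradedHomAt φ hφ U hU) (hirr U hU) y.1
        (((RelProj.emb pA chartA U hU).app W r).1 ⟨_, hy'⟩ : GrTwist.A0 (𝒜.deg U hU) _).val := by
  let ψ := RelProj.gradedHomAt φ hφ U hU
  have hle : RelProj.emb pB chartB U hU ⁻¹ᵁ (h ⁻¹ᵁ W) ≤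
      (Proj.map ψ (hirr U hU) ≫ RelProj.emb pA chartA U hU) ⁻¹ᵁ W := fun z hz => by
    show (Proj.map ψ (hirr U hU) ≫ RelProj.emb pA chartA U hU) z ∈ W
    rw [← emb_relProjMap hh U hU]
    exact hz
  have h1 : ((RelProj.emb pB chartB U hU).app (h ⁻¹ᵁ W) (h.app W r)).1 y =
      ((RelProj.emb pB chartB U hU ≫ h).appLE W (RelProj.emb pB chartB U hU ⁻¹ᵁ (h ⁻¹ᵁ W)) le_rfl r).1 y := rfl
  have h2 : (RelProj.emb pB chartB U hU ≫ h).appLE W (RelProj.emb pB chartB U hU ⁻¹ᵁ (h ⁻¹ᵁ W)) le_rfl r =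
      (Proj.map ψ (hirr U hU) ≫ RelProj.emb pA chartA U hU).appLE W
        (RelProj.emb pB chartB U hU ⁻¹ᵁ (h ⁻¹ᵁ W)) hle r := by
    simp only [emb_relProjMap hh U hU]
    rfl
  rw [h1, h2]
  exact HomogeneousLocalization.val_localRingHom _

lemma cval_add {P : Scheme.{u}} {𝒮 : RelProj.QCGrAlg Y} {p : P ⟶ Y}
    {chart : ∀ (U : Y.Opens) (hU : IsAffineOpen U), (((p ⁻¹ᵁ U : P.Opens) : Scheme.{u}) ≅ Proj (𝒮.deg U hU))}
    {l : ℤ} {L : P.Modules}
    (lam : ∀ (U : Y.Opens) (hU : IsAffineOpen U),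
      L ⟶ (Scheme.Modules.pushforward (RelProj.emb p chart U hU)).obj (GrTwist.twist (𝒮.deg U hU) l))
    (U : Y.Opens) (hU : IsAffineOpen U) {W : P.Opens} (s s' : Γ(L, W))
    (y : (RelProj.emb p chart U hU ⁻¹ᵁ W : (Proj (𝒮.deg U hU)).Opens)) :
    cval lam U hU (s + s') y = cval lam U hU s y + cval lam U hU s' y := by
  have h := map_add ((lam U hU).app W).hom s s'
  unfold cval
  erw [h]
  rfl

variable (hh : RelProj.IsRelProjMap φ hφ hirr chartA chartB h)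

include hh in
lemma preimage_subset_comap (U : Y.Opens) (hU : IsAffineOpen U) (W : PA.Opens) :
    (RelProj.emb pB chartB U hU ⁻¹ᵁ (h ⁻¹ᵁ W)).1 ⊆
      ProjectiveSpectrum.comap (RelProj.gradedHomAt φ hφ U hU) (hirr U hU) ⁻¹'
        (RelProj.emb pA chartA U hU ⁻¹ᵁ W).1 := fun y hy => by
  show (RelProj.emb pA chartA U hU).base _ ∈ W
  rw [emb_relProjMap_base hh]
  exact hy

variable (lamA lamB) in
/-- `t` is the image of `s` in every chart. -/
def IsComapSect (W : PA.Opens) (s : Γ(LA, W)) (t : Γ(LB, h ⁻¹ᵁ W)) : Prop :=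
  ∀ (U : Y.Opens) (hU : IsAffineOpen U) (y : ProjectiveSpectrum (ℬ.deg U hU))
    (hy : (RelProj.emb pB chartB U hU).base y ∈ h ⁻¹ᵁ W)
    (hy' : (RelProj.emb pA chartA U hU).base
      (ProjectiveSpectrum.comap (RelProj.gradedHomAt φ hφ U hU) (hirr U hU) y) ∈ W),
    cval lamB U hU t ⟨y, hy⟩ = GrTwist.locMap (RelProj.gradedHomAt φ hφ U hU) (hirr U hU) y
      (cval lamA U hU s ⟨_, hy'⟩)

variable (hA : RelProj.IsRelProj 𝒜 pA chartA) (hB : RelProj.IsRelProj ℬ pB chartB)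
  (hLA : RelProj.IsRelTwist 𝒜 pA chartA n LA lamA) (hLB : RelProj.IsRelTwist ℬ pB chartB n LB lamB)

include hh hA hB hLA hLB in
theorem existsUnique_comapSect (W : PA.Opens) (s : Γ(LA, W)) :
    ∃! t : Γ(LB, h ⁻¹ᵁ W), IsComapSect (hirr := hirr) lamA lamB W s t := by
  obtain ⟨t, ht, htu⟩ := existsUnique_sect hB hLB (h ⁻¹ᵁ W)
    (fun U hU => GrTwist.comapApp (RelProj.gradedHomAt φ hφ U hU) (hirr U hU) n
      (RelProj.emb pA chartA U hU ⁻¹ᵁ W) (RelProj.emb pB chartB U hU ⁻¹ᵁ (h ⁻¹ᵁ W)) (preimage_subset_comap hh U hU W)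
      ((lamA U hU).app W s)) fun U hU r z hz => by
    have hzU := mem_comap_of_mem hB hU r hz
    have h₂ : (RelProj.emb pA chartA U hU).base (ProjectiveSpectrum.comap _ (hirr U hU)
        (ProjectiveSpectrum.comap _ (ℬ.irrelevant_le_map U hU r) z)) ∈ W := preimage_subset_comap hh U hU W hzU
    have h₁ : (RelProj.emb pA chartA (Y.basicOpen r) (hU.basicOpen r)).base
        (ProjectiveSpectrum.comap _ (hirr (Y.basicOpen r) (hU.basicOpen r)) z) ∈ W :=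
      preimage_subset_comap hh _ (hU.basicOpen r) W hz
    refine (congrArg (GrTwist.locMap (RelProj.gradedHomAt φ hφ (Y.basicOpen r) (hU.basicOpen r))
      (hirr _ (hU.basicOpen r)) z) (hLA.compat U hU r W s _ h₁ (mem_comap_of_mem hA hU r h₁))).trans ?_
    exact locMap_square (𝒜.res hU (hU.basicOpen r) (Y.basicOpen_le r)) (𝒜.irrelevant_le_map U hU r)
      (RelProj.gradedHomAt φ hφ (Y.basicOpen r) (hU.basicOpen r)) (hirr _ (hU.basicOpen r))
      (RelProj.gradedHomAt φ hφ U hU) (hirr U hU)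
      (ℬ.res hU (hU.basicOpen r) (Y.basicOpen_le r)) (ℬ.irrelevant_le_map U hU r)
      (fun a => congr($(φ.hom.naturality (homOfLE (Y.basicOpen_le r)).op).hom a)) z
      (V := ((RelProj.emb pA chartA U hU ⁻¹ᵁ W : (Proj (𝒜.deg U hU)).Opens) : Set (Proj (𝒜.deg U hU))))
      (fun x => GrTwist.val (V := RelProj.emb pA chartA U hU ⁻¹ᵁ W) ((lamA U hU).app W s) x)
      (mem_comap_of_mem hA hU r h₁) h₂
  refine ⟨t, fun U hU y hy hy' => ?_, fun t' ht' => htu t' fun U hU => twist_ext fun y => ?_⟩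
  · rw [cval, ht U hU]
    rfl
  · exact ht' U hU y.1 y.2 (preimage_subset_comap hh U hU W y.2)

lemma IsComapSect.add {W : PA.Opens} {s s' : Γ(LA, W)} {t t' : Γ(LB, h ⁻¹ᵁ W)}
    (e : IsComapSect (hirr := hirr) lamA lamB W s t) (e' : IsComapSect (hirr := hirr) lamA lamB W s' t') :
    IsComapSect (hirr := hirr) lamA lamB W (s + s') (t + t') := fun U hU y hy hy' => by
  rw [cval_add, cval_add, e U hU y hy hy', e' U hU y hy hy', map_add]

lemma IsComapSect.res {W W' : PA.Opens} (i : W' ≤ W) {s : Γ(LA, W)} {t : Γ(LB, h ⁻¹ᵁ W)}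
    (e : IsComapSect (hirr := hirr) lamA lamB W s t) :
    IsComapSect (hirr := hirr) lamA lamB W' (AModX.res LA i s) (AModX.res LB (h.preimage_mono i) t) :=
  fun U hU y hy hy' => by
    unfold cval
    rw [val_lam_res, val_lam_res]
    exact e U hU y (h.preimage_mono i hy) (i hy')

include hh in
lemma IsComapSect.smul {W : PA.Opens} (r : Γ(PA, W)) {s : Γ(LA, W)} {t : Γ(LB, h ⁻¹ᵁ W)}
    (e : IsComapSect (hirr := hirr) lamA lamB W s t) :
    IsComapSect (hirr := hirr) lamA lamB W (r • s) (h.app W r • t) := fun U hU y hy hy' => by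
  rw [cval_smul, cval_smul, map_mul, e U hU y hy hy', emb_relProjMap_app hh U hU W r ⟨y, hy⟩ hy']

include hh hA hB hLA hLB in
theorem existsUnique_comap :
    ∃! θ : LA ⟶ (Scheme.Modules.pushforward h).obj LB,
      ∀ (U : Y.Opens) (hU : IsAffineOpen U) (W : PA.Opens) (s : Γ(LA, W))
        (y : ProjectiveSpectrum (ℬ.deg U hU))
        (hy : (RelProj.emb pB chartB U hU).base y ∈ h ⁻¹ᵁ W)
        (hy' : (RelProj.emb pA chartA U hU).base
          (ProjectiveSpectrum.comap (RelProj.gradedHomAt φ hφ U hU) (hirr U hU) y) ∈ W),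
        GrTwist.val (V := RelProj.emb pB chartB U hU ⁻¹ᵁ (h ⁻¹ᵁ W)) ((lamB U hU).app (h ⁻¹ᵁ W) (θ.app W s)) ⟨y, hy⟩ =
          GrTwist.locMap (RelProj.gradedHomAt φ hφ U hU) (hirr U hU) y
            (GrTwist.val (V := RelProj.emb pA chartA U hU ⁻¹ᵁ W) ((lamA U hU).app W s) ⟨_, hy'⟩) := by
  choose T hT hTu using existsUnique_comapSect hh hA hB hLA hLB
  have hadd : ∀ (W : PA.Opens) (s s' : Γ(LA, W)), T W (s + s') = T W s + T W s' := fun W s s' =>
    (hTu W (s + s') _ ((hT W s).add (hT W s'))).symm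
  let ψ : LA.presheaf ⟶ ((Scheme.Modules.pushforward h).obj LB).presheaf :=
    { app := fun W => AddCommGrpCat.ofHom (AddMonoidHom.mk' (T W.unop) (hadd W.unop))
      naturality := fun W W' i => by
        ext s
        exact (hTu W'.unop _ _ ((hT W.unop s).res i.unop.le)).symm }
  have hlin : ∀ (W : (Opens PA)ᵒᵖ) (r : Γ(PA, W.unop)) (s : Γ(LA, W.unop)),
      ψ.app W (r • s) = r • (show Γ((Scheme.Modules.pushforward h).obj LB, W.unop) from ψ.app W s) := fun W r s =>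
    (hTu W.unop _ _ ((hT W.unop s).smul hh r)).symm
  refine ⟨⟨PresheafOfModules.homMk ψ hlin⟩, fun U hU W s y hy hy' => hT W s U hU y hy hy', fun θ' hθ' => ?_⟩
  refine Scheme.Modules.hom_ext _ _ fun W => ?_
  ext s
  exact hTu W s _ fun U hU y hy hy' => hθ' U hU W s y hy hy'

include hh hA hLA hLB in
theorem isIso_comap_adjunct (hgen : 𝒜.IsGenDegOne) (θ : LA ⟶ (Scheme.Modules.pushforward h).obj LB)
    (hθ : ∀ (U : Y.Opens) (hU : IsAffineOpen U) (W : PA.Opens) (s : Γ(LA, W))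
        (y : ProjectiveSpectrum (ℬ.deg U hU))
        (hy : (RelProj.emb pB chartB U hU).base y ∈ h ⁻¹ᵁ W)
        (hy' : (RelProj.emb pA chartA U hU).base
          (ProjectiveSpectrum.comap (RelProj.gradedHomAt φ hφ U hU) (hirr U hU) y) ∈ W),
        GrTwist.val (V := RelProj.emb pB chartB U hU ⁻¹ᵁ (h ⁻¹ᵁ W)) ((lamB U hU).app (h ⁻¹ᵁ W) (θ.app W s)) ⟨y, hy⟩ =
          GrTwist.locMap (RelProj.gradedHomAt φ hφ U hU) (hirr U hU) y
            (GrTwist.val (V := RelProj.emb pA chartA U hU ⁻¹ᵁ W) ((lamA U hU).app W s) ⟨_, hy'⟩)) :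
    IsIso (((Scheme.Modules.pullbackPushforwardAdjunction h).homEquiv LA LB).symm θ) := by
  refine DivX.isIso_of_frames _ fun x => ?_
  obtain ⟨U, hU, y, rfl⟩ := exists_chart_point (chart := chartB) x
  let ψ := RelProj.gradedHomAt φ hφ U hU
  let jA := RelProj.emb pA chartA U hU
  let jB := RelProj.emb pB chartB U hU
  let z : Proj (𝒜.deg U hU) := ProjectiveSpectrum.comap ψ (hirr U hU) y
  obtain ⟨f, hfz⟩ := Opens.mem_iSup.1 ((iSup_basicOpen_deg_one hgen U hU _ Ideal.subset_span).ge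
    (trivial : z ∈ (⊤ : (Proj (𝒜.deg U hU)).Opens)))
  let χ := (GrTwistX.powFrac (U := Proj.basicOpen (𝒜.deg U hU) f.1) f.2 SetLike.GradedOne.one_mem
    (zero_add 1).symm n (fun z => z.2) (fun z h => z.1.isPrime.ne_top ((Ideal.eq_top_iff_one _).mpr h))).cast
      (show n * ((1 : ℕ) : ℤ) = n by rw [Nat.cast_one, mul_one])
  obtain ⟨eA, heA, hvA⟩ := exists_frame_chart hLA U hU χ
  let WA := jA ''ᵁ Proj.basicOpen (𝒜.deg U hU) f.1
  let V := jB ⁻¹ᵁ (h ⁻¹ᵁ WA)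
  let t : Γ(LB, h ⁻¹ᵁ WA) := θ.app WA eA
  have hyV : y ∈ V := by
    show h (jB y) ∈ WA
    rw [← emb_relProjMap_base hh]
    exact ⟨z, hfz, rfl⟩
  have hsub : ∀ w : V, ProjectiveSpectrum.comap ψ (hirr U hU) w.1 ∈ Proj.basicOpen (𝒜.deg U hU) f.1 :=
    fun w => (jA.preimage_image_eq _).le (preimage_subset_comap hh U hU WA w.2)
  let χ' : GrTwistX.UnitFrac (𝒜 := ℬ.deg U hU) n V :=
    { i := χ.i
      j := χ.j
      num := ψ χ.num
      den := ψ χ.den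
      num_mem := ψ.map_mem χ.num_mem
      den_mem := ψ.map_mem χ.den_mem
      deg := χ.deg
      num_ne := fun w => χ.num_ne ⟨_, hsub w⟩
      den_ne := fun w => χ.den_ne ⟨_, hsub w⟩ }
  have hlam : (lamB U hU).app (h ⁻¹ᵁ WA) t = GrTwistX.fracSect χ' := twist_ext fun w => by
    refine (hθ U hU WA eA w.1 w.2 (preimage_subset_comap hh U hU WA w.2)).trans ?_
    refine (congrArg (GrTwist.locMap ψ (hirr U hU) w.1)
      (hvA _ (preimage_subset_comap hh U hU WA w.2) (hsub w))).trans ?_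
    exact GrTwist.locMap_mk ψ (hirr U hU) w.1 _ _
  have hloc : jB ''ᵁ V ≤ AmpleX.locus t := by
    refine le_trans ?_ (inf_le_left (b := pB ⁻¹ᵁ U))
    rw [locus_inf_preimage t U hU hLB, hlam]
    refine Scheme.Hom.image_mono _ (AmpleX.le_locus _ le_rfl ?_)
    rw [AModX.res_self]
    intro W hW
    exact GrTwistX.trivMap_bijective (χ'.res hW)
  have hle : jB ''ᵁ V ≤ h ⁻¹ᵁ WA := hloc.trans (AmpleX.locus_le t)
  refine ⟨jB ''ᵁ V, ⟨y, hyV, rfl⟩, AModX.res _ hle (InvX.pullElt h eA), (InvX.isFrame_pullElt h heA).res hle, ?_⟩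
  have hadj : (((Scheme.Modules.pullbackPushforwardAdjunction h).homEquiv LA LB).symm θ).app (h ⁻¹ᵁ WA)
      (InvX.pullElt h eA) = t := by
    have e := ((Scheme.Modules.pullbackPushforwardAdjunction h).homEquiv LA LB).apply_symm_apply θ
    rw [Adjunction.homEquiv_unit] at e
    exact congrArg (fun χ : LA ⟶ (Scheme.Modules.pushforward h).obj LB => χ.app WA eA) e
  rw [AModX.app_res, hadj]
  exact AmpleX.isFrame_res_of_le t hloc

include hh hA hB hLA hLB in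
theorem nonempty_pullback_relTwist_iso (hgen : 𝒜.IsGenDegOne) :
    Nonempty ((Scheme.Modules.pullback h).obj LA ≅ LB) := by
  obtain ⟨θ, hθ, -⟩ := existsUnique_comap hh hA hB hLA hLB
  haveI := isIso_comap_adjunct hh hA hLA hLB hgen θ hθ
  exact ⟨asIso (((Scheme.Modules.pullbackPushforwardAdjunction h).homEquiv LA LB).symm θ)⟩

end Groth.Agent.ProjX
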