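import Groth.Prelude.Def_RelProj
import Mathlib.AlgebraicGeometry.Sites.SmallAffineZariski
import Mathlib.AlgebraicGeometry.Morphisms.Affine

/-!
# A quasi-coherent graded algebra from compatible graded rings on affine opens
-/

set_option linter.style.haveILetI false
set_option backward.isDefEq.respectTransparency false
set_option backward.isDefEq.respectTransparency.types false

universe u

open CategoryTheory CategoryTheory.Limits AlgebraicGeometry TopologicalSpace Opposite DirectSum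

namespace Groth.Agent.ProjX

/-- Transport of a grading along a ring isomorphism. -/
theorem nonempty_gradedRing_comap {A B : Type u} [CommRing A] [CommRing B] (e : B ≃+* A)
    (𝒜 : ℕ → AddSubgroup A) [GradedRing 𝒜] :
    Nonempty (GradedRing fun d => (𝒜 d).comap e.toRingHom.toAddMonoidHom) := by
  classical
  let ℬ : ℕ → AddSubgroup B := fun d => (𝒜 d).comap e.toRingHom.toAddMonoidHom
  haveI : SetLike.GradedMonoid ℬ :=
    { one_mem := by
        show e 1 ∈ 𝒜 0
        rw [map_one]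
        exact SetLike.one_mem_graded 𝒜
      mul_mem := fun {i j gi gj} hi hj => by
        show e (gi * gj) ∈ 𝒜 (i + j)
        rw [map_mul]
        exact SetLike.mul_mem_graded hi hj }
  let g : ∀ d, 𝒜 d →+ ℬ d := fun d =>
    { toFun := fun a => ⟨e.symm a, show e (e.symm a) ∈ 𝒜 d by rw [e.apply_symm_apply]; exact a.2⟩
      map_zero' := Subtype.ext (map_zero _)
      map_add' := fun _ _ => Subtype.ext (map_add _ _ _) }
  let dec : B →+ ⨁ d, ℬ d :=
    ((DirectSum.map g).comp (DirectSum.decomposeAddEquiv 𝒜).toAddMonoidHom).comp e.toRingHom.toAddMonoidHom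
  refine ⟨{ DirectSum.Decomposition.ofAddHom ℬ dec ?_ ?_ with }⟩
  · refine AddMonoidHom.ext fun b => ?_
    show DirectSum.coeAddMonoidHom ℬ (DirectSum.map g (DirectSum.decompose 𝒜 (e b))) = b
    have : ∀ t : ⨁ d, 𝒜 d, DirectSum.coeAddMonoidHom ℬ (DirectSum.map g t) =
        e.symm (DirectSum.coeAddMonoidHom 𝒜 t) := fun t => by
      induction t using DirectSum.induction_on with
      | zero => simp only [map_zero]
      | of i x => simp [DirectSum.map_of, g]
      | add x y hx hy => simp only [map_add, hx, hy]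
    rw [this, show DirectSum.coeAddMonoidHom 𝒜 (DirectSum.decompose 𝒜 (e b)) = e b from
      (DirectSum.decompose 𝒜).symm_apply_apply _, e.symm_apply_apply]
  · refine DirectSum.addHom_ext fun i b => ?_
    show DirectSum.map g (DirectSum.decompose 𝒜 (e (DirectSum.coeAddMonoidHom ℬ (DirectSum.of _ i b)))) =
      DirectSum.of _ i b
    rw [DirectSum.coeAddMonoidHom_of, DirectSum.decompose_of_mem 𝒜 (show e (b : B) ∈ 𝒜 i from b.2),
      DirectSum.map_of]
    congr 1
    exact Subtype.ext (e.symm_apply_apply _)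

lemma of_basic_cover {S : Scheme.{u}} {U V : S.Opens} (hU : IsAffineOpen U) (hV : IsAffineOpen V)
    (h : V ≤ U) :
    ∀ x ∈ V, ∃ (r : Γ(S, U)) (s : Γ(S, V)), S.basicOpen r = S.basicOpen s ∧ x ∈ S.basicOpen s := by
  intro x hx
  obtain ⟨r, s, e, hx'⟩ := exists_basicOpen_le_affine_inter hU hV x ⟨h hx, hx⟩
  exact ⟨r, s, e, e ▸ hx'⟩

variable {S : Scheme.{u}}

/-- A quasi-coherent graded algebra from compatible graded rings on the affine opens. -/
theorem exists_qcGrAlg (F : S.AffineZariskiSiteᵒᵖ ⥤ CommRingCat.{u})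
    (α : (Scheme.AffineZariskiSite.toOpensFunctor S).op ⋙ S.presheaf ⟶ F) (H : α.Coequifibered)
    (deg : ∀ U : S.AffineZariskiSite, ℕ → AddSubgroup (F.obj (op U))) [∀ U, GradedRing (deg U)]
    (hmap : ∀ {U V : S.AffineZariskiSite} (i : V ⟶ U) {d : ℕ} {x : F.obj (op U)},
      x ∈ deg U d → (F.map i.op).hom x ∈ deg V d)
    (hstr : ∀ (U : S.AffineZariskiSite) (r : Γ(S, U.1)), (α.app (op U)).hom r ∈ deg U 0) :
    ∃ (𝒮 : RelProj.QCGrAlg S) (φ : ∀ U : S.AffineZariskiSite, 𝒮.presheaf.obj (op U.1) ≅ F.obj (op U)),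
      (∀ (U V : S.AffineZariskiSite) (i : V ⟶ U), (φ U).hom ≫ F.map i.op =
        𝒮.presheaf.map (homOfLE (Scheme.AffineZariskiSite.toOpens_mono i.le)).op ≫ (φ V).hom) ∧
      (∀ U : S.AffineZariskiSite, 𝒮.str.app (op U.1) ≫ (φ U).hom = α.app (op U)) ∧
      ∀ (U : S.AffineZariskiSite) (d : ℕ) (x : 𝒮.presheaf.obj (op U.1)),
        x ∈ 𝒮.deg U.1 U.2 d ↔ (φ U).hom x ∈ deg U d := by
  classical
  let D := Scheme.AffineZariskiSite.relativeGluingData H
  have : (D.functor ⋙ Scheme.forget).IsLocallyDirected :=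
    Scheme.Cover.RelativeGluingData.instIsLocallyDirectedI₀CompFunctorForgetOfIsThin ..
  let π : D.glued ⟶ S := D.toBase
  let ι : ∀ U : S.AffineZariskiSite, Spec (F.obj (op U)) ⟶ D.glued := fun U => colimit.ι D.functor U
  have hopen : ∀ U, IsOpenImmersion (ι U) := fun U => D.cover.map_prop U
  have hrange : ∀ U : S.AffineZariskiSite, (ι U).opensRange = π ⁻¹ᵁ U.1 := fun U => by
    simpa using! (D.toBase_preimage_eq_opensRange_ι U).symm
  have hι : ∀ U : S.AffineZariskiSite, ι U ≫ π = Spec.map (α.app (op U)) ≫ U.2.fromSpec := fun U => by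
    refine (D.ι_toBase U).trans ?_
    show (Spec.map (α.app (op U)) ≫ U.2.isoSpec.inv) ≫ U.1.ι = _
    rw [Category.assoc, IsAffineOpen.isoSpec_inv_ι]
  have hcomp : ∀ {U V : S.AffineZariskiSite} (i : V ⟶ U), Spec.map (F.map i.op) ≫ ι U = ι V :=
    fun i => colimit.w D.functor i
  haveI : IsAffineHom π := ⟨fun U hU => by
    rw [← hrange ⟨U, hU⟩]
    haveI := hopen ⟨U, hU⟩
    exact isAffineOpen_opensRange (ι ⟨U, hU⟩)⟩
  have hle : ∀ U : S.AffineZariskiSite, ⊤ ≤ ι U ⁻¹ᵁ (π ⁻¹ᵁ U.1) := fun U => by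
    rw [← hrange U]
    exact fun x _ => ⟨x, rfl⟩
  let φ : ∀ U : S.AffineZariskiSite, Γ(D.glued, π ⁻¹ᵁ U.1) ≅ F.obj (op U) := fun U =>
    haveI : IsIso ((ι U).appLE (π ⁻¹ᵁ U.1) ⊤ (hle U)) := by
      haveI := hopen U
      haveI := (ι U).isIso_app (π ⁻¹ᵁ U.1) (hrange U).ge
      rw [Scheme.Hom.appLE]
      have : (homOfLE (hle U)) = eqToHom (top_le_iff.1 (hle U)).symm := Subsingleton.elim _ _
      rw [this]
      infer_instance
    asIso ((ι U).appLE (π ⁻¹ᵁ U.1) ⊤ (hle U)) ≪≫ Scheme.ΓSpecIso _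
  have hφnat : ∀ (U V : S.AffineZariskiSite) (i : V ⟶ U), (φ U).hom ≫ F.map i.op =
      D.glued.presheaf.map (homOfLE (π.preimage_mono (Scheme.AffineZariskiSite.toOpens_mono i.le))).op ≫
        (φ V).hom := fun U V i => by
    simp only [φ, Iso.trans_hom, asIso_hom, Category.assoc]
    rw [← Scheme.ΓSpecIso_naturality, Scheme.Hom.map_appLE_assoc, ← Category.assoc]
    congr 1
    rw [show (Spec.map (F.map i.op)).appTop = (Spec.map (F.map i.op)).appLE ⊤ ⊤ le_top from
      (Scheme.Hom.appLE_eq_app _).symm, Scheme.Hom.appLE_comp_appLE]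
    congr 1
    exact hcomp i
  have hφstr : ∀ U : S.AffineZariskiSite, π.app U.1 ≫ (φ U).hom = α.app (op U) := fun U => by
    simp only [φ, Iso.trans_hom, asIso_hom]
    rw [← Scheme.Hom.appLE_eq_app, ← Category.assoc, Scheme.Hom.appLE_comp_appLE]
    simp only [hι U]
    have e : (Spec.map (α.app (op U)) ≫ U.2.fromSpec).appLE U.1 ⊤ (by
        rw [Scheme.Hom.comp_preimage, IsAffineOpen.fromSpec_preimage_self]; exact le_rfl) =
        U.2.fromSpec.appLE U.1 ⊤ U.2.fromSpec_preimage_self.ge ≫ (Spec.map (α.app (op U))).appLE ⊤ ⊤ le_top :=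
      (Scheme.Hom.appLE_comp_appLE _ _ _ _ _ _ _).symm
    rw [e, Category.assoc]
    have e3 : (Spec.map (α.app (op U))).appLE ⊤ ⊤ le_top = (Spec.map (α.app (op U))).appTop :=
      Scheme.Hom.appLE_eq_app _
    erw [e3]
    erw [Scheme.ΓSpecIso_naturality]
    rw [← Category.assoc]
    have e2 : U.2.fromSpec.appLE U.1 ⊤ U.2.fromSpec_preimage_self.ge ≫ (Scheme.ΓSpecIso _).hom = 𝟙 _ := by
      simp [Scheme.Hom.appLE, IsAffineOpen.fromSpec_app_self]
      rw [← Functor.map_comp_assoc]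
      have : ∀ g : op (⊤ : (Spec Γ(S, U.1)).Opens) ⟶ op ⊤, g = 𝟙 _ := fun g => Subsingleton.elim _ _
      rw [this (eqToHom _ ≫ _), CategoryTheory.Functor.map_id, Category.id_comp, Iso.inv_hom_id]
    erw [e2, Category.id_comp]
  let e : ∀ U : S.AffineZariskiSite, Γ(D.glued, π ⁻¹ᵁ U.1) ≃+* F.obj (op U) :=
    fun U => (φ U).commRingCatIsoToRingEquiv
  let degA : ∀ (U : S.Opens) (hU : IsAffineOpen U), ℕ → AddSubgroup Γ(D.glued, π ⁻¹ᵁ U) :=
    fun U hU d => (deg ⟨U, hU⟩ d).comap (e ⟨U, hU⟩).toRingHom.toAddMonoidHom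
  have hgr : ∀ (U : S.Opens) (hU : IsAffineOpen U), Nonempty (GradedRing (degA U hU)) :=
    fun U hU => nonempty_gradedRing_comap (e ⟨U, hU⟩) (deg ⟨U, hU⟩)
  have hbasic : ∀ {U V : S.AffineZariskiSite} (i : V ⟶ U) {d : ℕ} {x : Γ(D.glued, π ⁻¹ᵁ U.1)},
      x ∈ degA U.1 U.2 d → (D.glued.presheaf.map
        (homOfLE (π.preimage_mono (Scheme.AffineZariskiSite.toOpens_mono i.le))).op).hom x ∈ degA V.1 V.2 d := by
    intro U V i d x hx
    show (φ V).hom _ ∈ deg V d
    have := congr($(hφnat U V i).hom x)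
    simp only [CommRingCat.hom_comp, RingHom.comp_apply] at this
    rw [← this]
    exact hmap i hx
  refine ⟨{ RelSpec.QCAlg.directImage π with
      deg := degA
      graded := fun U hU => (hgr U hU).some
      str_mem := fun U hU r => by
        show (φ ⟨U, hU⟩).hom ((π.app U).hom r) ∈ deg ⟨U, hU⟩ 0
        have := congr($(hφstr ⟨U, hU⟩).hom r)
        simp only [CommRingCat.hom_comp, RingHom.comp_apply] at this
        rw [this]
        exact hstr ⟨U, hU⟩ r
      map_mem := ?_ }, φ, hφnat, hφstr, fun U d x => Iff.rfl⟩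
  intro U V hU hV h d x hx
  letI := (hgr U hU).some
  letI := (hgr V hV).some
  set y := (D.glued.presheaf.map (homOfLE (π.preimage_mono h)).op).hom x
  show y ∈ degA V hV d
  rw [← DirectSum.sum_support_decompose (degA V hV) y]
  refine sum_mem fun j hj => ?_
  by_cases hjd : j = d
  · subst hjd
    exact SetLike.coe_mem _
  suffices hz : (DirectSum.decompose (degA V hV) y j : Γ(D.glued, π ⁻¹ᵁ V)) = 0 by
    rw [hz]; exact zero_mem _
  choose r s hrs hxs using of_basic_cover hU hV h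
  refine D.glued.sheaf.eq_of_locally_eq' (fun p : V => π ⁻¹ᵁ S.basicOpen (s p.1 p.2)) (π ⁻¹ᵁ V)
    (fun p => homOfLE (π.preimage_mono (S.basicOpen_le _))) ?_ _ _ fun p => ?_
  · intro q hq
    exact Opens.mem_iSup.2 ⟨⟨π q, hq⟩, hxs _ hq⟩
  set r' := r p.1 p.2
  set s' := s p.1 p.2
  have hrs' : S.basicOpen r' = S.basicOpen s' := hrs p.1 p.2
  let W : S.AffineZariskiSite := ⟨S.basicOpen s', hV.basicOpen s'⟩
  let iU : W ⟶ ⟨U, hU⟩ := homOfLE ⟨r', hrs'⟩
  let iV : W ⟶ ⟨V, hV⟩ := homOfLE ⟨s', rfl⟩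
  letI := (hgr W.1 W.2).some
  let ρ : degA V hV →+*ᵍ degA W.1 W.2 :=
    { (D.glued.presheaf.map (homOfLE (π.preimage_mono (S.basicOpen_le s'))).op).hom with
      map_mem := fun hz => hbasic iV hz }
  show (ρ (DirectSum.decompose (degA V hV) y j : Γ(D.glued, π ⁻¹ᵁ V))) = ρ 0
  rw [map_zero, GradedRingHom.map_directSumDecompose]
  have hy : ρ y ∈ degA W.1 W.2 d := by
    have h2 := hbasic iU hx
    show (D.glued.presheaf.map _).hom ((D.glued.presheaf.map _).hom x) ∈ degA W.1 W.2 d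
    rw [← CommRingCat.comp_apply, ← Functor.map_comp, ← op_comp]
    exact h2
  exact DirectSum.decompose_of_mem_ne _ hy (Ne.symm hjd)

end Groth.Agent.ProjX
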