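import Groth.Agent.ProjX.BaseChange
import Groth.Agent.Proj16.RelExist
import Groth.Prelude.Def_CohB1
import Mathlib.RingTheory.TensorProduct.MvPolynomial
import Mathlib.RingTheory.MvPolynomial.Ideal

/-!
# Charts of `P^n_S` over the affine opens of `S`
-/

set_option linter.style.haveILetI false
set_option linter.unusedSectionVars false
set_option backward.isDefEq.respectTransparency false
set_option backward.isDefEq.respectTransparency.types false

universe u

open CategoryTheory CategoryTheory.Limits AlgebraicGeometry Opposite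
open CohB1 (polyGrading ProjSpace ProjSpaceOver)

attribute [local instance] MvPolynomial.algebraMvPolynomial

namespace Groth.Agent.ProjX

variable (n : ℕ)

/-- Change of coefficients, as a graded homomorphism. -/
noncomputable def polyHom {R R' : Type u} [CommRing R] [CommRing R'] (f : R →+* R') :
    polyGrading n R →+*ᵍ polyGrading n R' :=
  { MvPolynomial.map f with map_mem := fun h => MvPolynomial.IsHomogeneous.map h f }

@[simp] lemma polyHom_apply {R R' : Type u} [CommRing R] [CommRing R'] (f : R →+* R') (p : MvPolynomial (Fin (n + 1)) R) :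
    polyHom n f p = MvPolynomial.map f p := rfl

lemma polyHom_comp {R R' R'' : Type u} [CommRing R] [CommRing R'] [CommRing R''] (f : R →+* R') (g : R' →+* R'') :
    (polyHom n g).comp (polyHom n f) = polyHom n (g.comp f) :=
  GradedRingHom.ext fun p => (MvPolynomial.map_map f g p)

lemma mem_span_X {R : Type u} [CommRing R] {i : ℕ} (hi : 0 < i) {x : MvPolynomial (Fin (n + 1)) R}
    (hx : x ∈ polyGrading n R i) :
    x ∈ Ideal.span (Set.range fun j : Fin (n + 1) => (MvPolynomial.X j : MvPolynomial (Fin (n + 1)) R)) := by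
  rw [← Set.image_univ, MvPolynomial.mem_ideal_span_X_image]
  intro m hm
  by_contra h
  push Not at h
  have hm0 : m = 0 := Finsupp.ext fun j => h j (Set.mem_univ _)
  have := (MvPolynomial.mem_homogeneousSubmodule i x).1 hx (MvPolynomial.mem_support_iff.1 hm)
  subst hm0
  rw [map_zero] at this
  omega

lemma X_mem {R : Type u} [CommRing R] (j : Fin (n + 1)) : MvPolynomial.X j ∈ polyGrading n R 1 :=
  (MvPolynomial.mem_homogeneousSubmodule 1 _).2 (MvPolynomial.isHomogeneous_X R j)

lemma irrelevant_eq_span_X {R : Type u} [CommRing R] :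
    (HomogeneousIdeal.irrelevant (polyGrading n R)).toIdeal =
      Ideal.span (Set.range fun j : Fin (n + 1) => (MvPolynomial.X j : MvPolynomial (Fin (n + 1)) R)) := by
  refine le_antisymm ?_ (Ideal.span_le.2 ?_)
  · exact (HomogeneousIdeal.toIdeal_irrelevant_le _).2 fun i hi x hx => mem_span_X n hi hx
  · rintro _ ⟨j, rfl⟩
    exact HomogeneousIdeal.mem_irrelevant_of_mem _ one_pos (X_mem n j)

lemma irrelevant_polyHom {R R' : Type u} [CommRing R] [CommRing R'] (f : R →+* R') :
    HomogeneousIdeal.irrelevant (polyGrading n R') ≤ (HomogeneousIdeal.irrelevant (polyGrading n R)).map (polyHom n f) := by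
  intro x hx
  have hx' : x ∈ (HomogeneousIdeal.irrelevant (polyGrading n R')).toIdeal := hx
  rw [irrelevant_eq_span_X] at hx'
  refine (Ideal.span_le (I := ((HomogeneousIdeal.irrelevant (polyGrading n R)).map (polyHom n f)).toIdeal)).2 ?_ hx'
  rintro _ ⟨j, rfl⟩
  rw [HomogeneousIdeal.toIdeal_map]
  have : polyHom n f (MvPolynomial.X j) = MvPolynomial.X j := MvPolynomial.map_X f j
  exact (congrArg (· ∈ _) this).mp
    (Ideal.mem_map_of_mem _ (HomogeneousIdeal.mem_irrelevant_of_mem _ one_pos (X_mem n j)))

/-- The induced map of projective spaces. -/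
noncomputable def pmap {R R' : Type u} [CommRing R] [CommRing R'] (f : R →+* R') :
    ProjSpace n R' ⟶ ProjSpace n R :=
  Proj.map (polyHom n f) (irrelevant_polyHom n f)

lemma pmap_comp {R R' R'' : Type u} [CommRing R] [CommRing R'] [CommRing R''] (f : R →+* R') (g : R' →+* R'') :
    pmap n g ≫ pmap n f = pmap n (g.comp f) :=
  (Proj.map_comp _ (hf := irrelevant_polyHom n f) _ (hg := irrelevant_polyHom n g)).symm.trans (Proj16.proj_map_congr (polyHom_comp n f g) _ _)

/-- Projective space commutes with base change of rings. -/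
theorem isPullback_pmap {R R' : Type u} [CommRing R] [CommRing R'] (f : R →+* R') :
    IsPullback (pmap n f) (ProjSpace.toSpec n R') (ProjSpace.toSpec n R) (Spec.map (CommRingCat.ofHom f)) := by
  letI := f.toAlgebra
  exact isPullback_map (R' := R) (R := R') (polyHom n f) (fun b => rfl) (irrelevant_polyHom n f)

/-- The map from the integers. -/
def zto (R : Type u) [CommRing R] : ULift.{u} ℤ →+* R :=
  (Int.castRingHom R).comp ULift.ringEquiv.toRingHom

lemma zto_unique {R : Type u} [CommRing R] (f g : ULift.{u} ℤ →+* R) : f = g := by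
  refine RingHom.ext fun ⟨x⟩ => ?_
  exact congr($(Subsingleton.elim (f.comp ULift.ringEquiv.symm.toRingHom) (g.comp ULift.ringEquiv.symm.toRingHom)) x)

variable {S : Scheme.{u}}

/-- The chart of `P^n_S` over an affine open. -/
noncomputable def chart {U : S.Opens} (hU : IsAffineOpen U) : ProjSpace n Γ(S, U) ⟶ ProjSpaceOver n S :=
  pullback.lift (pmap n (zto Γ(S, U))) (ProjSpace.toSpec n Γ(S, U) ≫ hU.fromSpec)
    (specULiftZIsTerminal.hom_ext _ _)

lemma chart_fst {U : S.Opens} (hU : IsAffineOpen U) :
    chart n hU ≫ pullback.fst (ProjSpace.toSpec n (ULift.{u} ℤ)) (specULiftZIsTerminal.from S) = pmap n (zto Γ(S, U)) :=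
  pullback.lift_fst _ _ _

@[reassoc]
lemma chart_toBase {U : S.Opens} (hU : IsAffineOpen U) :
    chart n hU ≫ ProjSpaceOver.toBase n S = ProjSpace.toSpec n Γ(S, U) ≫ hU.fromSpec :=
  pullback.lift_snd _ _ _

theorem isPullback_chart {U : S.Opens} (hU : IsAffineOpen U) :
    IsPullback (chart n hU) (ProjSpace.toSpec n Γ(S, U)) (ProjSpaceOver.toBase n S) hU.fromSpec := by
  refine IsPullback.of_right ?_ (chart_toBase n hU)
    (IsPullback.of_hasPullback (ProjSpace.toSpec n (ULift.{u} ℤ)) (specULiftZIsTerminal.from S))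
  rw [chart_fst, specULiftZIsTerminal.hom_ext (hU.fromSpec ≫ _) (Spec.map (CommRingCat.ofHom (zto Γ(S, U))))]
  exact isPullback_pmap n (zto Γ(S, U))

lemma pmap_chart {U V : S.Opens} (hU : IsAffineOpen U) (hV : IsAffineOpen V) (h : V ≤ U) :
    pmap n (S.presheaf.map (homOfLE h).op).hom ≫ chart n hU = chart n hV := by
  refine pullback.hom_ext ?_ ?_
  · rw [Category.assoc, chart_fst, chart_fst, pmap_comp]
    exact Proj16.proj_map_congr (congrArg (polyHom n) (zto_unique _ _)) _ _
  · show (pmap n _ ≫ chart n hU) ≫ ProjSpaceOver.toBase n S = chart n hV ≫ ProjSpaceOver.toBase n S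
    rw [Category.assoc, chart_toBase, chart_toBase, reassoc_of% (isPullback_pmap n _).w]
    congr 1
    exact hU.map_fromSpec hV (homOfLE h).op

end Groth.Agent.ProjX
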