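import Mathlib.AlgebraicGeometry.Modules.Sheaf
import Mathlib.CategoryTheory.Limits.Types.Limits

/-!
# Modules glued as limits of compatible families over a directed family of opens
-/

set_option linter.style.haveILetI false
set_option backward.isDefEq.respectTransparency false
set_option backward.isDefEq.respectTransparency.types false

universe u

open CategoryTheory CategoryTheory.Limits AlgebraicGeometry TopologicalSpace Opposite

namespace Groth.Agent.ProjX

variable {X : Scheme.{u}}

/-- Restriction of sections. -/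
noncomputable abbrev msres (M : X.Modules) {W W' : X.Opens} (h : W' ≤ W) : Γ(M, W) → Γ(M, W') :=
  M.presheaf.map (homOfLE h).op

lemma msres_app {M N : X.Modules} (φ : M ⟶ N) {W W' : X.Opens} (h : W' ≤ W) (s : Γ(M, W)) :
    φ.app W' (msres M h s) = msres N h (φ.app W s) :=
  congr($(φ.mapPresheaf.naturality (homOfLE h).op) s)

lemma msres_comp (M : X.Modules) {W W' W'' : X.Opens} (h : W' ≤ W) (h' : W'' ≤ W') (s : Γ(M, W)) :
    msres M h' (msres M h s) = msres M (h'.trans h) s := by
  rw [msres, msres, msres, ← ConcreteCategory.comp_apply, ← Functor.map_comp]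
  rfl

lemma msres_eq_of_cover {M : X.Modules} {W : X.Opens} {κ : Type u} (O : κ → X.Opens)
    (hO : ∀ k, O k ≤ W) (hW : ∀ x ∈ W, ∃ k, x ∈ O k) {s t : Γ(M, W)}
    (h : ∀ k, msres M (hO k) s = msres M (hO k) t) : s = t :=
  TopCat.Sheaf.eq_of_locally_eq' ⟨M.presheaf, M.isSheaf⟩ O W (fun k => homOfLE (hO k))
    (fun x hx => Opens.mem_iSup.2 (hW x hx)) s t h

variable {ι : Type u} [Preorder ι] (F : ιᵒᵖ ⥤ X.Modules) (V : ι → X.Opens)

/-- Compatible modules on a directed family of opens glue to their limit. -/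
theorem limit_bijective
    (hbij : ∀ {a b : ι} (h : b ≤ a) (W : X.Opens), W ≤ V b → Function.Bijective ((F.map (homOfLE h).op).app W))
    (hsupp : ∀ (a : ι) (W : X.Opens), Function.Bijective (msres (F.obj (op a)) (inf_le_left : W ⊓ V a ≤ W)))
    (hmono : ∀ {a b : ι}, b ≤ a → V b ≤ V a)
    (hdir : ∀ (a c : ι), ∀ x ∈ V a ⊓ V c, ∃ b, b ≤ a ∧ b ≤ c ∧ x ∈ V b)
    (a : ι) (W : X.Opens) (hW : W ≤ V a) : Function.Bijective ((limit.π F (op a)).app W) := by
  classical
  let G : X.Modules ⥤ Type u :=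
    Scheme.Modules.toPresheaf X ⋙ (evaluation (X.Opensᵒᵖ) Ab).obj (op W) ⋙ forget Ab
  haveI h1 : PreservesLimitsOfShape ιᵒᵖ ((evaluation (X.Opensᵒᵖ) Ab.{u}).obj (op W)) := inferInstance
  haveI h2 : PreservesLimitsOfShape ιᵒᵖ (forget Ab.{u}) := inferInstance
  haveI h3 : PreservesLimitsOfShape ιᵒᵖ (Scheme.Modules.toPresheaf X) := inferInstance
  haveI : PreservesLimitsOfShape ιᵒᵖ G := @comp_preservesLimitsOfShape _ _ _ _ _ _ _ _ _ _ h3 (@comp_preservesLimitsOfShape _ _ _ _ _ _ _ _ _ _ h1 h2)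
  let e := Types.isLimitEquivSections (isLimitOfPreserves G (limit.isLimit F))
  have he : ∀ (s : Γ(limit F, W)) (c : ι), (e s).1 (op c) = (limit.π F (op c)).app W s := fun s c => rfl
  have hnat : ∀ {a b : ι} (h : b ≤ a) (s : Γ(limit F, W)),
      (F.map (homOfLE h).op).app W ((limit.π F (op a)).app W s) = (limit.π F (op b)).app W s := fun {a b} h s =>
    congr(($(limit.w F (homOfLE h).op)).app W s)
  -- uniqueness of a member of a compatible family
  have huniq : ∀ (c : ι) (t t' : Γ(F.obj (op c), W)),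
      (∀ b, b ≤ a → ∀ (h : b ≤ c), (F.map (homOfLE h).op).app (W ⊓ V b) (msres _ inf_le_left t) =
        (F.map (homOfLE h).op).app (W ⊓ V b) (msres _ inf_le_left t')) → t = t' := by
    intro c t t' h
    refine (hsupp c W).1 (msres_eq_of_cover (κ := {b : ι // b ≤ a ∧ b ≤ c}) (fun b => (W ⊓ V c) ⊓ V b.1)
      (fun b => inf_le_left) (fun x hx => ?_) fun b => ?_)
    · obtain ⟨b, hba, hbc, hxb⟩ := hdir a c x ⟨hW hx.1, hx.2⟩
      exact ⟨⟨b, hba, hbc⟩, hx, hxb⟩
    · refine (hbij b.2.2 _ inf_le_right).1 ?_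
      have := congrArg (msres _ (inf_le_inf_right (V b.1) inf_le_left : (W ⊓ V c) ⊓ V b.1 ≤ W ⊓ V b.1)) (h b.1 b.2.1 b.2.2)
      rw [← msres_app, ← msres_app, msres_comp, msres_comp] at this
      rw [msres_comp, msres_comp]
      exact this
  refine ⟨fun s s' hss => ?_, fun t => ?_⟩
  · apply e.injective
    refine Subtype.ext (funext fun c => ?_)
    induction c using Opposite.rec with
    | op c =>
      rw [he, he]
      refine huniq c _ _ fun b hba hbc => ?_
      rw [msres_app, msres_app, hnat hbc, hnat hbc, ← hnat hba, ← hnat hba, hss]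
  · -- the compatible family
    have key : ∀ c : ι, ∃ u : Γ(F.obj (op c), W), ∀ b (hba : b ≤ a) (hbc : b ≤ c),
        (F.map (homOfLE hbc).op).app (W ⊓ V b) (msres _ inf_le_left u) =
          (F.map (homOfLE hba).op).app (W ⊓ V b) (msres _ inf_le_left t) := by
      intro c
      let κ := {b : ι // b ≤ a ∧ b ≤ c}
      have hex : ∀ b : κ, ∃ u : Γ(F.obj (op c), W ⊓ V b.1),
          (F.map (homOfLE b.2.2).op).app (W ⊓ V b.1) u =
            (F.map (homOfLE b.2.1).op).app (W ⊓ V b.1) (msres _ inf_le_left t) := fun b =>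
        (hbij b.2.2 _ inf_le_right).2 _
      choose u hu using hex
      have hcompat : ∀ b b' : κ, msres _ (inf_le_left : (W ⊓ V b.1) ⊓ (W ⊓ V b'.1) ≤ _) (u b) =
          msres _ (inf_le_right : (W ⊓ V b.1) ⊓ (W ⊓ V b'.1) ≤ _) (u b') := by
        intro b b'
        refine msres_eq_of_cover (κ := {d : ι // d ≤ b.1 ∧ d ≤ b'.1}) (fun d => ((W ⊓ V b.1) ⊓ (W ⊓ V b'.1)) ⊓ V d.1)
          (fun d => inf_le_left) (fun x hx => ?_) fun d => ?_
        · obtain ⟨d, h1, h2, hxd⟩ := hdir b.1 b'.1 x ⟨hx.1.2, hx.2.2⟩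
          exact ⟨⟨d, h1, h2⟩, hx, hxd⟩
        · have hdc : d.1 ≤ c := d.2.1.trans b.2.2
          refine (hbij hdc _ inf_le_right).1 ?_
          have expand : ∀ (q : κ) (hq : d.1 ≤ q.1) (O : X.Opens) (hO : O ≤ W ⊓ V q.1),
              (F.map (homOfLE hdc).op).app O (msres _ hO (u q)) =
                (F.map (homOfLE (hq.trans q.2.1)).op).app O (msres _ (hO.trans inf_le_left) t) := by
            intro q hq O hO
            have e1 : (homOfLE hdc).op = (homOfLE q.2.2).op ≫ (homOfLE hq).op := rfl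
            have e2 : (homOfLE (hq.trans q.2.1)).op = (homOfLE q.2.1).op ≫ (homOfLE hq).op := rfl
            rw [e1, e2, Functor.map_comp, Functor.map_comp]
            show (F.map (homOfLE hq).op).app O ((F.map (homOfLE q.2.2).op).app O (msres _ hO (u q))) =
              (F.map (homOfLE hq).op).app O ((F.map (homOfLE q.2.1).op).app O (msres _ (hO.trans inf_le_left) t))
            rw [msres_app, hu q, ← msres_app, msres_comp]
          rw [msres_comp, msres_comp, expand b d.2.1, expand b' d.2.2]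
      obtain ⟨w, hw, -⟩ := TopCat.Sheaf.existsUnique_gluing' ⟨(F.obj (op c)).presheaf, (F.obj (op c)).isSheaf⟩
        (fun b : κ => W ⊓ V b.1) (W ⊓ V c) (fun b => homOfLE (le_inf inf_le_left (inf_le_right.trans (by
          intro x hx
          exact (show V b.1 ≤ V c from hmono b.2.2) hx))))
        (fun x hx => by
          obtain ⟨b, h1, h2, hxb⟩ := hdir a c x ⟨hW hx.1, hx.2⟩
          exact Opens.mem_iSup.2 ⟨⟨b, h1, h2⟩, hx.1, hxb⟩) u hcompat
      obtain ⟨v, hv⟩ := (hsupp c W).2 w
      refine ⟨v, fun b hba hbc => ?_⟩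
      have hvu : msres _ (inf_le_left : W ⊓ V b ≤ W) v = u ⟨b, hba, hbc⟩ := by
        rw [← hw ⟨b, hba, hbc⟩, ← hv]
        exact (msres_comp _ _ _ _).symm
      rw [hvu]
      exact hu ⟨b, hba, hbc⟩
    choose u hu using key
    have hcompatF : ∀ {c d : ι} (h : d ≤ c), (F.map (homOfLE h).op).app W (u c) = u d := by
      intro c d h
      refine huniq d _ _ fun b hba hbd => ?_
      rw [hu d b hba hbd, ← hu c b hba (hbd.trans h), ← msres_app]
      exact congr(($(F.map_comp (homOfLE h).op (homOfLE hbd).op)).app (W ⊓ V b) (msres _ inf_le_left (u c))).symm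
    let sec : (F ⋙ G).sections :=
      ⟨fun c => u c.unop, fun {c d} f => by
        rw [show f = (homOfLE (leOfHom f.unop)).op from rfl]
        exact hcompatF _⟩
    refine ⟨e.symm sec, ?_⟩
    have hsec : (limit.π F (op a)).app W (e.symm sec) = u a := by
      rw [← he, e.apply_symm_apply]
    rw [hsec]
    refine huniq a _ _ fun b hba hba' => ?_
    exact hu a b hba hba'

end Groth.Agent.ProjX
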