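import Groth.Prelude.Def_GrTwist
import Groth.Agent.Proj16.AwayZero

/-!
# Twisting sheaves under inverting an element of degree zero
-/

set_option linter.style.haveILetI false
set_option linter.unusedSectionVars false
set_option backward.isDefEq.respectTransparency false
set_option backward.isDefEq.respectTransparency.types false

universe u

open CategoryTheory AlgebraicGeometry TopologicalSpace Opposite HomogeneousLocalization
open scoped HomogeneousIdeal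

namespace Groth.Agent.ProjX

variable {A σ B τ : Type u} [CommRing A] [SetLike σ A] [AddSubgroupClass σ A]
variable [CommRing B] [SetLike τ B] [AddSubgroupClass τ B]
variable {𝒜 : ℕ → σ} [GradedRing 𝒜] {ℬ : ℕ → τ} [GradedRing ℬ]

lemma twist_ext {n : ℤ} {U : (Proj 𝒜).Opens} {s t : Γ(GrTwist.twist 𝒜 n, U)}
    (h : ∀ y : U, GrTwist.val s y = GrTwist.val t y) : s = t :=
  Subtype.ext (funext fun y => Subtype.ext (h y))

lemma locMap_comp {C ρ : Type u} [CommRing C] [SetLike ρ C] [AddSubgroupClass ρ C] {𝒞 : ℕ → ρ} [GradedRing 𝒞]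
    (φ : 𝒜 →+*ᵍ ℬ) (hφ : ℬ₊ ≤ (𝒜₊).map φ) (ψ : ℬ →+*ᵍ 𝒞) (hψ : 𝒞₊ ≤ (ℬ₊).map ψ)
    (χ : 𝒜 →+*ᵍ 𝒞) (hχ : 𝒞₊ ≤ (𝒜₊).map χ) (e : ∀ a, ψ (φ a) = χ a) (z : ProjectiveSpectrum 𝒞)
    (a : A) (s : A) (hs : s ∉ (ProjectiveSpectrum.comap χ hχ z).asHomogeneousIdeal)
    (hs' : s ∉ (ProjectiveSpectrum.comap φ hφ (ProjectiveSpectrum.comap ψ hψ z)).asHomogeneousIdeal) :
    GrTwist.locMap ψ hψ z (GrTwist.locMap φ hφ _ (Localization.mk a ⟨s, hs'⟩)) =
      GrTwist.locMap χ hχ z (Localization.mk a ⟨s, hs⟩) := by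
  rw [GrTwist.locMap_mk, GrTwist.locMap_mk, GrTwist.locMap_mk]
  exact congr_arg₂ Localization.mk (e a) (Subtype.ext (e s))

variable {φ : 𝒜 →+*ᵍ ℬ} {c : 𝒜 0} (hc : Proj16.InvertsZero φ c) (hφ : ℬ₊ ≤ (𝒜₊).map φ)

include hc

lemma exists_surj (b : B) : ∃ (k : ℕ) (a : A), b * φ (c : A) ^ k = φ a := by
  classical
  induction b using DirectSum.Decomposition.inductionOn ℬ with
  | zero => exact ⟨0, 0, by simp⟩
  | @homogeneous i b =>
    obtain ⟨k, a, -, h⟩ := hc.surj i b b.2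
    exact ⟨k, a, h⟩
  | add b b' hb hb' =>
    obtain ⟨k, a, h⟩ := hb
    obtain ⟨k', a', h'⟩ := hb'
    refine ⟨k + k', (c : A) ^ k' * a + (c : A) ^ k * a', ?_⟩
    rw [map_add, map_mul, map_mul, map_pow, map_pow, ← h, ← h', pow_add]
    ring

lemma notMem_c (y : ProjectiveSpectrum ℬ) : φ (c : A) ∉ y.asHomogeneousIdeal :=
  fun h => y.isPrime.ne_top (Ideal.eq_top_of_isUnit_mem _ h hc.isUnit)

lemma locMap_injective (y : ProjectiveSpectrum ℬ) : Function.Injective (GrTwist.locMap φ hφ y) := by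
  refine (injective_iff_map_eq_zero _).2 fun q hq => ?_
  obtain ⟨a, ⟨s, hs⟩, rfl⟩ := IsLocalization.exists_mk'_eq (ProjectiveSpectrum.comap φ hφ y).asHomogeneousIdeal.toIdeal.primeCompl q
  rw [← Localization.mk_eq_mk'] at hq ⊢
  show Localization.mk a ⟨s, hs⟩ = 0
  have hq' : Localization.mk (φ a) ⟨φ s, hs⟩ = (0 : GrTwist.Loc ℬ y) := (GrTwist.locMap_mk φ hφ y a ⟨s, hs⟩).symm.trans hq
  rw [Localization.mk_eq_mk', IsLocalization.mk'_eq_zero_iff] at hq'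
  obtain ⟨⟨t, ht⟩, htz⟩ := hq'
  obtain ⟨k, t', ht'⟩ := exists_surj hc t
  have h0 : φ (t' * a) = 0 := by
    rw [map_mul, ← ht', mul_right_comm, htz, zero_mul]
  obtain ⟨l, hl⟩ := hc.exists_of_eq_zero _ h0
  rw [Localization.mk_eq_mk', IsLocalization.mk'_eq_zero_iff]
  refine ⟨⟨(c : A) ^ l * t', fun h => ?_⟩, by rw [mul_assoc]; exact hl⟩
  have h1 : φ ((c : A) ^ l * t') ∈ y.asHomogeneousIdeal := h
  rw [map_mul, map_pow, ← ht'] at h1
  rcases y.isPrime.mem_or_mem h1 with h2 | h2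
  · exact notMem_c hc y (y.isPrime.mem_of_pow_mem _ h2)
  · rcases y.isPrime.mem_or_mem h2 with h3 | h3
    · exact ht h3
    · exact notMem_c hc y (y.isPrime.mem_of_pow_mem _ h3)

theorem comap_app_bijective (n : ℤ) (U : (Proj 𝒜).Opens) (hU : (U : Set (Proj 𝒜)) ⊆ Set.range (Proj.map φ hφ)) :
    Function.Bijective ((GrTwist.comap φ hφ n).app U) := by
  classical
  haveI := hc.isOpenImmersion_map hφ
  refine ⟨fun s s' h => twist_ext fun x => ?_, fun f => ?_⟩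
  · obtain ⟨y, hy⟩ := hU x.2
    obtain ⟨x, hx⟩ := x
    change Proj.map φ hφ y = x at hy
    subst hy
    refine locMap_injective hc hφ y ?_
    exact congrArg (fun q : Γ(GrTwist.twist ℬ n, Proj.map φ hφ ⁻¹ᵁ U) => GrTwist.val q ⟨y, hx⟩) h
  have hinj : Function.Injective (ProjectiveSpectrum.comap φ hφ) := (Proj.map φ hφ).isOpenEmbedding.injective
  have key : ∀ x : U, ∃ (N : Opens (ProjectiveSpectrum.top 𝒜)) (_ : x.1 ∈ N) (hN : N ≤ U) (i j : ℕ)
      (a : 𝒜 i) (s : 𝒜 j) (nin : ∀ z : N, (s : A) ∉ z.1.asHomogeneousIdeal),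
      ((i : ℤ) = j + n ∨ (a : A) = 0) ∧ ∀ (y : ProjectiveSpectrum ℬ) (hy : ProjectiveSpectrum.comap φ hφ y ∈ N),
        GrTwist.val f ⟨y, hN hy⟩ =
          GrTwist.locMap φ hφ y (Localization.mk (a : A) ⟨(s : A), nin ⟨_, hy⟩⟩) := by
    rintro ⟨x, hx⟩
    obtain ⟨y, hy⟩ := hU hx
    subst hy
    obtain ⟨N, hyN, iN, i, j, ⟨b, hb⟩, ⟨t, ht⟩, nin, hdeg, hw⟩ := f.2 ⟨y, hx⟩
    obtain ⟨k, a, ha, hka⟩ := hc.surj i b hb
    obtain ⟨l, s, hs, hls⟩ := hc.surj j t ht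
    have hmem : ∀ {d : ℕ} {v : A} (_ : v ∈ 𝒜 d) (m : ℕ), (c : A) ^ m * v ∈ 𝒜 d := fun hv m => by
      simpa using SetLike.mul_mem_graded (SetLike.pow_mem_graded m c.2) hv
    have hN : Proj.map φ hφ ''ᵁ N ≤ U := by
      rintro _ ⟨z, hz, rfl⟩
      exact iN.le hz
    have nin' : ∀ z : (Proj.map φ hφ ''ᵁ N : (Proj 𝒜).Opens),
        (c : A) ^ k * s ∉ (z.1 : ProjectiveSpectrum 𝒜).asHomogeneousIdeal := by
      rintro ⟨z, w, hw', rfl⟩ h
      have h1 : φ ((c : A) ^ k * s) ∈ w.asHomogeneousIdeal := h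
      rw [map_mul, map_pow, ← hls] at h1
      rcases w.isPrime.mem_or_mem h1 with h2 | h2
      · exact notMem_c hc w (w.isPrime.mem_of_pow_mem _ h2)
      · rcases w.isPrime.mem_or_mem h2 with h3 | h3
        · exact nin ⟨w, hw'⟩ h3
        · exact notMem_c hc w (w.isPrime.mem_of_pow_mem _ h3)
    obtain ⟨m, hm⟩ : ∃ m : ℕ, (i : ℤ) = j + n ∨ (c : A) ^ (m + l) * a = 0 := by
      rcases hdeg with h | h
      · exact ⟨0, Or.inl h⟩
      · have hb0 : b = 0 := h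
        obtain ⟨m, hm⟩ := hc.exists_of_eq_zero a (by rw [← hka, hb0, zero_mul])
        exact ⟨m, Or.inr (by rw [add_comm m l, pow_add, mul_assoc, hm, mul_zero])⟩
    have nin'' : ∀ z : (Proj.map φ hφ ''ᵁ N : (Proj 𝒜).Opens),
        (c : A) ^ (m + k) * s ∉ (z.1 : ProjectiveSpectrum 𝒜).asHomogeneousIdeal := fun z h => by
      rw [pow_add, mul_assoc] at h
      rcases (z.1 : ProjectiveSpectrum 𝒜).isPrime.mem_or_mem h with h2 | h2
      · obtain ⟨w, -, hw'⟩ := z.2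
        have h3 : φ (c : A) ∈ w.asHomogeneousIdeal := by
          have := (z.1 : ProjectiveSpectrum 𝒜).isPrime.mem_of_pow_mem _ h2
          rw [← hw'] at this
          exact this
        exact notMem_c hc w h3
      · exact nin' z h2
    refine ⟨Proj.map φ hφ ''ᵁ N, ⟨y, hyN, rfl⟩, hN, i, j, ⟨_, hmem ha (m + l)⟩, ⟨_, hmem hs (m + k)⟩, nin'', hm,
      fun w hwN => ?_⟩
    obtain ⟨w', hw'N, hw'⟩ := hwN
    obtain rfl : w' = w := hinj hw'
    refine (hw ⟨w', hw'N⟩).trans ?_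
    rw [GrTwist.locMap_mk, Localization.mk_eq_mk_iff, Localization.r_iff_exists]
    refine ⟨1, ?_⟩
    simp only [OneMemClass.coe_one, one_mul, map_mul, map_pow, ← hka, ← hls]
    ring
  choose N hxN hN i j a s nin hij hw using key
  have hmem : ∀ (x : U), Localization.mk (a x : A) ⟨(s x : A), nin x ⟨x.1, hxN x⟩⟩ ∈ GrTwist.twistAt 𝒜 n x.1 := fun x => by
    rcases hij x with h | h
    · exact Submodule.subset_span ⟨i x, j x, a x, s x, _, h, rfl⟩
    · rw [h, Localization.mk_zero]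
      exact zero_mem _
  let g : ∀ x : U, GrTwist.twistAt 𝒜 n x.1 := fun x => ⟨_, hmem x⟩
  have hg : ∀ (y : ProjectiveSpectrum ℬ) (hy : ProjectiveSpectrum.comap φ hφ y ∈ U),
      GrTwist.locMap φ hφ y (g ⟨_, hy⟩).1 = GrTwist.val f ⟨y, hy⟩ := fun y hy =>
    (hw ⟨_, hy⟩ y (hxN ⟨_, hy⟩)).symm
  refine ⟨⟨g, fun x => ⟨N x, hxN x, homOfLE (hN x), i x, j x, a x, s x, nin x, hij x, ?_⟩⟩, ?_⟩
  · rintro ⟨z, hz⟩
    obtain ⟨w, hw'⟩ := hU (hN x hz)
    subst hw'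
    exact locMap_injective hc hφ w ((hg w (hN x hz)).trans (hw x w hz))
  · exact twist_ext fun y => hg y.1 y.2

end Groth.Agent.ProjX
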