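import Groth.Prelude.Def_RelProj2
import Groth.Agent.Proj16.RelExist
import Groth.Agent.ProjX.ModGlue
import Groth.Agent.ProjX.TwistComap
import Mathlib.AlgebraicGeometry.Sites.SmallAffineZariski

/-!
# The twisting sheaves of a relative `Proj`
-/

set_option linter.style.haveILetI false
set_option linter.unusedSectionVars false
set_option backward.isDefEq.respectTransparency false
set_option backward.isDefEq.respectTransparency.types false

noncomputable section

universe u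

open CategoryTheory CategoryTheory.Limits AlgebraicGeometry TopologicalSpace Opposite
open scoped HomogeneousIdeal

namespace Groth.Agent.ProjX

variable {Y P : Scheme.{u}} {𝒮 : RelProj.QCGrAlg Y} {p : P ⟶ Y}
  {chart : ∀ (U : Y.Opens) (hU : IsAffineOpen U), (((p ⁻¹ᵁ U : P.Opens) : Scheme.{u}) ≅ Proj (𝒮.deg U hU))}

variable (𝒮) in
/-- The restriction homomorphism of an arrow of the affine Zariski site. -/
abbrev resLE {a b : Y.AffineZariskiSite} (h : b ≤ a) : 𝒮.deg a.1 a.2 →+*ᵍ 𝒮.deg b.1 b.2 :=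
  𝒮.res a.2 b.2 (Scheme.AffineZariskiSite.toOpens_mono h)

lemma invertsZero_resLE {a b : Y.AffineZariskiSite} (h : b ≤ a) :
    ∃ c, Proj16.InvertsZero (resLE 𝒮 h) c := by
  obtain ⟨b, hb⟩ := b
  obtain ⟨r, hr⟩ := h
  change Y.basicOpen r = b at hr
  subst hr
  letI := (𝒮.presheaf.map (homOfLE (Y.basicOpen_le r)).op).hom.toAlgebra
  haveI : IsLocalization.Away ((𝒮.str.app (op a.1)).hom r) (𝒮.presheaf.obj (op (Y.basicOpen r))) :=
    𝒮.isQC a.1 a.2 r
  exact ⟨⟨_, 𝒮.str_mem a.1 a.2 r⟩, Proj16.InvertsZero.of_isLocalization (resLE 𝒮 (b := ⟨Y.basicOpen r, hb⟩) ⟨r, rfl⟩)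
    ⟨_, 𝒮.str_mem a.1 a.2 r⟩ fun _ => rfl⟩

lemma irrelevant_le_resLE {a b : Y.AffineZariskiSite} (h : b ≤ a) :
    (𝒮.deg b.1 b.2)₊ ≤ ((𝒮.deg a.1 a.2)₊).map (resLE 𝒮 h) := by
  obtain ⟨b, hb⟩ := b
  obtain ⟨r, hr⟩ := h
  change Y.basicOpen r = b at hr
  subst hr
  exact 𝒮.irrelevant_le_map a.1 a.2 r

/-- The chart immersion of a member of the affine Zariski site. -/
abbrev embA (p : P ⟶ Y)
    (chart : ∀ (U : Y.Opens) (hU : IsAffineOpen U), (((p ⁻¹ᵁ U : P.Opens) : Scheme.{u}) ≅ Proj (𝒮.deg U hU)))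
    (a : Y.AffineZariskiSite) : Proj (𝒮.deg a.1 a.2) ⟶ P :=
  RelProj.emb p chart a.1 a.2

lemma map_resLE_emb (hP : RelProj.IsRelProj 𝒮 p chart) {a b : Y.AffineZariskiSite} (h : b ≤ a) :
    Proj.map (resLE 𝒮 h) (irrelevant_le_resLE h) ≫ embA p chart a = embA p chart b := by
  obtain ⟨b, hb⟩ := b
  obtain ⟨r, hr⟩ := h
  change Y.basicOpen r = b at hr
  subst hr
  exact RelProj.map_res_emb hP a.1 a.2 r

lemma opensRange_embA (a : Y.AffineZariskiSite) : (embA p chart a).opensRange = p ⁻¹ᵁ a.1 := by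
  refine Eq.trans ?_ ((p ⁻¹ᵁ a.1).opensRange_ι)
  exact Scheme.Hom.opensRange_comp_of_isIso _ _

lemma mem_range_of_mem (hP : RelProj.IsRelProj 𝒮 p chart) {a b : Y.AffineZariskiSite} (h : b ≤ a)
    {W : P.Opens} (hW : W ≤ p ⁻¹ᵁ b.1) :
    ((embA p chart a ⁻¹ᵁ W : (Proj (𝒮.deg a.1 a.2)).Opens) : Set _) ⊆
      Set.range (Proj.map (resLE 𝒮 h) (irrelevant_le_resLE h)) := by
  intro y hy
  have hy' : embA p chart a y ∈ (embA p chart b).opensRange := by
    rw [opensRange_embA]; exact hW hy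
  obtain ⟨z, hz⟩ := hy'
  refine ⟨z, (embA p chart a).isOpenEmbedding.injective ?_⟩
  rw [← hz]
  exact congrArg (fun ψ : Proj (𝒮.deg b.1 b.2) ⟶ P => ψ.base z) (map_resLE_emb hP h)

variable (hP : RelProj.IsRelProj 𝒮 p chart) (n : ℤ)

/-- The comparison of the chart modules along an arrow of the affine Zariski site. -/
def relComap {a b : Y.AffineZariskiSite} (h : b ≤ a) :
    (Scheme.Modules.pushforward (embA p chart a)).obj (GrTwist.twist (𝒮.deg a.1 a.2) n) ⟶
      (Scheme.Modules.pushforward (embA p chart b)).obj (GrTwist.twist (𝒮.deg b.1 b.2) n) :=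
  (Scheme.Modules.pushforward (embA p chart a)).map (GrTwist.comap (resLE 𝒮 h) (irrelevant_le_resLE h) n) ≫
    (Scheme.Modules.pushforwardComp (Proj.map (resLE 𝒮 h) (irrelevant_le_resLE h)) (embA p chart a)).hom.app _ ≫
    (Scheme.Modules.pushforwardCongr (map_resLE_emb hP h)).hom.app _

include hP in
lemma mem_of_mem {a b : Y.AffineZariskiSite} (h : b ≤ a) {W : P.Opens} {y : ProjectiveSpectrum (𝒮.deg b.1 b.2)}
    (hy : y ∈ embA p chart b ⁻¹ᵁ W) :
    ProjectiveSpectrum.comap (resLE 𝒮 h) (irrelevant_le_resLE h) y ∈ embA p chart a ⁻¹ᵁ W := by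
  have := congrArg (fun ψ : Proj (𝒮.deg b.1 b.2) ⟶ P => ψ.base y) (map_resLE_emb hP h)
  show (Proj.map (resLE 𝒮 h) (irrelevant_le_resLE h) ≫ embA p chart a).base y ∈ W
  rw [this]
  exact hy

lemma val_relComap {a b : Y.AffineZariskiSite} (h : b ≤ a) (W : P.Opens)
    (s : Γ(GrTwist.twist (𝒮.deg a.1 a.2) n, embA p chart a ⁻¹ᵁ W))
    (y : ProjectiveSpectrum (𝒮.deg b.1 b.2)) (hy : y ∈ embA p chart b ⁻¹ᵁ W) :
    GrTwist.val (V := embA p chart b ⁻¹ᵁ W) ((relComap hP n h).app W s) ⟨y, hy⟩ =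
      GrTwist.locMap (resLE 𝒮 h) (irrelevant_le_resLE h) y
        (GrTwist.val s ⟨_, mem_of_mem hP h hy⟩) := rfl

lemma relComap_bijective {a b : Y.AffineZariskiSite} (h : b ≤ a) (W : P.Opens) (hW : W ≤ p ⁻¹ᵁ b.1) :
    Function.Bijective ((relComap hP n h).app W) := by
  obtain ⟨c, hc⟩ := invertsZero_resLE (𝒮 := 𝒮) h
  have h1 := comap_app_bijective hc (irrelevant_le_resLE h) n _ (mem_range_of_mem hP h hW)
  rw [relComap, Scheme.Modules.Hom.comp_app, Scheme.Modules.Hom.comp_app]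
  haveI : IsIso (((Scheme.Modules.pushforward (embA p chart a)).map
      (GrTwist.comap (resLE 𝒮 h) (irrelevant_le_resLE h) n)).app W) :=
    (ConcreteCategory.isIso_iff_bijective _).2 h1
  exact (ConcreteCategory.isIso_iff_bijective _).1 inferInstance

lemma relComap_refl (a : Y.AffineZariskiSite) : relComap hP n (le_refl a) = 𝟙 _ := by
  refine Scheme.Modules.hom_ext _ _ fun W => ?_
  ext s
  refine twist_ext fun ⟨y, hy⟩ => ?_
  refine (val_relComap hP n (le_refl a) W s y hy).trans ?_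
  obtain ⟨N, hyN, iN, i, j, u, v, nin, -, hw⟩ := s.2 ⟨y, hy⟩
  have hid : ∀ x, resLE 𝒮 (le_refl a) x = x := fun x => by
    show (𝒮.presheaf.map (homOfLE (le_refl a.1)).op).hom x = x
    rw [show (homOfLE (le_refl a.1)).op = 𝟙 (op a.1) from rfl, CategoryTheory.Functor.map_id]
    rfl
  have he : ProjectiveSpectrum.comap (resLE 𝒮 (le_refl a)) (irrelevant_le_resLE (le_refl a)) y = y := by
    refine ProjectiveSpectrum.ext (HomogeneousIdeal.ext' fun i x hx => ?_)
    show resLE 𝒮 (le_refl a) x ∈ y.asHomogeneousIdeal ↔ x ∈ y.asHomogeneousIdeal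
    rw [hid]
  refine (congrArg (GrTwist.locMap _ _ y) (hw ⟨_, he.symm ▸ hyN⟩)).trans ?_
  rw [GrTwist.locMap_mk]
  refine Eq.trans ?_ (hw ⟨y, hyN⟩).symm
  exact congr_arg₂ Localization.mk (hid _) (Subtype.ext (hid _))

lemma relComap_comp {a b c : Y.AffineZariskiSite} (h : b ≤ a) (h' : c ≤ b) :
    relComap hP n (h'.trans h) = relComap hP n h ≫ relComap hP n h' := by
  refine Scheme.Modules.hom_ext _ _ fun W => ?_
  ext s
  refine twist_ext fun ⟨y, hy⟩ => ?_
  refine (val_relComap hP n (h'.trans h) W s y hy).trans ?_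
  rw [Scheme.Modules.Hom.comp_app]
  refine Eq.trans ?_ (val_relComap hP n h' W ((relComap hP n h).app W s) y hy).symm
  refine Eq.trans ?_ (congrArg _ (val_relComap hP n h W s _ (mem_of_mem hP h' hy))).symm
  have hcomp : ∀ x, resLE 𝒮 h' (resLE 𝒮 h x) = resLE 𝒮 (h'.trans h) x := fun x => by
    show (𝒮.presheaf.map _).hom ((𝒮.presheaf.map _).hom x) = (𝒮.presheaf.map _).hom x
    rw [← RingHom.comp_apply, ← CommRingCat.hom_comp, ← Functor.map_comp]
    rfl
  have he : ProjectiveSpectrum.comap (resLE 𝒮 h) (irrelevant_le_resLE h)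
      (ProjectiveSpectrum.comap (resLE 𝒮 h') (irrelevant_le_resLE h') y) =
      ProjectiveSpectrum.comap (resLE 𝒮 (h'.trans h)) (irrelevant_le_resLE (h'.trans h)) y := by
    refine ProjectiveSpectrum.ext (HomogeneousIdeal.ext' fun i x hx => ?_)
    show resLE 𝒮 h' (resLE 𝒮 h x) ∈ y.asHomogeneousIdeal ↔ resLE 𝒮 (h'.trans h) x ∈ y.asHomogeneousIdeal
    rw [hcomp]
  obtain ⟨N, hyN, iN, i, j, u, v, nin, -, hw⟩ := s.2 ⟨_, mem_of_mem hP (h'.trans h) hy⟩
  refine (congrArg (GrTwist.locMap _ _ y) (hw ⟨_, hyN⟩)).trans ?_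
  refine Eq.trans ?_ (congrArg (fun q => GrTwist.locMap (resLE 𝒮 h') (irrelevant_le_resLE h') y
    (GrTwist.locMap (resLE 𝒮 h) (irrelevant_le_resLE h) _ q)) (hw ⟨_, he.symm ▸ hyN⟩)).symm
  exact (locMap_comp (resLE 𝒮 h) _ (resLE 𝒮 h') _ (resLE 𝒮 (h'.trans h)) _ hcomp y _ _ _ _).symm

/-- The diagram of chart modules. -/
def twistDiagram : Y.AffineZariskiSiteᵒᵖ ⥤ P.Modules where
  obj a := (Scheme.Modules.pushforward (embA p chart a.unop)).obj (GrTwist.twist (𝒮.deg a.unop.1 a.unop.2) n)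
  map f := relComap hP n (leOfHom f.unop)
  map_id a := relComap_refl hP n a.unop
  map_comp f g := relComap_comp hP n (leOfHom f.unop) (leOfHom g.unop)

include hP in
theorem exists_isRelTwist :
    ∃ (L : P.Modules) (lam : ∀ (U : Y.Opens) (hU : IsAffineOpen U),
      L ⟶ (Scheme.Modules.pushforward (RelProj.emb p chart U hU)).obj (GrTwist.twist (𝒮.deg U hU) n)),
      RelProj.IsRelTwist 𝒮 p chart n L lam := by
  refine ⟨limit (twistDiagram hP n), fun U hU => limit.π (twistDiagram hP n) (op ⟨U, hU⟩), ⟨fun U hU W hW => ?_,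
    fun U hU r W s y hy hy' => ?_⟩⟩
  · refine limit_bijective (twistDiagram hP n) (fun a => p ⁻¹ᵁ a.1)
      (fun h W hW => relComap_bijective hP n h W hW) (fun a W => ?_)
      (fun {a b} h => p.preimage_mono (Scheme.AffineZariskiSite.toOpens_mono h))
      (fun a c x hx => ?_) ⟨U, hU⟩ W hW
    · have he : embA p chart a ⁻¹ᵁ (W ⊓ p ⁻¹ᵁ a.1) = embA p chart a ⁻¹ᵁ W := by
        refine le_antisymm (fun z hz => hz.1) fun z hz => ⟨hz, ?_⟩
        exact (opensRange_embA a).le ⟨z, rfl⟩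
      show Function.Bijective ((GrTwist.twist (𝒮.deg a.1 a.2) n).presheaf.map (homOfLE he.le).op)
      haveI : IsIso (homOfLE he.le).op := by
        rw [show homOfLE he.le = eqToHom he from rfl]
        infer_instance
      exact (ConcreteCategory.isIso_iff_bijective _).1 inferInstance
    · obtain ⟨r, s, e, hxr⟩ := exists_basicOpen_le_affine_inter a.2 c.2 (p.base x) hx
      exact ⟨⟨Y.basicOpen r, a.2.basicOpen r⟩, ⟨r, rfl⟩, ⟨s, e.symm⟩, hxr⟩
  · let a : Y.AffineZariskiSite := ⟨U, hU⟩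
    let b : Y.AffineZariskiSite := a.basicOpen r
    have h : b ≤ a := a.basicOpen_le r
    have hw : limit.π (twistDiagram hP n) (op a) ≫ relComap hP n h = limit.π (twistDiagram hP n) (op b) :=
      limit.w (twistDiagram hP n) (homOfLE h).op
    show GrTwist.val (V := embA p chart b ⁻¹ᵁ W) ((limit.π (twistDiagram hP n) (op b)).app W s) ⟨y, hy⟩ = _
    rw [← hw]
    exact val_relComap hP n h W _ y hy

end Groth.Agent.ProjX
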