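import Groth.Agent.AmpleX.Rel
import Groth.Agent.AmpleX.Pow
import Groth.Agent.RelTildeX.Invertible
import Groth.Agent.ProjX.RelTwist

/-!
# `O(1)` on the `Proj` of a ring generated in degree one is ample; relative version
-/

set_option linter.style.haveILetI false
set_option linter.unusedSectionVars false
set_option backward.isDefEq.respectTransparency false
set_option backward.isDefEq.respectTransparency.types false

noncomputable section

universe u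

open CategoryTheory CategoryTheory.Limits AlgebraicGeometry TopologicalSpace Opposite
open scoped HomogeneousIdeal

namespace Groth.Agent.ProjX

open Groth.Agent

section ring

variable {A σ : Type u} [CommRing A] [SetLike σ A] [AddSubgroupClass σ A] (𝒜 : ℕ → σ) [GradedRing 𝒜]

/-- The fraction `a / 1` on an open where the homogeneous element `a` does not vanish. -/
def degFrac {d : ℕ} {a : A} (ha : a ∈ 𝒜 d) {U : (Proj 𝒜).Opens} (hU : U ≤ Proj.basicOpen 𝒜 a) :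
    GrTwistX.UnitFrac (𝒜 := 𝒜) (d : ℤ) U where
  i := d
  j := 0
  num := a
  den := 1
  num_mem := ha
  den_mem := SetLike.GradedOne.one_mem
  deg := by simp
  num_ne x := hU x.2
  den_ne x h := x.1.isPrime.ne_top ((Ideal.eq_top_iff_one _).mpr h)

/-- The global section of `O(d)` of an element of degree `d`. -/
def degSec {d : ℕ} {a : A} (ha : a ∈ 𝒜 d) : Γ(GrTwist.twist 𝒜 (d : ℤ), ⊤) :=
  GrTwist.globalOf 𝒜 (⟨a, ha⟩ : 𝒜 d)

lemma res_degSec {d : ℕ} {a : A} (ha : a ∈ 𝒜 d) {V : (Proj 𝒜).Opens} (h : V ≤ Proj.basicOpen 𝒜 a) :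
    AModX.res (GrTwist.twist 𝒜 (d : ℤ)) (le_top : V ≤ ⊤) (degSec 𝒜 ha) =
      GrTwistX.fracSect (degFrac 𝒜 ha h) :=
  rfl

lemma isFrame_degSec {d : ℕ} {a : A} (ha : a ∈ 𝒜 d) :
    InvX.IsFrame (AModX.res (GrTwist.twist 𝒜 (d : ℤ)) (le_top : Proj.basicOpen 𝒜 a ≤ ⊤) (degSec 𝒜 ha)) := by
  intro V h
  rw [AModX.res_res, res_degSec 𝒜 ha h]
  exact GrTwistX.trivMap_bijective (degFrac 𝒜 ha h)

theorem genLocus_degSec {d : ℕ} {κ : Type*} (g : κ → A) (hg : ∀ j, g j ∈ 𝒜 d)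
    (hcov : ⨆ j, Proj.basicOpen 𝒜 (g j) = ⊤) {a : A} (ha : a ∈ 𝒜 d) :
    CohB1.genLocus (GrTwist.twist 𝒜 (d : ℤ)) (InvX.ofSect (degSec 𝒜 ha)) = Proj.basicOpen 𝒜 a := by
  refine le_antisymm (fun x hx => ?_) (InvX.le_genLocus _ ?_)
  · obtain ⟨j, hj⟩ := Opens.mem_iSup.1 (hcov.ge (trivial : x ∈ (⊤ : (Proj 𝒜).Opens)))
    obtain ⟨c, hc⟩ := (isFrame_degSec 𝒜 (hg j)).exists_coord le_rfl
      (AModX.res (GrTwist.twist 𝒜 (d : ℤ)) (le_top : Proj.basicOpen 𝒜 (g j) ≤ ⊤) (degSec 𝒜 ha))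
    rw [AModX.res_res] at hc
    have h2 := InvX.genLocus_inf (InvX.ofSect (degSec 𝒜 ha)) (isFrame_degSec 𝒜 (hg j))
      (g := c) (by rw [InvX.one_ofSect]; exact hc)
    have hxc : x ∈ (Proj 𝒜).basicOpen c := h2 ▸ ⟨hx, hj⟩
    have hval := congrArg (fun q : Γ(GrTwist.twist 𝒜 (d : ℤ), Proj.basicOpen 𝒜 (g j)) => GrTwist.val q ⟨x, hj⟩) hc
    let ev : Γ(Proj 𝒜, (Proj 𝒜).basicOpen c) →+* GrTwist.A0 𝒜 x :=
      { toFun := fun r => r.1 ⟨x, hxc⟩
        map_one' := rfl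
        map_zero' := rfl
        map_add' := fun _ _ => rfl
        map_mul' := fun _ _ => rfl }
    have hu : IsUnit (c.1 ⟨x, hj⟩ : GrTwist.A0 𝒜 x) :=
      (AModX.isUnit_resR ((Proj 𝒜).basicOpen_le c) c le_rfl).map ev
    have hone : (1 : A) ∉ x.asHomogeneousIdeal := fun h => x.isPrime.ne_top ((Ideal.eq_top_iff_one _).mpr h)
    have hu2 : IsUnit (Localization.mk a ⟨1, hone⟩ : GrTwist.Loc 𝒜 x) := by
      have heq : (Localization.mk a ⟨1, hone⟩ : GrTwist.Loc 𝒜 x) =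
          (c.1 ⟨x, hj⟩ : GrTwist.A0 𝒜 x).val * Localization.mk (g j) ⟨1, hone⟩ :=
        hval.trans (GrTwist.coe_smul_val (d : ℤ) x (c.1 ⟨x, hj⟩) _)
      rw [heq]
      refine IsUnit.mul (hu.map (algebraMap _ (GrTwist.Loc 𝒜 x))) ?_
      exact GrTwistX.isUnit_frac (degFrac 𝒜 (hg j) le_rfl) ⟨x, hj⟩
    show a ∉ x.asHomogeneousIdeal
    intro hmem
    have hmk : (Localization.mk a ⟨1, hone⟩ : GrTwist.Loc 𝒜 x) = algebraMap A _ a :=
      Localization.mk_one_eq_algebraMap a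
    rw [hmk] at hu2
    exact (IsLocalization.AtPrime.isUnit_to_map_iff _ x.asHomogeneousIdeal.toIdeal a).1 hu2 hmem
  · rw [InvX.one_ofSect]
    exact isFrame_degSec 𝒜 ha

theorem isAmple_twist {d : ℕ} (hd : 0 < d) (s : Finset A) (hs1 : ∀ f ∈ s, f ∈ 𝒜 d)
    (hcov : ⨆ f : s, Proj.basicOpen 𝒜 (f : A) = ⊤) : CohB1.IsAmple (GrTwist.twist 𝒜 (d : ℤ)) := by
  have haff : ∀ f : s, IsAffineOpen (Proj.basicOpen 𝒜 (f : A)) := fun f =>
    Proj.isAffineOpen_basicOpen 𝒜 _ (hs1 f f.2) hd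
  have hmem : ∀ x : Proj 𝒜, ∃ f : s, x ∈ Proj.basicOpen 𝒜 (f : A) := fun x =>
    Opens.mem_iSup.1 (hcov.ge (trivial : x ∈ (⊤ : (Proj 𝒜).Opens)))
  have hL : PicF.IsInvertible (GrTwist.twist 𝒜 (d : ℤ)) := fun x => by
    obtain ⟨f, hf⟩ := hmem x
    have h := GrTwistX.nonempty_iso_basicOpen (hs1 f f.2) (1 : ℤ)
    rw [one_mul] at h
    exact ⟨_, hf, h⟩
  refine AmpleX.isAmple_iff.2 ⟨hL, ⟨?_⟩, fun x => ?_⟩
  · have : (Set.univ : Set (Proj 𝒜)) = ⋃ f : s, (Proj.basicOpen 𝒜 (f : A) : Set (Proj 𝒜)) := by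
      rw [← Opens.coe_iSup, hcov]
      rfl
    rw [this]
    exact isCompact_iUnion fun f => (haff f).isCompact
  · obtain ⟨f, hf⟩ := hmem x
    refine ⟨1, one_pos, InvX.powHom (InvX.ofSect (degSec 𝒜 (hs1 f f.2))) 1, ?_⟩
    rw [InvX.genLocus_powHom hL _ 0,
      genLocus_degSec 𝒜 (fun f : s => (f : A)) (fun f => hs1 f f.2) hcov (hs1 f f.2)]
    exact ⟨hf, haff f⟩

theorem isAmple_twist_one (s : Finset A) (hs1 : ∀ f ∈ s, f ∈ 𝒜 1)
    (hcov : ⨆ f : s, Proj.basicOpen 𝒜 (f : A) = ⊤) : CohB1.IsAmple (GrTwist.twist 𝒜 (1 : ℤ)) :=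
  isAmple_twist 𝒜 one_pos s hs1 hcov

end ring

variable {Y P : Scheme.{u}} {𝒮 : RelProj.QCGrAlg Y} {p : P ⟶ Y}
  {chart : ∀ (U : Y.Opens) (hU : IsAffineOpen U), (((p ⁻¹ᵁ U : P.Opens) : Scheme.{u}) ≅ Proj (𝒮.deg U hU))}

lemma iSup_basicOpen_deg_one (hgen : 𝒮.IsGenDegOne) (U : Y.Opens) (hU : IsAffineOpen U)
    (s : Set (𝒮.presheaf.obj (op U)))
    (hs : (𝒮.deg U hU 1 : Set (𝒮.presheaf.obj (op U))) ⊆ Ideal.span s) :
    ⨆ f : s, Proj.basicOpen (𝒮.deg U hU) (f : 𝒮.presheaf.obj (op U)) = ⊤ := by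
  refine top_unique fun x _ => Opens.mem_iSup.2 ?_
  by_contra! hall
  refine x.not_irrelevant_le (show ((𝒮.deg U hU)₊).toIdeal ≤ x.asHomogeneousIdeal.toIdeal from ?_)
  rw [RelTildeX.irrelevant_eq_span_deg_one hgen U hU]
  refine Ideal.span_le.2 (hs.trans ?_)
  exact Ideal.span_le.2 fun f hf => not_not.1 (hall ⟨f, hf⟩)

theorem isRelAmple_twist (hP : RelProj.IsRelProj 𝒮 p chart) [QuasiCompact p] (hgen : 𝒮.IsGenDegOne)
    (hft : 𝒮.IsFTDeg 1) {L : P.Modules}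
    {lam : ∀ (U : Y.Opens) (hU : IsAffineOpen U),
      L ⟶ (Scheme.Modules.pushforward (RelProj.emb p chart U hU)).obj (GrTwist.twist (𝒮.deg U hU) 1)}
    (hL : RelProj.IsRelTwist 𝒮 p chart 1 L lam) : RelAmple.IsRelAmple p L := by
  refine ⟨inferInstance, fun V => ?_⟩
  obtain ⟨s, hs1, hspan⟩ : ∃ s : Finset (𝒮.presheaf.obj (op V.1)), (∀ f ∈ s, f ∈ 𝒮.deg V.1 V.2 1) ∧
      (𝒮.deg V.1 V.2 1 : Set (𝒮.presheaf.obj (op V.1))) ⊆ Ideal.span (s : Set (𝒮.presheaf.obj (op V.1))) := by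
    obtain ⟨T, hT, hgenT⟩ := hft V.1 V.2
    refine ⟨T, fun f hf => hT hf, fun x hx => ?_⟩
    obtain ⟨c, rfl⟩ := hgenT x hx
    exact Ideal.sum_mem _ fun t ht => Ideal.mul_mem_left _ _ (Ideal.subset_span ht)
  refine AmpleX.isAmple_restrict_congr (RelProj.emb p chart V.1 V.2) (p ⁻¹ᵁ V.1).ι
    (RelTildeX.isInvertible_twist hgen hL) ?_ (AmpleX.isAmple_of_iso (RelTildeX.twistIso hL V.1 V.2).symm
      (isAmple_twist_one _ s hs1 (iSup_basicOpen_deg_one hgen V.1 V.2 _ hspan)))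
  rw [RelTildeX.opensRange_emb, Scheme.Opens.opensRange_ι]

end Groth.Agent.ProjX

namespace Groth.Agent.ProjX

open Groth.Agent

/-- A projective morphism is quasi-projective and has an ample `O(1)`. -/
theorem exists_isRelAmple_of_isProjective {X S : Scheme.{u}} {f : X ⟶ S} (hf : RelProj.IsProjective f)
    [QuasiCompact f] : ∃ L : X.Modules, RelAmple.IsRelAmple f L := by
  obtain ⟨𝒮, P, p, chart, e, hgen, hft, hP, rfl⟩ := hf
  haveI : QuasiCompact p := by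
    have h : e.inv ≫ e.hom ≫ p = p := by simp
    rw [← h]; infer_instance
  obtain ⟨L, lam, hL⟩ := exists_isRelTwist hP 1
  have hA := isRelAmple_twist hP hgen hft hL
  refine ⟨L.restrict e.hom, inferInstance, fun V => ?_⟩
  refine AmpleX.isAmple_of_iso (QCoh.restrictRestrict L ((e.hom ≫ p) ⁻¹ᵁ V.1).ι e.hom).symm ?_
  refine AmpleX.isAmple_restrict_congr (p ⁻¹ᵁ V.1).ι _ (AmpleX.isInvertible_of_isRelAmple hA) ?_ (hA.2 V)
  rw [Scheme.Opens.opensRange_ι, Scheme.Hom.opensRange_comp, Scheme.Opens.opensRange_ι, Scheme.Hom.comp_preimage]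
  exact (e.hom.image_preimage_eq_opensRange_inf _).trans (by rw [Scheme.Hom.opensRange_of_isIso, top_inf_eq]) |>.symm

end Groth.Agent.ProjX

namespace Groth.Agent.ProjX

open Groth.Agent

variable {Y P : Scheme.{u}} {𝒮 : RelProj.QCGrAlg Y} {p : P ⟶ Y}
  {chart : ∀ (U : Y.Opens) (hU : IsAffineOpen U), (((p ⁻¹ᵁ U : P.Opens) : Scheme.{u}) ≅ Proj (𝒮.deg U hU))}

/-- Over a quasi-compact base, some `O(d)` of a relative `Proj` of finite type is relatively ample. -/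
theorem exists_isRelAmple_twist [CompactSpace Y]
    (hft : ∀ (U : Y.Opens) (_ : IsAffineOpen U), (𝒮.str.app (op U)).hom.FiniteType)
    (hP : RelProj.IsRelProj 𝒮 p chart) :
    ∃ d : ℕ, 0 < d ∧ ∀ (L : P.Modules) (lam : ∀ (U : Y.Opens) (hU : IsAffineOpen U),
        L ⟶ (Scheme.Modules.pushforward (RelProj.emb p chart U hU)).obj (GrTwist.twist (𝒮.deg U hU) (d : ℤ))),
      RelProj.IsRelTwist 𝒮 p chart (d : ℤ) L lam → PicF.IsInvertible L ∧ RelAmple.IsRelAmple p L := by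
  classical
  haveI := (Proj16.finiteType_of_finiteType hP hft).2
  obtain ⟨t, ht⟩ := (isCompact_univ (X := Y)).elim_finite_subcover (fun U : Y.affineOpens => (U.1 : Set Y))
    (fun U => U.1.2) (fun x _ => by
      obtain ⟨_, ⟨U, hU, rfl⟩, hxU, -⟩ := Y.isBasis_affineOpens.exists_subset_of_mem_open
        (Set.mem_univ x) isOpen_univ
      exact Set.mem_iUnion.2 ⟨⟨U, hU⟩, hxU⟩)
  have hgen : ∀ U : Y.affineOpens, ∃ s : Finset (𝒮.presheaf.obj (op U.1)),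
      (∀ e ∈ s, ∃ d, 0 < d ∧ e ∈ 𝒮.deg U.1 U.2 d) ∧
      ((𝒮.deg U.1 U.2)₊).toIdeal = Ideal.span (s : Set (𝒮.presheaf.obj (op U.1))) := fun U => by
    refine Proj16.exists_finset_irrelevant_eq_span _ ((Proj16.irrelevant_fg_iff _).2 ?_)
    letI := (𝒮.str.app (op U.1)).hom.toAlgebra
    haveI : Algebra.FiniteType Γ(Y, U.1) (𝒮.presheaf.obj (op U.1)) := hft U.1 U.2
    letI : Algebra Γ(Y, U.1) (𝒮.deg U.1 U.2 0) := (𝒮.strZero U.1 U.2).hom.toAlgebra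
    haveI : IsScalarTower Γ(Y, U.1) (𝒮.deg U.1 U.2 0) (𝒮.presheaf.obj (op U.1)) :=
      IsScalarTower.of_algebraMap_eq (R := Γ(Y, U.1)) (S := 𝒮.deg U.1 U.2 0) (A := 𝒮.presheaf.obj (op U.1))
        fun _ => rfl
    exact Algebra.FiniteType.of_restrictScalars_finiteType Γ(Y, U.1) _ _
  choose s hs hspan using hgen
  choose e he0 he using hs
  let d := ∏ U ∈ t, ∏ g : s U, e U g.1 g.2
  refine ⟨d, Finset.prod_pos fun U _ => Finset.prod_pos fun g _ => he0 U g.1 g.2, fun L lam hL => ?_⟩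
  have h : RelAmple.IsRelAmple p L := by
    refine AmpleX.isRelAmple_of_ampleOn fun x => ?_
    obtain ⟨U, hUt, hxU⟩ := Set.mem_iUnion₂.1 (ht (Set.mem_univ (p x)))
    refine ⟨U.1, Proj (𝒮.deg U.1 U.2), RelProj.emb p chart U.1 U.2, RelProj.isOpenImmersion_emb _ _ _ _, hxU,
      (RelTildeX.opensRange_emb p chart U.1 U.2).ge,
      AmpleX.isAmple_of_iso (RelTildeX.twistIso hL U.1 U.2).symm ?_⟩
    have hdvd : ∀ g : s U, e U g.1 g.2 ∣ d := fun g =>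
      (Finset.dvd_prod_of_mem (fun g : s U => e U g.1 g.2) (Finset.mem_univ g)).trans
        (Finset.dvd_prod_of_mem (fun U => ∏ g : s U, e U g.1 g.2) hUt)
    refine isAmple_twist _ (Finset.prod_pos fun U _ => Finset.prod_pos fun g _ => he0 U g.1 g.2)
      (Finset.univ.image fun g : s U => g.1 ^ (d / e U g.1 g.2)) (fun f hf => ?_) (top_unique fun z _ => ?_)
    · obtain ⟨g, -, rfl⟩ := Finset.mem_image.1 hf
      have := SetLike.pow_mem_graded (d / e U g.1 g.2) (he U g.1 g.2)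
      rwa [smul_eq_mul, Nat.div_mul_cancel (hdvd g)] at this
    · refine Opens.mem_iSup.2 ?_
      by_contra! hall
      refine z.not_irrelevant_le (show ((𝒮.deg U.1 U.2)₊).toIdeal ≤ z.asHomogeneousIdeal.toIdeal from ?_)
      rw [hspan U, Ideal.span_le]
      intro g hg
      have := not_not.1 (hall ⟨g ^ (d / e U g hg), Finset.mem_image.2 ⟨⟨g, hg⟩, Finset.mem_univ _, rfl⟩⟩)
      exact z.isPrime.mem_of_pow_mem _ this
  exact ⟨AmpleX.isInvertible_of_isRelAmple h, h⟩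

end Groth.Agent.ProjX
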