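import Groth.Agent.Proj16.ClosedSub
import Groth.Agent.Proj16.AwayZero

/-!
# The ideal of a closed subscheme of `Proj`: quotient form and behaviour under inverting degree zero
-/

set_option linter.style.haveILetI false
set_option linter.unusedSectionVars false
set_option backward.isDefEq.respectTransparency false
set_option backward.isDefEq.respectTransparency.types false

universe u

open CategoryTheory CategoryTheory.Limits AlgebraicGeometry HomogeneousLocalization DirectSum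

namespace Groth.Agent.ProjX

open Groth.Agent.Proj16

section quotient

variable {R A B τ : Type u} [CommRing R] [CommRing A] [Algebra R A] {𝒜 : ℕ → Submodule R A}
  [GradedAlgebra 𝒜] [CommRing B] [SetLike τ B] [AddSubgroupClass τ B] {ℬ : ℕ → τ} [GradedRing ℬ]
  {Z : Scheme.{u}} (i : Z ⟶ Proj 𝒜) (s : Finset A) (hs1 : ∀ f ∈ s, f ∈ 𝒜 1)

include hs1 in
/-- A graded quotient by the ideal of a closed subscheme of `Proj` is that subscheme. -/
theorem exists_iso_of_ker [IsClosedImmersion i] (hs : (HomogeneousIdeal.irrelevant 𝒜).toIdeal = Ideal.span (s : Set A))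
    (φ : 𝒜 →+*ᵍ ℬ) (hsurj : Function.Surjective φ) (hφ : HomogeneousIdeal.irrelevant ℬ ≤ (HomogeneousIdeal.irrelevant 𝒜).map φ)
    (hker : ∀ a, φ a = 0 ↔ a ∈ subIdeal 𝒜 i s hs1) :
    ∃ e : Z ≅ Proj ℬ, e.hom ≫ Proj.map φ hφ = i := by
  have := isClosedImmersion_map φ hφ hsurj
  have hk : (Proj.map φ hφ).ker = i.ker := by
    have hcomap : ∀ f : s, (Proj.map φ hφ).ker.comap (Proj.awayι 𝒜 f.1 (hs1 f.1 f.2) one_pos) =
        i.ker.comap (Proj.awayι 𝒜 f.1 (hs1 f.1 f.2) one_pos) := by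
      rintro ⟨f, hf⟩
      have sq : IsPullback (Spec.map (CommRingCat.ofHom (Away.map φ f)))
          (Proj.awayι _ (φ f) (φ.2 (hs1 f hf)) one_pos) (Proj.awayι 𝒜 f (hs1 f hf) one_pos)
          (Proj.map φ hφ) := by
        refine IsOpenImmersion.isPullback _ _ _ _ (Proj.awayι_comp_map φ hφ one_pos _ (hs1 f hf)) ?_
        rw [Proj.opensRange_awayι, Proj.opensRange_awayι, Proj.map_preimage_basicOpen]
      refine comap_eq_of_chartIdeal _ ?_
      rw [chartIdeal_eq_ker _ _ sq]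
      show RingHom.ker (Away.map φ f) = away1Ideal 𝒜 i (hs1 f hf)
      ext x
      obtain ⟨n, a, ha, rfl⟩ := x.mk_surjective 𝒜 (hs1 f hf)
      have ha' : a ∈ 𝒜 n := by simpa using ha
      rw [RingHom.mem_ker, Away.map_mk, ← (HomogeneousLocalization.val_injective _).eq_iff,
        Away.val_mk, HomogeneousLocalization.val_zero, Localization.mk_eq_mk',
        IsLocalization.mk'_eq_zero_iff]
      constructor
      · rintro ⟨⟨_, m, rfl⟩, hm⟩
        have hmI : f ^ m * a ∈ subIdeal 𝒜 i s hs1 := (hker _).1 (by simpa using hm)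
        have hmem : f ^ m * a ∈ 𝒜 (m + n) :=
          SetLike.mul_mem_graded (by simpa using SetLike.pow_mem_graded m (hs1 f hf)) ha'
        have h1 := hmI (m + n)
        simp only [InPart, proj_of_mem 𝒜 hmem] at h1
        have h2 := h1 f hf hmem
        have e : Away.mk 𝒜 (hs1 f hf) n a ha =
            Away.mk 𝒜 (hs1 f hf) (m + n) (f ^ m * a) (smul_one_mem 𝒜 hmem) := by
          apply HomogeneousLocalization.val_injective
          simp only [Away.val_mk]
          rw [Localization.mk_eq_mk_iff, Localization.r_iff_exists]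
          exact ⟨1, by simp [pow_add]; ring⟩
        rw [e]
        exact h2
      · intro hK
        obtain ⟨k, hk⟩ := exists_pow_mul_mem 𝒜 i s hs1 hf n ha' hK
        refine ⟨⟨φ f ^ k, k, rfl⟩, ?_⟩
        show φ f ^ k * φ a = 0
        rw [← map_pow, ← map_mul]
        exact (hker _).2 hk
    have hcov : ∀ y : Proj 𝒜, ∃ (f : s) (z : Spec (.of (Away 𝒜 f.1))),
        Proj.awayι 𝒜 f.1 (hs1 f.1 f.2) one_pos z = y := fun y => by
      obtain ⟨f, hy⟩ := TopologicalSpace.Opens.mem_iSup.mp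
        ((Proj.iSup_basicOpen_eq_top 𝒜 (fun f : s => f.1) (by
          rw [hs, Subtype.range_coe_subtype]; rfl)).ge (Set.mem_univ y))
      rw [← Proj.opensRange_awayι 𝒜 f.1 (hs1 f.1 f.2) one_pos] at hy
      exact ⟨f, hy⟩
    exact le_antisymm (ModPairLib.le_of_comap_le _ hcov fun f => (hcomap f).le)
      (ModPairLib.le_of_comap_le _ hcov fun f => (hcomap f).ge)
  exact ⟨@asIso _ _ _ _ (IsClosedImmersion.lift (Proj.map φ hφ) i hk.le)
      (IsClosedImmersion.isIso_lift _ _ hk), IsClosedImmersion.lift_fac _ _ _⟩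

end quotient

section localization

variable {R R' A B : Type u} [CommRing R] [CommRing R'] [CommRing A] [Algebra R A] {𝒜 : ℕ → Submodule R A}
  [GradedAlgebra 𝒜] [CommRing B] [Algebra R' B] {ℬ : ℕ → Submodule R' B} [GradedAlgebra ℬ]
  (φ : 𝒜 →+*ᵍ ℬ) (hφ : HomogeneousIdeal.irrelevant ℬ ≤ (HomogeneousIdeal.irrelevant 𝒜).map φ)
  {Z Z' : Scheme.{u}} (i : Z ⟶ Proj 𝒜) (i' : Z' ⟶ Proj ℬ) (hcomap : i'.ker = i.ker.comap (Proj.map φ hφ))
  (s : Finset A) (hs1 : ∀ f ∈ s, f ∈ 𝒜 1) (s' : Finset B) (hs1' : ∀ f ∈ s', f ∈ ℬ 1)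
  (hss' : ∀ f ∈ s, φ f ∈ s') (hs's : ∀ g ∈ s', ∃ f ∈ s, φ f = g)

include hφ hcomap in
lemma away1Ideal_comap {f : A} (hf : f ∈ 𝒜 1) {g : B} (hg : g ∈ ℬ 1) (e : φ f = g) {m : ℕ} {a : A}
    (ha : a ∈ 𝒜 m) :
    (Away.mk ℬ hg m (φ a) (smul_one_mem ℬ (φ.2 ha)) ∈ away1Ideal ℬ i' hg) ↔
      Away.map φ f (Away.mk 𝒜 hf m a (smul_one_mem 𝒜 ha)) ∈ (away1Ideal 𝒜 i hf).map (Away.map φ f) := by
  subst e
  have h1 : away1Ideal ℬ i' hg = (away1Ideal 𝒜 i hf).map (Away.map φ f) := by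
    unfold away1Ideal
    rw [hcomap]
    refine Eq.trans ?_ ((congrArg (chartIdeal i.ker) (Proj.awayι_comp_map φ hφ one_pos f hf)).trans
      (chartIdeal_comp i.ker _ _))
    unfold chartIdeal
    rw [Scheme.IdealSheafData.comap_comp]
  rw [h1, Away.map_mk]

include hφ hcomap hs's in
lemma map_mem_subIdeal {a : A} (ha : a ∈ subIdeal 𝒜 i s hs1) : φ a ∈ subIdeal ℬ i' s' hs1' := by
  intro m g hg hm
  obtain ⟨f, hf, e⟩ := hs's g hg
  simp only [← proj_map_commutes φ]
  rw [away1Ideal_comap φ hφ i i' hcomap (hs1 f hf) (hs1' g hg) e (proj_mem 𝒜 m a)]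
  exact Ideal.mem_map_of_mem _ (ha m f hf (proj_mem 𝒜 m a))

variable {c : 𝒜 0} (hc : InvertsZero φ c)

include hφ hcomap hss' hc in
lemma exists_mem_subIdeal_homogeneous {m : ℕ} {a : A} (ha : a ∈ 𝒜 m) (h : φ a ∈ subIdeal ℬ i' s' hs1') :
    ∃ k : ℕ, (c : A) ^ k * a ∈ subIdeal 𝒜 i s hs1 := by
  classical
  have key : ∀ f : s, ∃ M : ℕ, ∀ M', M ≤ M' → ∀ hmem : (c : A) ^ M' * a ∈ 𝒜 m,
      Away.mk 𝒜 (hs1 f.1 f.2) m ((c : A) ^ M' * a) (smul_one_mem 𝒜 hmem) ∈ away1Ideal 𝒜 i (hs1 f.1 f.2) := by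
    rintro ⟨f, hf⟩
    have h1 : InPart ℬ i' s' hs1' m (φ a) :=
      (show GradedRing.proj ℬ m (φ a) = φ a from proj_of_mem ℬ (φ.2 ha)) ▸ h m
    have h2 := (away1Ideal_comap φ hφ i i' hcomap (hs1 f hf) (hs1' _ (hss' f hf)) rfl ha).1
      (h1 _ (hss' f hf) (φ.2 ha))
    letI := (Away.map φ f).toAlgebra
    haveI := hc.awayMap_isLocalization (hs1 f hf)
    obtain ⟨_, ⟨M, rfl⟩, hM⟩ := (IsLocalization.algebraMap_mem_map_algebraMap_iff
      (Submonoid.powers (fromZeroRingHom 𝒜 (Submonoid.powers f) c)) (Away ℬ (φ f)) _ _).mp h2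
    refine ⟨M, fun M' hM' hmem => ?_⟩
    obtain ⟨l, rfl⟩ := Nat.exists_eq_add_of_le hM'
    have e : Away.mk 𝒜 (hs1 f hf) m ((c : A) ^ (M + l) * a) (smul_one_mem 𝒜 hmem) =
        fromZeroRingHom 𝒜 (Submonoid.powers f) c ^ l *
          (fromZeroRingHom 𝒜 (Submonoid.powers f) c ^ M * Away.mk 𝒜 (hs1 f hf) m a (smul_one_mem 𝒜 ha)) := by
      apply HomogeneousLocalization.val_injective
      simp only [HomogeneousLocalization.val_mul, HomogeneousLocalization.val_pow, Away.val_mk]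
      show _ = Localization.mk (c : A) 1 ^ l * (Localization.mk (c : A) 1 ^ M * _)
      rw [Localization.mk_pow, Localization.mk_pow, Localization.mk_mul, Localization.mk_mul]
      simp only [one_pow, one_mul]
      congr 1
      ring
    rw [e]
    exact Ideal.mul_mem_left _ _ hM
  choose M hM using key
  have hmem : (c : A) ^ Finset.univ.sup M * a ∈ 𝒜 m := by
    have := SetLike.mul_mem_graded (SetLike.pow_mem_graded (Finset.univ.sup M) c.2) ha
    simpa using this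
  exact ⟨Finset.univ.sup M, mem_subIdeal_of_mem 𝒜 i s hs1 hmem fun f hf _ =>
    hM ⟨f, hf⟩ _ (Finset.le_sup (f := M) (Finset.mem_univ _)) hmem⟩

include hφ hcomap hss' hc in
lemma exists_mem_subIdeal {a : A} (h : φ a ∈ subIdeal ℬ i' s' hs1') :
    ∃ k : ℕ, (c : A) ^ k * a ∈ subIdeal 𝒜 i s hs1 := by
  classical
  let J : Ideal A :=
    { carrier := {x | ∃ k : ℕ, (c : A) ^ k * x ∈ subIdeal 𝒜 i s hs1}
      zero_mem' := ⟨0, by simp⟩
      add_mem' := by
        rintro x y ⟨k, hk⟩ ⟨l, hl⟩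
        refine ⟨k + l, ?_⟩
        have : (c : A) ^ (k + l) * (x + y) = (c : A) ^ l * ((c : A) ^ k * x) + (c : A) ^ k * ((c : A) ^ l * y) := by
          ring
        rw [this]
        exact add_mem (Ideal.mul_mem_left _ _ hk) (Ideal.mul_mem_left _ _ hl)
      smul_mem' := by
        rintro r x ⟨k, hk⟩
        refine ⟨k, ?_⟩
        rw [smul_eq_mul, mul_left_comm]
        exact Ideal.mul_mem_left _ _ hk }
  show a ∈ J
  rw [← DirectSum.sum_support_decompose 𝒜 a]
  refine sum_mem fun m _ => exists_mem_subIdeal_homogeneous φ hφ i i' hcomap s hs1 s' hs1' hss' hc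
    (SetLike.coe_mem _) ?_
  rw [GradedRingHom.map_directSumDecompose]
  exact subIdeal_isHomogeneous ℬ i' s' hs1' m h

end localization

end Groth.Agent.ProjX
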