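import Groth.Agent.ProjX.Chart
import Groth.Agent.ProjX.OfAffine
import Groth.Agent.ProjX.SubIdeal
import Groth.Agent.Proj16.QuotGraded
import Mathlib.RingTheory.MvPolynomial.Localization

/-!
# A closed subscheme of `P^n_S` is projective over `S`
-/

set_option linter.style.haveILetI false
set_option linter.unusedSectionVars false
set_option backward.isDefEq.respectTransparency false
set_option backward.isDefEq.respectTransparency.types false
set_option maxHeartbeats 400000

universe u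

open CategoryTheory CategoryTheory.Limits AlgebraicGeometry Opposite HomogeneousLocalization DirectSum
open CohB1 (polyGrading ProjSpace ProjSpaceOver)

attribute [local instance] MvPolynomial.algebraMvPolynomial

namespace Groth.Agent.ProjX

/-- A grading by submodules as a grading by subgroups. -/
theorem nonempty_gradedRing_toAddSubgroup {R A : Type u} [CommRing R] [CommRing A] [Algebra R A]
    (𝒜 : ℕ → Submodule R A) [GradedRing 𝒜] : Nonempty (GradedRing fun d => (𝒜 d).toAddSubgroup) :=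
  haveI : SetLike.GradedMonoid fun d => (𝒜 d).toAddSubgroup :=
    { one_mem := SetLike.one_mem_graded 𝒜
      mul_mem := fun {_ _ _ _} hi hj => SetLike.mul_mem_graded (A := 𝒜) hi hj }
  ⟨{ decompose' := DirectSum.decompose 𝒜
     left_inv := (DirectSum.decompose 𝒜).left_inv
     right_inv := (DirectSum.decompose 𝒜).right_inv }⟩

/-- Compatibility of `Proj.map` with the structure maps to the base. -/
lemma map_toSpecZero {A σ B τ : Type u} [CommRing A] [SetLike σ A] [AddSubgroupClass σ A]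
    [CommRing B] [SetLike τ B] [AddSubgroupClass τ B] {𝒜 : ℕ → σ} [GradedRing 𝒜] {ℬ : ℕ → τ}
    [GradedRing ℬ] (φ : 𝒜 →+*ᵍ ℬ) (hφ : HomogeneousIdeal.irrelevant ℬ ≤ (HomogeneousIdeal.irrelevant 𝒜).map φ)
    {R : CommRingCat.{u}} (g : R ⟶ CommRingCat.of (𝒜 0)) (g' : R ⟶ CommRingCat.of (ℬ 0))
    (h : ∀ r, φ (g.hom r : A) = (g'.hom r : B)) :
    Proj.map φ hφ ≫ Proj.toSpecZero 𝒜 ≫ Spec.map g = Proj.toSpecZero ℬ ≫ Spec.map g' := by
  refine (Proj.mapAffineOpenCover φ hφ).openCover.hom_ext _ _ ?_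
  suffices h : ∀ (d : ℕ) (hd : 0 < d) (a : A) (ha : a ∈ 𝒜 d),
      Proj.awayι ℬ (φ a) (φ.2 ha) hd ≫ Proj.map φ hφ ≫ Proj.toSpecZero 𝒜 ≫ Spec.map g =
      Proj.awayι ℬ (φ a) (φ.2 ha) hd ≫ Proj.toSpecZero ℬ ≫ Spec.map g' from
    fun s ↦ h s.1 s.1.2 s.2 s.2.2
  intro d hd a ha
  rw [Proj.awayι_comp_map_assoc _ _ hd a ha, Proj.awayι_toSpecZero_assoc,
    Proj.awayι_toSpecZero_assoc, ← Spec.map_comp, ← Spec.map_comp, ← Spec.map_comp]
  congr 1
  ext r
  simp only [CommRingCat.hom_comp, CommRingCat.hom_ofHom, RingHom.comp_apply,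
    HomogeneousLocalization.Away.map, HomogeneousLocalization.fromZeroRingHom, RingHom.coe_mk,
    MonoidHom.coe_mk, OneHom.coe_mk, HomogeneousLocalization.map_mk, HomogeneousLocalization.val_mk]
  exact congr_arg₂ Localization.mk (h r) (Subtype.ext (map_one _))

theorem isLocalization_quotientMap {A B : Type u} [CommRing A] [CommRing B] [Algebra A B] (c : A)
    [IsLocalization.Away c B] (I : Ideal A) (J : Ideal B) (hIJ : I ≤ J.comap (algebraMap A B))
    (h : ∀ a, algebraMap A B a ∈ J → ∃ k : ℕ, c ^ k * a ∈ I) :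
    @IsLocalization.Away (A ⧸ I) _ (Ideal.Quotient.mk I c) (B ⧸ J) _
      (Ideal.quotientMap J (algebraMap A B) hIJ).toAlgebra := by
  letI := (Ideal.quotientMap J (algebraMap A B) hIJ).toAlgebra
  refine (isLocalization_iff _ _).mpr ⟨fun ⟨_, k, rfl⟩ => ?_, fun z => ?_, fun {x y} hxy => ?_⟩
  · show IsUnit (Ideal.quotientMap J (algebraMap A B) hIJ (Ideal.Quotient.mk I c ^ k))
    rw [map_pow, Ideal.quotientMap_mk]
    exact ((IsLocalization.Away.algebraMap_isUnit c).map _).pow k
  · obtain ⟨b, rfl⟩ := Ideal.Quotient.mk_surjective z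
    obtain ⟨⟨a, _, k, rfl⟩, hk⟩ := IsLocalization.surj (Submonoid.powers c) b
    refine ⟨(Ideal.Quotient.mk I a, ⟨_, k, rfl⟩), ?_⟩
    show Ideal.Quotient.mk J b * Ideal.quotientMap J (algebraMap A B) hIJ (Ideal.Quotient.mk I c ^ k) =
      Ideal.quotientMap J (algebraMap A B) hIJ (Ideal.Quotient.mk I a)
    rw [← map_pow, Ideal.quotientMap_mk, Ideal.quotientMap_mk, ← map_mul]
    exact congrArg _ hk
  · obtain ⟨a, rfl⟩ := Ideal.Quotient.mk_surjective x
    obtain ⟨b, rfl⟩ := Ideal.Quotient.mk_surjective y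
    obtain ⟨k, hk⟩ := h (a - b) (by
      rw [← Ideal.Quotient.eq_zero_iff_mem, map_sub, map_sub]
      exact sub_eq_zero.2 hxy)
    refine ⟨⟨_, k, rfl⟩, ?_⟩
    show Ideal.Quotient.mk I c ^ k * Ideal.Quotient.mk I a = Ideal.Quotient.mk I c ^ k * Ideal.Quotient.mk I b
    rw [← map_pow, ← map_mul, ← map_mul, Ideal.Quotient.eq, ← mul_sub]
    exact hk

section ker

lemma ker_eq_comap {Z Z' P P' : Scheme.{u}} (j : Z' ⟶ Z) (i' : Z' ⟶ P') (i : Z ⟶ P) (g : P' ⟶ P)
    [IsClosedImmersion i] (sq : IsPullback j i' i g) : i'.ker = i.ker.comap g := by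
  rw [← Scheme.IdealSheafData.ker_fst_of_isClosedImmersion i g, ← sq.flip.isoPullback_hom_fst,
    Scheme.Hom.ker_comp_of_isIso]

end ker

variable {n : ℕ} {S X : Scheme.{u}} (i : X ⟶ ProjSpaceOver n S)

/-- The closed subscheme in the chart over an affine open. -/
noncomputable def iU {U : S.Opens} (hU : IsAffineOpen U) :
    (((i ≫ CohB1.ProjSpaceOver.toBase n S) ⁻¹ᵁ U : X.Opens) : Scheme.{u}) ⟶ ProjSpace n Γ(S, U) :=
  (isPullback_chart n hU).lift (((i ≫ CohB1.ProjSpaceOver.toBase n S) ⁻¹ᵁ U).ι ≫ i)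
    ((i ≫ CohB1.ProjSpaceOver.toBase n S) ∣_ U ≫ hU.isoSpec.hom) (by
      rw [Category.assoc, Category.assoc, hU.isoSpec_hom, IsAffineOpen.toSpecΓ_fromSpec, morphismRestrict_ι])

@[reassoc]
lemma iU_chart {U : S.Opens} (hU : IsAffineOpen U) :
    iU i hU ≫ chart n hU = ((i ≫ CohB1.ProjSpaceOver.toBase n S) ⁻¹ᵁ U).ι ≫ i :=
  (isPullback_chart n hU).lift_fst _ _ _

lemma isPullback_iU {U : S.Opens} (hU : IsAffineOpen U) :
    IsPullback ((i ≫ CohB1.ProjSpaceOver.toBase n S) ⁻¹ᵁ U).ι (iU i hU) i (chart n hU) := by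
  refine IsPullback.of_bot ?_ (iU_chart i hU).symm (isPullback_chart n hU)
  have h : iU i hU ≫ CohB1.ProjSpace.toSpec n Γ(S, U) =
      (i ≫ CohB1.ProjSpaceOver.toBase n S) ∣_ U ≫ hU.isoSpec.hom :=
    (isPullback_chart n hU).lift_snd _ _ _
  rw [h]
  refine (IsPullback.of_iso (isPullback_morphismRestrict (i ≫ CohB1.ProjSpaceOver.toBase n S) U)
    (Iso.refl _) hU.isoSpec (Iso.refl _) (Iso.refl _) ?_ ?_ ?_ ?_).flip
  · simp
  · simp
  · simp [IsAffineOpen.isoSpec_hom]
  · simp

lemma isClosedImmersion_iU [IsClosedImmersion i] {U : S.Opens} (hU : IsAffineOpen U) :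
    IsClosedImmersion (iU i hU) :=
  MorphismProperty.of_isPullback (isPullback_iU i hU) inferInstance

lemma isPullback_iU_res [IsClosedImmersion i] {U V : S.Opens} (hU : IsAffineOpen U) (hV : IsAffineOpen V) (h : V ≤ U) :
    IsPullback (X.homOfLE ((i ≫ CohB1.ProjSpaceOver.toBase n S).preimage_mono h)) (iU i hV) (iU i hU)
      (pmap n (S.presheaf.map (homOfLE h).op).hom) := by
  refine IsPullback.of_right ?_ ?_ (isPullback_iU i hU)
  · rw [Scheme.homOfLE_ι, pmap_chart _ hU hV]
    exact isPullback_iU i hV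
  · refine (isPullback_chart n hU).hom_ext ?_ ?_
    · rw [Category.assoc, Category.assoc, iU_chart, pmap_chart _ hU hV, iU_chart, Scheme.homOfLE_ι_assoc]
    · have hl : ∀ {W : S.Opens} (hW : IsAffineOpen W), iU i hW ≫ CohB1.ProjSpace.toSpec n Γ(S, W) =
          (i ≫ CohB1.ProjSpaceOver.toBase n S) ∣_ W ≫ hW.isoSpec.hom :=
        fun hW => (isPullback_chart n hW).lift_snd _ _ _
      rw [← cancel_mono hU.fromSpec]
      simp only [Category.assoc]
      erw [← chart_toBase n hU]
      rw [← Category.assoc (pmap n _), pmap_chart _ hU hV, iU_chart_assoc,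
        iU_chart_assoc, Scheme.homOfLE_ι_assoc]

variable [IsClosedImmersion i]

open scoped Classical

/-- The variables. -/
noncomputable def vars (R : Type u) [CommRing R] (n : ℕ) : Finset (MvPolynomial (Fin (n + 1)) R) :=
  Finset.univ.image MvPolynomial.X

lemma vars_mem (R : Type u) [CommRing R] : ∀ f ∈ vars R n, f ∈ polyGrading n R 1 := by
  intro f hf
  obtain ⟨j, -, rfl⟩ := Finset.mem_image.1 hf
  exact X_mem n j

lemma vars_span (R : Type u) [CommRing R] :
    (HomogeneousIdeal.irrelevant (polyGrading n R)).toIdeal = Ideal.span (vars R n : Set (MvPolynomial (Fin (n + 1)) R)) := by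
  rw [irrelevant_eq_span_X]
  congr 1
  ext f
  simp [vars]

/-- The homogeneous ideal over an affine open. -/
noncomputable def idealU {U : S.Opens} (hU : IsAffineOpen U) : Ideal (MvPolynomial (Fin (n + 1)) Γ(S, U)) :=
  Proj16.subIdeal (polyGrading n Γ(S, U)) (iU i hU) (vars _ n) (vars_mem _)

lemma vars_polyHom {R R' : Type u} [CommRing R] [CommRing R'] (f : R →+* R') :
    (∀ g ∈ vars R n, polyHom n f g ∈ vars R' n) ∧ ∀ g' ∈ vars R' n, ∃ g ∈ vars R n, polyHom n f g = g' := by
  constructor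
  · intro g hg
    obtain ⟨j, -, rfl⟩ := Finset.mem_image.1 hg
    exact Finset.mem_image.2 ⟨j, Finset.mem_univ _, (MvPolynomial.map_X f j).symm⟩
  · intro g hg
    obtain ⟨j, -, rfl⟩ := Finset.mem_image.1 hg
    exact ⟨_, Finset.mem_image.2 ⟨j, Finset.mem_univ _, rfl⟩, MvPolynomial.map_X f j⟩

lemma map_mem_idealU {U V : S.Opens} (hU : IsAffineOpen U) (hV : IsAffineOpen V) (h : V ≤ U)
    {a : MvPolynomial (Fin (n + 1)) Γ(S, U)} (ha : a ∈ idealU i hU) :
    MvPolynomial.map (S.presheaf.map (homOfLE h).op).hom a ∈ idealU i hV := by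
  haveI := isClosedImmersion_iU i hU
  set ρ := (S.presheaf.map (homOfLE h).op).hom
  have hker : (iU i hV).ker = (iU i hU).ker.comap (pmap n ρ) :=
    ker_eq_comap _ _ _ _ (isPullback_iU_res i hU hV h)
  have := map_mem_subIdeal (polyHom n ρ) (irrelevant_polyHom n ρ) (iU i hU) (iU i hV) hker
    (vars Γ(S, U) n) (vars_mem _) (vars Γ(S, V) n) (vars_mem _) (vars_polyHom ρ).2 (a := a) ha
  exact this

lemma exists_mul_mem_idealU {U : S.Opens} (hU : IsAffineOpen U) (r : Γ(S, U))
    {a : MvPolynomial (Fin (n + 1)) Γ(S, U)}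
    (ha : MvPolynomial.map (S.presheaf.map (homOfLE (S.basicOpen_le r)).op).hom a ∈ idealU i (hU.basicOpen r)) :
    ∃ k : ℕ, MvPolynomial.C r ^ k * a ∈ idealU i hU := by
  haveI := isClosedImmersion_iU i hU
  haveI : IsLocalization.Away r Γ(S, S.basicOpen r) := hU.isLocalization_basicOpen r
  let φ := polyHom n (S.presheaf.map (homOfLE (S.basicOpen_le r)).op).hom
  letI := (S.presheaf.map (homOfLE (S.basicOpen_le r)).op).hom.toAlgebra
  haveI : IsLocalization.Away r Γ(S, S.basicOpen r) := hU.isLocalization_basicOpen r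
  haveI : IsLocalization.Away (MvPolynomial.C r : MvPolynomial (Fin (n + 1)) Γ(S, U))
      (MvPolynomial (Fin (n + 1)) Γ(S, S.basicOpen r)) := by
    have := MvPolynomial.isLocalization (σ := Fin (n + 1)) (Submonoid.powers r) Γ(S, S.basicOpen r)
    rwa [Submonoid.map_powers] at this
  exact exists_mem_subIdeal φ (irrelevant_polyHom n _) (iU i hU) (iU i (hU.basicOpen r))
    (ker_eq_comap _ _ _ _ (isPullback_iU_res i hU (hU.basicOpen r) (S.basicOpen_le r))) (vars _ n) (vars_mem _)
    (vars _ n) (vars_mem _) (vars_polyHom _).1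
    (Proj16.InvertsZero.of_isLocalization φ ⟨MvPolynomial.C r, MvPolynomial.isHomogeneous_C _ r⟩ fun _ => rfl) ha

/-- The coordinate rings on the affine opens. -/
noncomputable def coordFunctor : S.AffineZariskiSiteᵒᵖ ⥤ CommRingCat.{u} where
  obj U := CommRingCat.of (MvPolynomial (Fin (n + 1)) Γ(S, U.unop.1) ⧸ idealU i U.unop.2)
  map {U V} f := CommRingCat.ofHom (Ideal.quotientMap _
    (MvPolynomial.map (S.presheaf.map (homOfLE (Scheme.AffineZariskiSite.toOpens_mono f.unop.le)).op).hom)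
    fun a ha => map_mem_idealU i U.unop.2 V.unop.2 _ ha)
  map_id U := by
    refine CommRingCat.hom_ext (Ideal.Quotient.ringHom_ext (RingHom.ext fun a => ?_))
    show Ideal.Quotient.mk _ (MvPolynomial.map _ a) = Ideal.Quotient.mk _ a
    rw [show (homOfLE _).op = 𝟙 (op U.unop.1) from rfl, CategoryTheory.Functor.map_id, CommRingCat.hom_id,
      MvPolynomial.map_id]
  map_comp {U V W} f g := by
    refine CommRingCat.hom_ext (Ideal.Quotient.ringHom_ext (RingHom.ext fun a => ?_))
    show Ideal.Quotient.mk _ (MvPolynomial.map _ a) = Ideal.Quotient.mk _ (MvPolynomial.map _ (MvPolynomial.map _ a))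
    rw [MvPolynomial.map_map, ← CommRingCat.hom_comp, ← Functor.map_comp]
    rfl

/-- The structure map. -/
noncomputable def coordStr : (Scheme.AffineZariskiSite.toOpensFunctor S).op ⋙ S.presheaf ⟶ coordFunctor i where
  app U := CommRingCat.ofHom ((Ideal.Quotient.mk _).comp MvPolynomial.C)
  naturality U V f := by
    refine CommRingCat.hom_ext (RingHom.ext fun a => ?_)
    show Ideal.Quotient.mk _ (MvPolynomial.C _) = Ideal.Quotient.mk _ (MvPolynomial.map _ (MvPolynomial.C a))
    rw [MvPolynomial.map_C]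
    rfl

lemma coordStr_coequifibered : (coordStr i).Coequifibered := by
  rw [Scheme.AffineZariskiSite.coequifibered_iff_forall_isLocalizationAway]
  intro U r
  letI := (S.presheaf.map (homOfLE (S.basicOpen_le r)).op).hom.toAlgebra
  haveI : IsLocalization.Away r Γ(S, S.basicOpen r) := U.2.isLocalization_basicOpen r
  haveI : IsLocalization.Away (MvPolynomial.C r : MvPolynomial (Fin (n + 1)) Γ(S, U.1))
      (MvPolynomial (Fin (n + 1)) Γ(S, S.basicOpen r)) := by
    have := MvPolynomial.isLocalization (σ := Fin (n + 1)) (Submonoid.powers r) Γ(S, S.basicOpen r)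
    rwa [Submonoid.map_powers] at this
  exact isLocalization_quotientMap (MvPolynomial.C r) (idealU i U.2) (idealU i (U.2.basicOpen r))
    (fun a ha => map_mem_idealU i U.2 (U.2.basicOpen r) _ ha) fun a ha => exists_mul_mem_idealU i U.2 r ha

/-- A closed subscheme of `P^n_S` is projective over `S`. -/
theorem isProjective_of_closedImmersion : RelProj.IsProjective (i ≫ CohB1.ProjSpaceOver.toBase n S) := by
  classical
  let f := i ≫ CohB1.ProjSpaceOver.toBase n S
  let degF : ∀ U : S.AffineZariskiSite, ℕ → AddSubgroup ((coordFunctor i).obj (op U)) := fun U d =>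
    (Proj16.quotGrading (polyGrading n Γ(S, U.1)) (idealU i U.2) d).toAddSubgroup
  have hgr : ∀ U, Nonempty (GradedRing (degF U)) := fun U => by
    letI := Proj16.quotGradedAlgebra (polyGrading n Γ(S, U.1)) (idealU i U.2)
      (Proj16.subIdeal_isHomogeneous (polyGrading n Γ(S, U.1)) (iU i U.2) (vars _ n) (vars_mem _))
    exact nonempty_gradedRing_toAddSubgroup (Proj16.quotGrading (polyGrading n Γ(S, U.1)) (idealU i U.2))
  letI : ∀ U, GradedRing (degF U) := fun U => (hgr U).some
  obtain ⟨𝒮, φ, hnat, hstr, hdeg⟩ := exists_qcGrAlg (coordFunctor i) (coordStr i) (coordStr_coequifibered i) degF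
    (fun {U V} j {d x} hx => by
      obtain ⟨a, ha, rfl⟩ := hx
      exact ⟨_, MvPolynomial.IsHomogeneous.map ha _, rfl⟩)
    (fun U r => ⟨MvPolynomial.C r, MvPolynomial.isHomogeneous_C _ r, rfl⟩)
  let q : ∀ (U : S.Opens) (hU : IsAffineOpen U), polyGrading n Γ(S, U) →+*ᵍ 𝒮.deg U hU := fun U hU =>
    { (φ ⟨U, hU⟩).inv.hom.comp (Ideal.Quotient.mk (idealU i hU)) with
      map_mem := fun {d a} ha => (hdeg ⟨U, hU⟩ d _).2 (by
        show (φ ⟨U, hU⟩).hom.hom ((φ ⟨U, hU⟩).inv.hom (Ideal.Quotient.mk _ a)) ∈ _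
        rw [← CommRingCat.comp_apply, Iso.inv_hom_id]
        exact ⟨a, ha, rfl⟩) }
  have hqφ : ∀ (U : S.Opens) (hU : IsAffineOpen U) a, (φ ⟨U, hU⟩).hom.hom (q U hU a) = Ideal.Quotient.mk _ a :=
    fun U hU a => by
      show (φ ⟨U, hU⟩).hom.hom ((φ ⟨U, hU⟩).inv.hom _) = _
      rw [← CommRingCat.comp_apply, Iso.inv_hom_id]
      rfl
  have hinj : ∀ (U : S.AffineZariskiSite), Function.Injective (φ U).hom.hom := fun U =>
    (ConcreteCategory.bijective_of_isIso (φ U).hom).1
  have hqsurj : ∀ U hU, Function.Surjective (q U hU) := fun U hU x => by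
    obtain ⟨a, ha⟩ := Ideal.Quotient.mk_surjective ((φ ⟨U, hU⟩).hom.hom x)
    exact ⟨a, hinj _ ((hqφ U hU a).trans ha)⟩
  have hqker : ∀ U hU a, q U hU a = 0 ↔ a ∈ idealU i hU := fun U hU a => by
    rw [← Ideal.Quotient.eq_zero_iff_mem, ← hqφ U hU a]
    exact ⟨fun h => by rw [h, map_zero], fun h => hinj _ (h.trans (map_zero _).symm)⟩
  have hqC : ∀ U hU (r : Γ(S, U)), q U hU (MvPolynomial.C r) = (𝒮.str.app (op U)).hom r := fun U hU r =>
    hinj ⟨U, hU⟩ ((hqφ U hU _).trans
      (show (coordStr i).app (op ⟨U, hU⟩) r = _ by rw [← hstr ⟨U, hU⟩]; rfl))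
  have hirr : ∀ U hU, HomogeneousIdeal.irrelevant (𝒮.deg U hU) ≤
      (HomogeneousIdeal.irrelevant (polyGrading n Γ(S, U))).map (q U hU) := fun U hU => by
    rw [HomogeneousIdeal.irrelevant_le]
    intro d hd x hx
    obtain ⟨a, ha, rfl⟩ := Proj16.exists_mem_of_surjective (q U hU) (hqsurj U hU) hx
    exact Ideal.mem_map_of_mem _ (HomogeneousIdeal.mem_irrelevant_of_mem _ hd ha)
  have he : ∀ (U : S.Opens) (hU : IsAffineOpen U), ∃ e : ((f ⁻¹ᵁ U : X.Opens) : Scheme.{u}) ≅ Proj (𝒮.deg U hU),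
      e.hom ≫ Proj.map (q U hU) (hirr U hU) = iU i hU := fun U hU =>
    haveI := isClosedImmersion_iU i hU
    exists_iso_of_ker (iU i hU) (vars _ n) (vars_mem _) (vars_span _) (q U hU) (hqsurj U hU) (hirr U hU) (hqker U hU)
  choose e he using he
  have hnat' : ∀ (U : S.Opens) (hU : IsAffineOpen U) (r : Γ(S, U)) a,
      𝒮.res hU (hU.basicOpen r) (S.basicOpen_le r) (q U hU a) =
        q _ (hU.basicOpen r) (MvPolynomial.map (S.presheaf.map (homOfLE (S.basicOpen_le r)).op).hom a) := by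
    intro U hU r a
    refine hinj ⟨_, hU.basicOpen r⟩ ?_
    rw [hqφ]
    have := congr($(hnat ⟨U, hU⟩ ⟨_, hU.basicOpen r⟩ (homOfLE ⟨r, rfl⟩)).hom (q U hU a))
    simp only [CommRingCat.hom_comp, RingHom.comp_apply] at this
    rw [RelProj.QCGrAlg.res_apply, ← this, hqφ]
    rfl
  refine ⟨𝒮, X, f, e, Iso.refl _, ?_, ?_, ⟨fun U hU => ?_, fun U hU r => ?_⟩, Category.id_comp _⟩
  · intro U hU
    rw [eq_top_iff]
    rintro x -
    obtain ⟨a, rfl⟩ := hqsurj U hU x
    induction a using MvPolynomial.induction_on with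
    | C r => exact Subring.subset_closure (Or.inl ((q U hU).2 (MvPolynomial.isHomogeneous_C _ r)))
    | add a b ha hb => rw [map_add]; exact add_mem ha hb
    | mul_X a j ha =>
      rw [map_mul]
      exact mul_mem ha (Subring.subset_closure (Or.inr ((q U hU).2 (X_mem n j))))
  · intro U hU
    refine ⟨Finset.univ.image fun j => q U hU (MvPolynomial.X j), ?_, fun x hx => ?_⟩
    · intro t ht
      obtain ⟨j, -, rfl⟩ := Finset.mem_image.1 ht
      exact (q U hU).2 (X_mem n j)
    · obtain ⟨a, ha, rfl⟩ := Proj16.exists_mem_of_surjective (q U hU) (hqsurj U hU) hx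
      letI := (𝒮.str.app (op U)).hom.toAlgebra
      suffices h : q U hU a ∈ Submodule.span Γ(S, U) ((Finset.univ.image fun j => q U hU (MvPolynomial.X j) :
          Finset (𝒮.presheaf.obj (op U))) : Set (𝒮.presheaf.obj (op U))) by
        obtain ⟨c, -, hc⟩ := Submodule.mem_span_finset.1 h
        exact ⟨c, hc.symm⟩
      clear hx
      have ha1 : a ∈ MvPolynomial.homogeneousSubmodule (Fin (n + 1)) Γ(S, U) 1 := ha
      rw [MvPolynomial.homogeneousSubmodule_one_eq_span_X] at ha1
      clear ha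
      induction ha1 using Submodule.span_induction with
      | mem x hx =>
        obtain ⟨j, rfl⟩ := hx
        exact Submodule.subset_span (Finset.mem_coe.2 (Finset.mem_image.2 ⟨j, Finset.mem_univ _, rfl⟩))
      | zero => rw [map_zero]; exact zero_mem _
      | add x y hx hy hx' hy' =>
        rw [map_add]
        exact add_mem hx' hy'
      | smul c x hx hx' =>
        rw [MvPolynomial.smul_eq_C_mul, map_mul, hqC]
        exact Submodule.smul_mem _ c hx'
  · have h1 : Proj.map (q U hU) (hirr U hU) ≫ CohB1.ProjSpace.toSpec n Γ(S, U) =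
        Proj.toSpecZero (𝒮.deg U hU) ≫ Spec.map (𝒮.strZero U hU) :=
      map_toSpecZero _ _ _ _ fun r => hqC U hU r
    rw [← Category.assoc (Proj.toSpecZero _), ← h1, Category.assoc, ← chart_toBase n hU, ← Category.assoc,
      he, iU_chart_assoc]
  · haveI : Mono (Proj.map (q U hU) (hirr U hU)) :=
      haveI := Proj16.isClosedImmersion_map (q U hU) (hirr U hU) (hqsurj U hU)
      inferInstance
    rw [← cancel_mono (Proj.map (q U hU) (hirr U hU))]
    simp only [Category.assoc]
    have h2 : Proj.map (𝒮.res hU (hU.basicOpen r) (S.basicOpen_le r)) (𝒮.irrelevant_le_map U hU r) ≫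
        Proj.map (q U hU) (hirr U hU) = Proj.map (q _ (hU.basicOpen r)) (hirr _ (hU.basicOpen r)) ≫
          pmap n (S.presheaf.map (homOfLE (S.basicOpen_le r)).op).hom := by
      rw [← Proj.map_comp _ (hf := hirr U hU) _ (hg := 𝒮.irrelevant_le_map U hU r), pmap,
        ← Proj.map_comp _ (hf := irrelevant_polyHom n _) _ (hg := hirr _ (hU.basicOpen r))]
      exact Proj16.proj_map_congr (GradedRingHom.ext fun a => hnat' U hU r a) _ _
    rw [he U hU, h2, reassoc_of% (he _ (hU.basicOpen r))]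
    exact (isPullback_iU_res i hU (hU.basicOpen r) (S.basicOpen_le r)).w

/-- An H-projective morphism is projective. -/
theorem isProjective_of_isHProjective {f : X ⟶ S} (h : RelProj.IsHProjective f) : RelProj.IsProjective f := by
  obtain ⟨n, i, hi, rfl⟩ := h
  exact isProjective_of_closedImmersion i

end Groth.Agent.ProjX
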