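import Groth.Agent.Proj16.Map
import Groth.Agent.RingPO.ChartPushout
import Mathlib.AlgebraicGeometry.ProjectiveSpectrum.Functor

/-!
# Base change of `Proj`
-/

set_option linter.style.haveILetI false
set_option linter.unusedSectionVars false
set_option backward.isDefEq.respectTransparency false
set_option backward.isDefEq.respectTransparency.types false

universe u

open CategoryTheory CategoryTheory.Limits AlgebraicGeometry HomogeneousLocalization TensorProduct

namespace Groth.Agent.ProjX

variable {R R' A B : Type u} [CommRing R'] [CommRing R] [Algebra R' R]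
    [CommRing B] [Algebra R' B] (ℬ : ℕ → Submodule R' B) [GradedAlgebra ℬ]
    [CommRing A] [Algebra R A] [Algebra R' A] [IsScalarTower R' R A] (𝒜 : ℕ → Submodule R A) [GradedAlgebra 𝒜]
    [Algebra B A] [IsScalarTower R' B A] [Algebra.IsPushout R' R B A]
    (φ : ℬ →+*ᵍ 𝒜) (hφA : ∀ b : B, φ b = algebraMap B A b)

/-- Constants in a homogeneous localization. -/
noncomputable def cst (x : Submonoid A) : R →+* HomogeneousLocalization 𝒜 x :=
  (fromZeroRingHom 𝒜 x).comp (algebraMap R (𝒜 0))

/-- The algebra structure by constants, with the existing scalar multiplication. -/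
@[reducible] noncomputable def algCst (x : Submonoid A) : Algebra R (HomogeneousLocalization 𝒜 x) :=
  { (inferInstance : SMul R (HomogeneousLocalization 𝒜 x)) with
    algebraMap := cst 𝒜 x
    commutes' := fun _ _ => mul_comm _ _
    smul_def' := fun r y => by
      apply HomogeneousLocalization.val_injective
      obtain ⟨y, rfl⟩ := HomogeneousLocalization.mk_surjective y
      rw [HomogeneousLocalization.val_smul, HomogeneousLocalization.val_mul, HomogeneousLocalization.val_mk]
      show r • Localization.mk _ _ = Localization.mk (algebraMap R A r) 1 * Localization.mk _ _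
      rw [Localization.mk_mul, one_mul, Localization.smul_mk, Algebra.smul_def] }

lemma smul_mem {d n : ℕ} {a : B} (ha : a ∈ ℬ (n * d)) : a ∈ ℬ (n • d) := by
  rwa [smul_eq_mul]

variable {ℬ 𝒜}

lemma val_cst_mul {g : A} {d : ℕ} (hg : g ∈ 𝒜 d) (n : ℕ) (r : R) (a : A) (ha : a ∈ 𝒜 (n • d)) :
    cst 𝒜 (Submonoid.powers g) r * Away.mk 𝒜 hg n a ha =
      Away.mk 𝒜 hg n (algebraMap R A r * a) (by rw [← Algebra.smul_def]; exact Submodule.smul_mem _ r ha) := by
  apply HomogeneousLocalization.val_injective
  rw [HomogeneousLocalization.val_mul, Away.val_mk, Away.val_mk]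
  change Localization.mk (algebraMap R A r) _ * Localization.mk a _ = _
  rw [Localization.mk_mul]
  congr 1
  exact Subtype.ext (one_mul _)

variable (ℬ) in
/-- The component in a given degree. -/
noncomputable def comp (m : ℕ) : B →ₗ[R'] ℬ m :=
  DirectSum.component R' ℕ (fun i => ℬ i) m ∘ₗ (DirectSum.decomposeLinearEquiv ℬ).toLinearMap

lemma comp_self (m : ℕ) (b : ℬ m) : comp ℬ m (b : B) = b := by
  show (DirectSum.decompose ℬ (b : B)) m = b
  rw [DirectSum.decompose_coe, DirectSum.of_eq_same]

include hφA in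
/-- A degree piece is the base change of the degree piece. -/
theorem injective_lTensor_piece (m : ℕ) (t : R ⊗[R'] ℬ m)
    (h : Algebra.IsPushout.equiv R' R B A (((ℬ m).subtype).lTensor R t) = 0) : t = 0 := by
  have h1 : ((ℬ m).subtype).lTensor R t = 0 := (Algebra.IsPushout.equiv R' R B A).map_eq_zero_iff.1 h
  have h2 : (comp ℬ m).lTensor R (((ℬ m).subtype).lTensor R t) = t := by
    rw [← LinearMap.comp_apply, ← LinearMap.lTensor_comp,
      show comp ℬ m ∘ₗ (ℬ m).subtype = LinearMap.id from LinearMap.ext fun b => comp_self m b, LinearMap.lTensor_id]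
    rfl
  rw [← h2, h1, map_zero]

include hφA in
theorem exists_sum_of_mem {m : ℕ} {a : A} (ha : a ∈ 𝒜 m) :
    ∃ t : R ⊗[R'] ℬ m, Algebra.IsPushout.equiv R' R B A (((ℬ m).subtype).lTensor R t) = a := by
  classical
  let E := Algebra.IsPushout.equiv R' R B A
  refine ⟨(comp ℬ m).lTensor R (E.symm a), ?_⟩
  suffices h : ∀ x : R ⊗[R'] B, E (((ℬ m).subtype).lTensor R ((comp ℬ m).lTensor R x)) =
      GradedRing.proj 𝒜 m (E x) by
    rw [h, AlgEquiv.apply_symm_apply, GradedRing.proj_apply, DirectSum.decompose_of_mem_same _ ha]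
  intro x
  induction x using TensorProduct.induction_on with
  | zero => simp
  | add x y hx hy => simp only [map_add, hx, hy]
  | tmul r b =>
    rw [LinearMap.lTensor_tmul, LinearMap.lTensor_tmul]
    show Algebra.IsPushout.equiv R' R B A (r ⊗ₜ _) = GradedRing.proj 𝒜 m (Algebra.IsPushout.equiv R' R B A (r ⊗ₜ b))
    rw [Algebra.IsPushout.equiv_tmul, Algebra.IsPushout.equiv_tmul, ← hφA, ← hφA]
    rw [GradedRing.proj_apply, ← Algebra.smul_def, ← Algebra.smul_def, DirectSum.decompose_smul, DFinsupp.smul_apply,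
      Submodule.coe_smul]
    congr 1
    show φ ((DirectSum.decompose ℬ b) m : B) = _
    rw [GradedRingHom.map_directSumDecompose]

include hφA in
/-- The standard chart of the base change is the base change of the chart. -/
theorem isPushout_away {f : B} {d : ℕ} (hf : f ∈ ℬ d) :
    CategoryTheory.IsPushout (CommRingCat.ofHom (algebraMap R' R))
      (CommRingCat.ofHom (cst ℬ (Submonoid.powers f)))
      (CommRingCat.ofHom (cst 𝒜 (Submonoid.powers (φ f))))
      (CommRingCat.ofHom (Away.map φ f)) := by
  classical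
  letI : Algebra R' (Away ℬ f) := algCst ℬ _
  letI : Algebra R (Away 𝒜 (φ f)) := algCst 𝒜 _
  letI := ((cst 𝒜 (Submonoid.powers (φ f))).comp (algebraMap R' R)).toAlgebra
  letI := (Away.map φ f).toAlgebra
  have hw : ∀ r, Away.map φ f (cst ℬ _ r) = cst 𝒜 _ (algebraMap R' R r) := fun r => by
    apply HomogeneousLocalization.val_injective
    simp only [cst, RingHom.comp_apply, Away.map, HomogeneousLocalization.fromZeroRingHom, RingHom.coe_mk,
      MonoidHom.coe_mk, OneHom.coe_mk, HomogeneousLocalization.map_mk, HomogeneousLocalization.val_mk]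
    refine congr_arg₂ Localization.mk ?_ (Subtype.ext (map_one φ))
    show φ (algebraMap R' B r) = algebraMap R A (algebraMap R' R r)
    rw [hφA, ← IsScalarTower.algebraMap_apply, ← IsScalarTower.algebraMap_apply]
  haveI : IsScalarTower R' R (Away 𝒜 (φ f)) :=
    IsScalarTower.of_algebraMap_eq (R := R') (S := R) (A := Away 𝒜 (φ f)) fun r => rfl
  haveI : IsScalarTower R' (Away ℬ f) (Away 𝒜 (φ f)) :=
    IsScalarTower.of_algebraMap_eq (R := R') (S := Away ℬ f) (A := Away 𝒜 (φ f)) fun r => (hw r).symm
  let ψ : R ⊗[R'] Away ℬ f →ₐ[R] Away 𝒜 (φ f) :=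
    Algebra.TensorProduct.lift (Algebra.ofId R _) (IsScalarTower.toAlgHom R' (Away ℬ f) (Away 𝒜 (φ f)))
      fun _ _ => Commute.all _ _
  -- elements of the form `t / f ^ n`
  let frac : ∀ n : ℕ, ℬ (n • d) →ₗ[R'] Away ℬ f := fun n =>
    { toFun := fun b => Away.mk ℬ hf n b b.2
      map_add' := fun b c => by
        apply HomogeneousLocalization.val_injective
        simp only [Away.val_mk, HomogeneousLocalization.val_add, Submodule.coe_add, Localization.add_mk_self]
      map_smul' := fun r b => by
        apply HomogeneousLocalization.val_injective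
        show (Away.mk ℬ hf n _ _).val = (r • Away.mk ℬ hf n (b : B) b.2).val
        rw [HomogeneousLocalization.val_smul, Away.val_mk, Away.val_mk, Localization.smul_mk]
        rfl }
  have hψ : ∀ (n : ℕ) (t : R ⊗[R'] ℬ (n • d)), (ψ ((frac n).lTensor R t)).val =
      Localization.mk (Algebra.IsPushout.equiv R' R B A (((ℬ (n • d)).subtype).lTensor R t))
        (⟨φ f ^ n, n, rfl⟩ : Submonoid.powers (φ f)) := by
    intro n t
    induction t using TensorProduct.induction_on with
    | zero => simp [Localization.mk_zero]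
    | add x y hx hy =>
      simp only [map_add, HomogeneousLocalization.val_add, hx, hy, Localization.add_mk_self]
    | tmul r b =>
      simp only [LinearMap.lTensor_tmul, ψ, Algebra.TensorProduct.lift_tmul]
      show (cst 𝒜 _ r * Away.map φ f (Away.mk ℬ hf n (b : B) b.2)).val = _
      rw [Away.map_mk, val_cst_mul, Away.val_mk]
      congr 1
      show _ = Algebra.IsPushout.equiv R' R B A (r ⊗ₜ (b : B))
      rw [Algebra.IsPushout.equiv_tmul, hφA]
  have hbij : Function.Bijective ψ := by
    refine ⟨(injective_iff_map_eq_zero ψ).2 fun x hx => ?_, fun y => ?_⟩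
    · obtain ⟨n, t, rfl⟩ : ∃ (n : ℕ) (t : R ⊗[R'] ℬ (n • d)), (frac n).lTensor R t = x := by
        clear hx
        induction x using TensorProduct.induction_on with
        | zero => exact ⟨0, 0, map_zero _⟩
        | tmul r y =>
          obtain ⟨n, b, hb, rfl⟩ := y.mk_surjective ℬ hf
          exact ⟨n, r ⊗ₜ ⟨b, hb⟩, rfl⟩
        | add x y hx hy =>
          obtain ⟨n, t, rfl⟩ := hx
          obtain ⟨m, t', rfl⟩ := hy
          have shift : ∀ (n k : ℕ) (t : R ⊗[R'] ℬ (n • d)), ∃ t'' : R ⊗[R'] ℬ ((k + n) • d),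
              (frac (k + n)).lTensor R t'' = (frac n).lTensor R t := by
            intro n k t
            let μ : ℬ (n • d) →ₗ[R'] ℬ ((k + n) • d) :=
              ((LinearMap.mulLeft R' (f ^ k)).comp (ℬ (n • d)).subtype).codRestrict _ fun b => by
                show f ^ k * (b : B) ∈ _
                rw [add_smul]
                exact SetLike.mul_mem_graded (SetLike.pow_mem_graded k hf) b.2
            refine ⟨μ.lTensor R t, ?_⟩
            rw [← LinearMap.comp_apply, ← LinearMap.lTensor_comp]
            congr 2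
            refine LinearMap.ext fun b => ?_
            apply HomogeneousLocalization.val_injective
            show Localization.mk (f ^ k * (b : B)) _ = Localization.mk (b : B) _
            rw [Localization.mk_eq_mk_iff, Localization.r_iff_exists]
            exact ⟨1, by simp [pow_add]; ring⟩
          obtain ⟨a₁, ha₁⟩ := shift n m t
          obtain ⟨a₂, ha₂⟩ := shift m n t'
          have key : ∀ {p q : ℕ} (e : p = q) (s : R ⊗[R'] ℬ (p • d)), ∃ s' : R ⊗[R'] ℬ (q • d),
              (frac q).lTensor R s' = (frac p).lTensor R s := by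
            rintro p q rfl s
            exact ⟨s, rfl⟩
          obtain ⟨a₃, ha₃⟩ := key (Nat.add_comm m n) a₁
          exact ⟨n + m, a₃ + a₂, by rw [map_add, ha₃, ha₁, ha₂]⟩
      have h0 := congrArg HomogeneousLocalization.val hx
      rw [hψ, HomogeneousLocalization.val_zero, Localization.mk_eq_mk', IsLocalization.mk'_eq_zero_iff] at h0
      obtain ⟨⟨_, k, rfl⟩, hk⟩ := h0
      let μ : ℬ (n • d) →ₗ[R'] ℬ ((k + n) • d) :=
        ((LinearMap.mulLeft R' (f ^ k)).comp (ℬ (n • d)).subtype).codRestrict _ fun b => by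
          show f ^ k * (b : B) ∈ _
          rw [add_smul]
          exact SetLike.mul_mem_graded (SetLike.pow_mem_graded k hf) b.2
      have hμ : μ.lTensor R t = 0 := by
        refine injective_lTensor_piece φ hφA _ _ (Eq.trans ?_ hk)
        clear hk hx
        induction t using TensorProduct.induction_on with
        | zero => simp only [map_zero, mul_zero]
        | add x y hx hy => simp only [map_add, hx, hy, mul_add]
        | tmul r b =>
          simp only [LinearMap.lTensor_tmul]
          show Algebra.IsPushout.equiv R' R B A (r ⊗ₜ (f ^ k * (b : B))) =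
            φ f ^ k * Algebra.IsPushout.equiv R' R B A (r ⊗ₜ (b : B))
          rw [Algebra.IsPushout.equiv_tmul, Algebra.IsPushout.equiv_tmul, map_mul, map_pow, hφA]
          ring
      have e : frac (k + n) ∘ₗ μ = frac n := LinearMap.ext fun b => by
        apply HomogeneousLocalization.val_injective
        show Localization.mk (f ^ k * (b : B)) _ = Localization.mk (b : B) _
        rw [Localization.mk_eq_mk_iff, Localization.r_iff_exists]
        exact ⟨1, by simp [pow_add]; ring⟩
      rw [← e, LinearMap.lTensor_comp, LinearMap.comp_apply, hμ, map_zero]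
    · obtain ⟨n, a, ha, rfl⟩ := y.mk_surjective 𝒜 (φ.2 hf)
      obtain ⟨t, ht⟩ := exists_sum_of_mem φ hφA ha
      refine ⟨(frac n).lTensor R t, ?_⟩
      apply HomogeneousLocalization.val_injective
      rw [hψ, ht, Away.val_mk]
      rfl
  haveI : Algebra.IsPushout R' R (Away ℬ f) (Away 𝒜 (φ f)) := by
    refine ⟨IsBaseChange.of_equiv (AlgEquiv.ofBijective ψ hbij).toLinearEquiv fun x => ?_⟩
    show ψ (1 ⊗ₜ x) = _
    simp only [ψ, Algebra.TensorProduct.lift_tmul, map_one, one_mul]
    rfl
  exact CommRingCat.isPushout_of_isPushout R' R (Away ℬ f) (Away 𝒜 (φ f))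

include hφA in
theorem isPullback_map (hφ : HomogeneousIdeal.irrelevant 𝒜 ≤ (HomogeneousIdeal.irrelevant ℬ).map φ) :
    IsPullback (Proj.map φ hφ)
      (Proj.toSpecZero 𝒜 ≫ Spec.map (CommRingCat.ofHom (algebraMap R (𝒜 0))))
      (Proj.toSpecZero ℬ ≫ Spec.map (CommRingCat.ofHom (algebraMap R' (ℬ 0))))
      (Spec.map (CommRingCat.ofHom (algebraMap R' R))) := by
  let 𝒰 := Proj.affineOpenCover ℬ
  have hch : ∀ (d : ℕ) (f : B) (hd : 0 < d) (hf : f ∈ ℬ d),
      IsPullback (Proj.awayι 𝒜 (φ f) (φ.2 hf) hd ≫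
          Proj.toSpecZero 𝒜 ≫ Spec.map (CommRingCat.ofHom (algebraMap R (𝒜 0))))
        (Spec.map (CommRingCat.ofHom (Away.map φ f)))
        (Spec.map (CommRingCat.ofHom (algebraMap R' R)))
        (Proj.awayι ℬ f hf hd ≫ Proj.toSpecZero ℬ ≫ Spec.map (CommRingCat.ofHom (algebraMap R' (ℬ 0)))) := by
    intro d f hd hf
    rw [Proj.awayι_toSpecZero_assoc, Proj.awayι_toSpecZero_assoc, ← Spec.map_comp, ← Spec.map_comp]
    exact isPullback_SpecMap_of_isPushout _ _ _ _ (isPushout_away φ hφA hf)
  have w : Proj.map φ hφ ≫ Proj.toSpecZero ℬ ≫ Spec.map (CommRingCat.ofHom (algebraMap R' (ℬ 0))) =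
      (Proj.toSpecZero 𝒜 ≫ Spec.map (CommRingCat.ofHom (algebraMap R (𝒜 0)))) ≫
        Spec.map (CommRingCat.ofHom (algebraMap R' R)) := by
    refine (Proj.mapAffineOpenCover φ hφ).openCover.hom_ext _ _ ?_
    suffices h : ∀ (d : ℕ) (hd : 0 < d) (f : B) (hf : f ∈ ℬ d),
        Proj.awayι 𝒜 (φ f) (φ.2 hf) hd ≫
          (Proj.map φ hφ ≫ Proj.toSpecZero ℬ ≫ Spec.map (CommRingCat.ofHom (algebraMap R' (ℬ 0)))) =
        Proj.awayι 𝒜 (φ f) (φ.2 hf) hd ≫
          (Proj.toSpecZero 𝒜 ≫ Spec.map (CommRingCat.ofHom (algebraMap R (𝒜 0)))) ≫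
            Spec.map (CommRingCat.ofHom (algebraMap R' R)) from
      fun s => h s.1 s.1.2 s.2 s.2.2
    intro d hd f hf
    rw [Proj.awayι_comp_map_assoc φ hφ hd f hf]
    have := (hch d f hd hf).w
    rw [Category.assoc, Category.assoc] at this
    rw [Category.assoc]
    exact this.symm
  refine (RingPO.isPullback_of_cover w.symm (fun i => 𝒰.openCover.X i)
    (fun i => Spec (CommRingCat.of (Away 𝒜 (φ i.2)))) (fun i => 𝒰.openCover.f i) (fun x => ?_)
    (fun i => Proj.awayι 𝒜 (φ i.2) (φ.2 i.2.2) i.1.2)
    (fun i => Spec.map (CommRingCat.ofHom (Away.map φ (i.2 : B)))) (fun i => ?_) fun i => ?_).flip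
  · exact ⟨𝒰.idx x, 𝒰.covers x⟩
  · refine (IsOpenImmersion.isPullback _ _ _ _ (Proj.awayι_comp_map φ hφ i.1.2 _ i.2.2) ?_).flip
    rw [Proj.opensRange_awayι]
    rw [Proj.map_preimage_basicOpen]
    exact (Proj.opensRange_awayι 𝒜 _ _ _).symm
  · exact hch i.1 i.2 i.1.2 i.2.2

end Groth.Agent.ProjX
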