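import Groth.Agent.ProjX.TwistAmple
import Groth.Agent.AmpleX.Comp
import Groth.Agent.AmpleX.RelAffine

/-!
# Relative ampleness of the pullback of `O(1)` along an embedding into a relative `Proj`
-/

set_option linter.style.haveILetI false
set_option linter.unusedSectionVars false
set_option backward.isDefEq.respectTransparency false
set_option backward.isDefEq.respectTransparency.types false

noncomputable section

universe u

open CategoryTheory CategoryTheory.Limits AlgebraicGeometry TopologicalSpace Opposite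
open scoped HomogeneousIdeal

namespace Groth.Agent.ProjX

open Groth.Agent

/-- `O(1)` is ample on a quasi-compact union of degree one basic opens. -/
theorem isAmple_twist_restrict {A σ : Type u} [CommRing A] [SetLike σ A] [AddSubgroupClass σ A] (𝒜 : ℕ → σ)
    [GradedRing 𝒜] {κ : Type*} (g : κ → A) (hg : ∀ i, g i ∈ 𝒜 1) (hcov : ⨆ i, Proj.basicOpen 𝒜 (g i) = ⊤)
    (s : Finset A) (hs : ∀ f ∈ s, f ∈ 𝒜 1) (W : (Proj 𝒜).Opens)
    (hW : W = ⨆ f : s, Proj.basicOpen 𝒜 (f : A)) :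
    CohB1.IsAmple ((GrTwist.twist 𝒜 (1 : ℤ)).restrict W.ι) := by
  classical
  have hL : PicF.IsInvertible (GrTwist.twist 𝒜 (1 : ℤ)) := fun x => by
    obtain ⟨i, hi⟩ := Opens.mem_iSup.1 (hcov.ge (trivial : x ∈ (⊤ : (Proj 𝒜).Opens)))
    have h := GrTwistX.nonempty_iso_basicOpen (hg i) (1 : ℤ)
    rw [Nat.cast_one, mul_one] at h
    exact ⟨_, hi, h⟩
  have haff : ∀ f : s, IsAffineOpen (Proj.basicOpen 𝒜 (f : A)) := fun f =>
    Proj.isAffineOpen_basicOpen 𝒜 _ (hs f f.2) one_pos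
  refine (AmpleX.isAmple_restrict_iff W.ι hL).2 ⟨?_, fun z => ?_⟩
  · refine isCompact_iff_compactSpace.mp ?_
    have hU : (W : Set (Proj 𝒜)) = ⋃ f : s, (Proj.basicOpen 𝒜 (f : A) : Set (Proj 𝒜)) := by
      rw [← Opens.coe_iSup, hW]
    rw [hU]
    exact isCompact_iUnion fun f => (haff f).isCompact
  · obtain ⟨f, hf⟩ := Opens.mem_iSup.1 (hW.le z.2)
    let a₀ : Γ(GrTwist.twist 𝒜 (1 : ℤ), W.ι ''ᵁ ⊤) :=
      AModX.res _ (le_top : W.ι ''ᵁ ⊤ ≤ ⊤) (degSec 𝒜 (hs f f.2))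
    refine ⟨1, one_pos, AmpleX.powElt a₀ 1, ?_⟩
    have hloc : AmpleX.locus (AmpleX.powElt a₀ 1) = Proj.basicOpen 𝒜 (f : A) := by
      have h := genLocus_degSec 𝒜 g hg hcov (hs f f.2)
      rw [AmpleX.genLocus_eq_locus, InvX.one_ofSect] at h
      rw [AmpleX.locus_powElt hL a₀ 0, AmpleX.locus_res, W.ι_image_top]
      refine (congrArg (· ⊓ W) h).trans (inf_eq_left.2 ?_)
      rw [hW]
      exact le_iSup (fun f : s => Proj.basicOpen 𝒜 (f : A)) f
    rw [hloc]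
    exact ⟨hf, haff f⟩

variable {Y P X : Scheme.{u}} {𝒮 : RelProj.QCGrAlg Y} {p : P ⟶ Y}
  {chart : ∀ (U : Y.Opens) (hU : IsAffineOpen U), (((p ⁻¹ᵁ U : P.Opens) : Scheme.{u}) ≅ Proj (𝒮.deg U hU))}

theorem isRelAmple_pullback_twist (hgen : 𝒮.IsGenDegOne) {L : P.Modules}
    {lam : ∀ (U : Y.Opens) (hU : IsAffineOpen U),
      L ⟶ (Scheme.Modules.pushforward (RelProj.emb p chart U hU)).obj (GrTwist.twist (𝒮.deg U hU) 1)}
    (hL : RelProj.IsRelTwist 𝒮 p chart 1 L lam) (g : X ⟶ P) (f : X ⟶ Y) (hgf : g ≫ p = f) [QuasiCompact f]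
    (hemb : Topology.IsEmbedding g.base) :
    RelAmple.IsRelAmple f ((Scheme.Modules.pullback g).obj L) := by
  classical
  subst hgf
  refine AmpleX.isRelAmple_of_ampleOn fun x => ?_
  obtain ⟨_, ⟨V, hV, rfl⟩, hxV, -⟩ :=
    Y.isBasis_affineOpens.exists_subset_of_mem_open (Set.mem_univ ((g ≫ p) x)) isOpen_univ
  let Z : X.Opens := (g ≫ p) ⁻¹ᵁ V
  refine ⟨V, Z.toScheme, Z.ι, inferInstance, hxV, by rw [Scheme.Opens.opensRange_ι], ?_⟩
  haveI : CompactSpace Z.toScheme := isCompact_iff_compactSpace.mp ((g ≫ p).isCompact_preimage hV.isCompact)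
  let e := RelProj.emb p chart V hV
  have hrange : Set.range (Z.ι ≫ g) ⊆ Set.range e := by
    rintro _ ⟨z, rfl⟩
    exact (RelTildeX.opensRange_emb p chart V hV).ge z.2
  let g₁ : Z.toScheme ⟶ Proj (𝒮.deg V hV) := IsOpenImmersion.lift e (Z.ι ≫ g) hrange
  have hg₁ : g₁ ≫ e = Z.ι ≫ g := IsOpenImmersion.lift_fac _ _ _
  have hcov : ⨆ f : (𝒮.deg V hV 1 : Set (𝒮.presheaf.obj (op V))),
      Proj.basicOpen (𝒮.deg V hV) (f : 𝒮.presheaf.obj (op V)) = ⊤ :=
    iSup_basicOpen_deg_one hgen V hV _ Ideal.subset_span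
  obtain ⟨t, ht⟩ := (isCompact_range g₁.continuous).elim_finite_subcover
    (fun f : (𝒮.deg V hV 1 : Set (𝒮.presheaf.obj (op V))) =>
      (Proj.basicOpen (𝒮.deg V hV) (f : 𝒮.presheaf.obj (op V)) : Set (Proj (𝒮.deg V hV))))
    (fun f => (Proj.basicOpen _ _).2) (fun y _ => by
      obtain ⟨f, hf⟩ := Opens.mem_iSup.1 (hcov.ge (trivial : y ∈ (⊤ : (Proj (𝒮.deg V hV)).Opens)))
      exact Set.mem_iUnion.2 ⟨f, hf⟩)
  let s : Finset (𝒮.presheaf.obj (op V)) := t.image Subtype.val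
  let W : (Proj (𝒮.deg V hV)).Opens := ⨆ f : s, Proj.basicOpen (𝒮.deg V hV) (f : 𝒮.presheaf.obj (op V))
  have hA := isAmple_twist_restrict (𝒮.deg V hV) (fun f : (𝒮.deg V hV 1 : Set (𝒮.presheaf.obj (op V))) => f.1)
    (fun f => f.2) hcov s (fun f hf => by
      obtain ⟨f, -, rfl⟩ := Finset.mem_image.1 hf
      exact f.2) W rfl
  haveI : CompactSpace W.toScheme := (AmpleX.isAmple_iff.1 hA).2.1
  have hrange₂ : Set.range g₁ ⊆ Set.range W.ι := by
    rintro _ ⟨z, rfl⟩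
    rw [Scheme.Opens.range_ι]
    obtain ⟨f, hft, hf⟩ := Set.mem_iUnion₂.1 (ht ⟨z, rfl⟩)
    exact Opens.mem_iSup.2 ⟨⟨f.1, Finset.mem_image.2 ⟨f, hft, rfl⟩⟩, hf⟩
  let k : Z.toScheme ⟶ W.toScheme := IsOpenImmersion.lift W.ι g₁ hrange₂
  have hk : k ≫ W.ι ≫ e = Z.ι ≫ g := by
    rw [← Category.assoc, IsOpenImmersion.lift_fac, hg₁]
  have hke : Topology.IsEmbedding k.base := by
    refine Topology.IsEmbedding.of_comp k.continuous (W.ι ≫ e).continuous ?_
    have hcomp : (W.ι ≫ e).base ∘ k.base = (Z.ι ≫ g).base := by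
      rw [← hk]
      rfl
    rw [hcomp]
    exact hemb.comp Z.ι.isOpenEmbedding.isEmbedding
  let b : W.toScheme ⟶ Spec (CommRingCat.of (ULift.{u} ℤ)) := specULiftZIsTerminal.from _
  haveI : QuasiCompact b := (quasiCompact_iff_compactSpace b).2 inferInstance
  haveI : W.toScheme.IsSeparated := AmpleX.isSeparated_of_isAmple hA
  haveI : QuasiCompact (k ≫ b) := (quasiCompact_iff_compactSpace _).2 inferInstance
  haveI : QuasiCompact k := QuasiCompact.of_comp k b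
  have h1 := AmpleX.isRelAmple_pullback_embedding b k hke ((AmpleX.isRelAmple_iff_isAmple b _).2 hA)
  have h2 := (AmpleX.isRelAmple_iff_isAmple (k ≫ b) _).1 h1
  refine AmpleX.isAmple_of_iso ?_ h2
  exact (Scheme.Modules.pullback k).mapIso
      ((Scheme.Modules.restrictFunctor W.ι).mapIso (RelTildeX.twistIso hL V hV).symm ≪≫
        QCoh.restrictRestrict L W.ι e ≪≫ (Scheme.Modules.restrictFunctorIsoPullback (W.ι ≫ e)).app L) ≪≫
    (Scheme.Modules.pullbackComp k (W.ι ≫ e)).app L ≪≫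
    (Scheme.Modules.pullbackCongr hk).app L ≪≫
    ((Scheme.Modules.pullbackComp Z.ι g).app L).symm ≪≫
    ((Scheme.Modules.restrictFunctorIsoPullback Z.ι).app _).symm

end Groth.Agent.ProjX
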