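import Groth.Agent.QCohSupX.EpiColim
import Groth.Agent.QcqsColim.FTSub
import Groth.Agent.QCoh.Qcqs
import Groth.Agent.QCoh.Pullback

/-!
# A counit epimorphism comes from a submodule of finite type
-/

set_option backward.isDefEq.respectTransparency false
set_option backward.isDefEq.respectTransparency.types false

universe u

open CategoryTheory CategoryTheory.Limits AlgebraicGeometry TopologicalSpace Opposite

noncomputable section

namespace Groth.Agent.ProjX

open Groth.Agent.QCoh Groth.Agent.QcqsColim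

variable {Y : Scheme.{u}} (G : Y.Modules)

/-- The submodules of finite type as modules. -/
def ftModDiagram : FTIndex G ⥤ Y.Modules where
  obj N := N.1.toModules
  map h := incl (leOfHom h)
  map_id _ := rfl
  map_comp _ _ := rfl

/-- The map to the module. -/
def ftModCocone : Cocone (ftModDiagram G) where
  pt := G
  ι :=
    { app := fun N => N.1.ι
      naturality := fun _ _ h => (incl_ι (leOfHom h)).trans (Category.comp_id _).symm }

theorem epi_desc [CompactSpace Y] [QuasiSeparatedSpace Y] (hG : Coh.IsQCoh G) :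
    Epi (colimit.desc (ftModDiagram G) (ftModCocone G)) := by
  refine ⟨fun {Z} g h e => QCoh.hom_ext_app fun O s => ?_⟩
  refine TopCat.Presheaf.section_ext ⟨Z.presheaf, Z.isSheaf⟩ _ _ _ fun x hx => ?_
  obtain ⟨V, hV, hxV, hVO⟩ := exists_isAffineOpen_mem_and_subset (X := Y) (x := x) (U := O) hx
  obtain ⟨N, hN, hmem⟩ := exists_ftOn_contains hG hV (extStep_qcqs hV.isCompact)
    {rs G hVO s} (Set.finite_singleton _)
  obtain ⟨t, ht⟩ := N.exists_app_eq (hmem rfl)
  have h1 : N.ι ≫ g = N.ι ≫ h := by
    have hι : colimit.ι (ftModDiagram G) ⟨N, hN⟩ ≫ colimit.desc _ (ftModCocone G) = N.ι := colimit.ι_desc _ _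
    rw [← hι, Category.assoc, Category.assoc, e]
  have h2 := congrArg (fun ψ => Scheme.Modules.Hom.app ψ V t) h1
  simp only [Scheme.Modules.Hom.comp_app] at h2
  change g.app V (N.ι.app V t) = h.app V (N.ι.app V t) at h2
  rw [ht] at h2
  rw [← TopCat.Presheaf.germ_res_apply _ (homOfLE hVO) x hxV, ← TopCat.Presheaf.germ_res_apply _ (homOfLE hVO) x hxV,
    ← QCoh.map_app_comm, ← QCoh.map_app_comm]
  exact congrArg _ h2

/-- If a module of finite type is generated by a quasi-coherent module of the base, then by one of finite type. -/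
theorem exists_epi_pullback_isFT {P : Scheme.{u}} (p : P ⟶ Y) [CompactSpace Y] [QuasiSeparatedSpace Y]
    [CompactSpace P] (hG : Coh.IsQCoh G) {F : P.Modules} (hFq : Coh.IsQCoh F) (hFt : CohB1.IsFT F)
    (u : (Scheme.Modules.pullback p).obj G ⟶ F) [Epi u] :
    ∃ (N : Y.Modules) (π : (Scheme.Modules.pullback p).obj N ⟶ F),
      Coh.IsQCoh N ∧ CohB1.IsFT N ∧ Epi π := by
  haveI := epi_desc G hG
  haveI : (Scheme.Modules.pullback p).IsLeftAdjoint := (Scheme.Modules.pullbackPushforwardAdjunction p).isLeftAdjoint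
  let D := ftModDiagram G ⋙ Scheme.Modules.pullback p
  let c : Cocone D := (Scheme.Modules.pullback p).mapCocone (colimit.cocone _)
  let hc : IsColimit c := isColimitOfPreserves _ (colimit.isColimit _)
  let w : c.pt ⟶ F := (Scheme.Modules.pullback p).map (colimit.desc _ (ftModCocone G)) ≫ u
  haveI : Epi w := epi_comp _ _
  obtain ⟨j, hj⟩ := QCohSupX.exists_epi D (fun j => QCoh.isQCoh_pullback p (isQCoh_of_ftOn hG j.2)) c hc hFq hFt w
  exact ⟨j.1.toModules, c.ι.app j ≫ w, isQCoh_of_ftOn hG j.2, isFT_of_ftOn hG j.2, hj j ⟨𝟙 j⟩⟩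

end Groth.Agent.ProjX
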