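import Groth.Agent.ProjX.TwistBC
import Groth.Agent.SymX.Taut
import Groth.Agent.QCoh.FlatOver
import Mathlib.AlgebraicGeometry.Morphisms.Flat
import Mathlib.RingTheory.Flat.EquationalCriterion

/-!
# Flatness of a relative `Proj` and its twisting sheaves from flatness in high degrees
-/

set_option linter.style.haveILetI false
set_option linter.unusedSectionVars false
set_option backward.isDefEq.respectTransparency false
set_option backward.isDefEq.respectTransparency.types false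

noncomputable section

universe u

open CategoryTheory CategoryTheory.Limits AlgebraicGeometry TopologicalSpace Opposite
open scoped HomogeneousIdeal

namespace Groth.Agent.ProjX

open Groth.Agent

/-- A module exhausted by flat modules compatibly along transition maps killing the kernels is flat. -/
theorem flat_of_exhausted {R : Type u} [CommRing R] {N : Type u} [AddCommGroup N] [Module R N]
    {S : ℕ → Type u} [∀ k, AddCommGroup (S k)] [∀ k, Module R (S k)] (hS : ∀ k, Module.Flat R (S k))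
    (ι : ∀ k, S k →ₗ[R] N) (t : ∀ k m, S k →ₗ[R] S (k + m)) (ht : ∀ k m x, ι (k + m) (t k m x) = ι k x)
    (hsurj : ∀ z : N, ∃ k x, ι k x = z) (hker : ∀ k x, ι k x = 0 → ∃ m, t k m x = 0) : Module.Flat R N := by
  refine Module.Flat.of_forall_exists_factorization fun {l f x} hx => ?_
  have hK : ∀ z : N, ∀ᶠ K in Filter.atTop, ∃ s, ι K s = z := fun z => by
    obtain ⟨k, s, rfl⟩ := hsurj z
    filter_upwards [Filter.eventually_ge_atTop k] with K hK
    obtain ⟨m, rfl⟩ := Nat.exists_eq_add_of_le hK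
    exact ⟨t k m s, ht k m s⟩
  obtain ⟨K, hK⟩ := (Filter.eventually_all.2 fun i : Fin l => hK (x (Finsupp.single i 1))).exists
  choose s hs using hK
  let x' : (Fin l →₀ R) →ₗ[R] S K := Finsupp.linearCombination R s
  have hx' : ι K ∘ₗ x' = x := Finsupp.lhom_ext' fun i => LinearMap.ext_ring (by
    simp [x', hs])
  obtain ⟨m, hm⟩ := hker K (x' f) (by rw [← LinearMap.comp_apply, hx', hx])
  haveI := hS (K + m)
  obtain ⟨k, a, y, hy, ha⟩ := Module.Flat.exists_factorization_of_apply_eq_zero_of_free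
    (N := Fin l →₀ R) (f := f) (x := t K m ∘ₗ x') hm
  refine ⟨k, a, ι (K + m) ∘ₗ y, ?_, ha⟩
  rw [LinearMap.comp_assoc, ← hy, ← hx']
  exact LinearMap.ext fun z => (ht K m (x' z)).symm

variable {Y P : Scheme.{u}} {𝒮 : RelProj.QCGrAlg Y} {p : P ⟶ Y}
  {chart : ∀ (U : Y.Opens) (hU : IsAffineOpen U), (((p ⁻¹ᵁ U : P.Opens) : Scheme.{u}) ≅ Proj (𝒮.deg U hU))}
  (hP : RelProj.IsRelProj 𝒮 p chart)

/-- Eventual flatness of the graded pieces. -/
def EventuallyFlat (𝒮 : RelProj.QCGrAlg Y) : Prop :=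
  ∃ d₀ : ℕ, ∀ d : ℕ, d₀ ≤ d → ∀ (U : Y.Opens) (hU : IsAffineOpen U),
    letI := (𝒮.str.app (op U)).hom.toAlgebra
    Module.Flat Γ(Y, U) ↥(Submodule.span Γ(Y, U) (𝒮.deg U hU d : Set (𝒮.presheaf.obj (op U))))

lemma span_deg_le (U : Y.Opens) (hU : IsAffineOpen U) (d : ℕ) :
    letI := (𝒮.str.app (op U)).hom.toAlgebra
    ∀ a ∈ Submodule.span Γ(Y, U) (𝒮.deg U hU d : Set (𝒮.presheaf.obj (op U))), a ∈ 𝒮.deg U hU d := by
  letI := (𝒮.str.app (op U)).hom.toAlgebra
  intro a ha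
  induction ha using Submodule.span_induction with
  | mem x hx => exact hx
  | zero => exact zero_mem _
  | add x y _ _ hx hy => exact add_mem hx hy
  | smul r x _ hx =>
    rw [Algebra.smul_def]
    have h := SetLike.mul_mem_graded (A := 𝒮.deg U hU) (𝒮.str_mem U hU r) hx
    rwa [zero_add] at h

include hP in
lemma flat_sections (hflat : EventuallyFlat 𝒮) {n : ℤ} {L : P.Modules}
    {lam : ∀ (U : Y.Opens) (hU : IsAffineOpen U),
      L ⟶ (Scheme.Modules.pushforward (RelProj.emb p chart U hU)).obj (GrTwist.twist (𝒮.deg U hU) n)}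
    (hL : RelProj.IsRelTwist 𝒮 p chart n L lam) (U : Y.Opens) (hU : IsAffineOpen U)
    {f : 𝒮.presheaf.obj (op U)} {d : ℕ} (hd : 0 < d) (hf : f ∈ 𝒮.deg U hU d)
    (hle : RelProj.emb p chart U hU ''ᵁ Proj.basicOpen (𝒮.deg U hU) f ≤ p ⁻¹ᵁ U) :
    letI : Module Γ(Y, U) Γ(L, RelProj.emb p chart U hU ''ᵁ Proj.basicOpen (𝒮.deg U hU) f) :=
      Module.compHom _ (p.appLE U _ hle).hom
    Module.Flat Γ(Y, U) Γ(L, RelProj.emb p chart U hU ''ᵁ Proj.basicOpen (𝒮.deg U hU) f) := by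
  classical
  obtain ⟨d₀, hd₀⟩ := hflat
  letI := (𝒮.str.app (op U)).hom.toAlgebra
  let j := RelProj.emb p chart U hU
  let O := j ''ᵁ Proj.basicOpen (𝒮.deg U hU) f
  letI : Module Γ(Y, U) Γ(L, O) := Module.compHom _ (p.appLE U _ hle).hom
  let Q := j ⁻¹ᵁ O
  have eQ : Q = Proj.basicOpen (𝒮.deg U hU) f := j.preimage_image_eq _
  let 𝒜 := 𝒮.deg U hU
  let e : Γ(L, O) ≃+ Γ(GrMod.tilde 𝒜 𝒜 n, Q) :=
    AddEquiv.ofBijective ((lam U hU).app O).hom (hL.bijective U hU O
      ((j.image_le_opensRange _).trans (RelTildeX.opensRange_emb p chart U hU).le))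
  let tr : Γ(GrMod.tilde 𝒜 𝒜 n, Proj.basicOpen 𝒜 f) ≃+ Γ(GrMod.tilde 𝒜 𝒜 n, Q) :=
    ((GrMod.tilde 𝒜 𝒜 n).presheaf.mapIso (eqToIso eQ).op).addCommGroupIsoToAddEquiv
  have htr : ∀ (s : Γ(GrMod.tilde 𝒜 𝒜 n, Proj.basicOpen 𝒜 f)) (y : Q),
      GrMod.val (tr s) y = GrMod.val s ⟨y.1, eQ.le y.2⟩ := fun s y => rfl
  let K₀ := d₀ + n.natAbs
  let deg : ℕ → ℕ := fun k => (((k + K₀ : ℕ) : ℤ) * d + n).toNat
  have hnn : ∀ k, (d₀ : ℤ) ≤ ((k + K₀ : ℕ) : ℤ) * d + n := fun k => by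
    have h1 : ((k + K₀ : ℕ) : ℤ) ≤ ((k + K₀ : ℕ) : ℤ) * d :=
      le_mul_of_one_le_right (Int.natCast_nonneg _) (by exact_mod_cast hd)
    simp only [K₀] at h1 ⊢
    push_cast at h1 ⊢
    linarith [neg_abs_le n, (Int.natCast_nonneg k)]
  have hdeg : ∀ k, (deg k : ℤ) = ((k + K₀ : ℕ) : ℤ) * d + n := fun k =>
    Int.toNat_of_nonneg (le_trans (Int.natCast_nonneg _) (hnn k))
  let S : ℕ → Submodule Γ(Y, U) (𝒮.presheaf.obj (op U)) := fun k =>
    Submodule.span Γ(Y, U) (𝒜 (deg k) : Set (𝒮.presheaf.obj (op U)))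
  have hS : ∀ k, ∀ a : S k, (a : 𝒮.presheaf.obj (op U)) ∈ 𝒜 (deg k) := fun k a => span_deg_le (𝒮 := 𝒮) U hU (deg k) a.1 a.2
  have hsm : ∀ (r : Γ(Y, U)) (z : Γ(L, O)) (y : Q), GrMod.val (e (r • z)) y =
      algebraMap (𝒮.presheaf.obj (op U)) (GrTwist.Loc 𝒜 y.1) ((𝒮.str.app (op U)).hom r) • GrMod.val (e z) y := by
    intro r z y
    show cval lam U hU (p.appLE U O hle r • z) y = _
    rw [cval_smul]
    refine congrArg (· * _) ?_
    refine Eq.trans ?_ (SymX.emb_app_val hP U hU r ⟨y.1, hle y.2⟩)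
    have hn : (j.app O) ((P.presheaf.map (homOfLE hle).op) (p.app U r)) =
        (Proj 𝒜).presheaf.map (homOfLE (j.preimage_mono hle)).op ((j.app (p ⁻¹ᵁ U)) (p.app U r)) :=
      congr($(j.naturality (homOfLE hle).op).hom (p.app U r))
    exact (congrArg (fun s => ((s : GrTwist.O (𝒜 := 𝒜) (op Q)).1 y).val) hn).trans rfl
  let ι : ∀ k, S k →ₗ[Γ(Y, U)] Γ(L, O) := fun k =>
    { toFun := fun a => e.symm (tr (GrModX.frac 𝒜 𝒜 hf n (k + K₀) (a : 𝒮.presheaf.obj (op U))))
      map_add' := fun a b => by rw [Submodule.coe_add, map_add, map_add, map_add]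
      map_smul' := fun r a => e.injective (by
        rw [RingHom.id_apply, AddEquiv.apply_symm_apply]
        refine GrModX.ext_val 𝒜 𝒜 fun y => ?_
        rw [hsm, AddEquiv.apply_symm_apply, htr, htr, GrModX.val_frac, GrModX.val_frac, SetLike.val_smul,
          Algebra.smul_def, ← Localization.mk_one_eq_algebraMap, LocalizedModule.mk_smul_mk, one_mul]
        refine congrArg (fun m => LocalizedModule.mk m _) ?_
        show GrModX.pz 𝒜 _ ((𝒮.str.app (op U)).hom r • (a : 𝒮.presheaf.obj (op U))) = _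
        exact GrModX.pz_smul 𝒜 𝒜 (𝒮.str_mem U hU r) (by simp) _) }
  let t : ∀ k m, S k →ₗ[Γ(Y, U)] S (k + m) := fun k m =>
    ((LinearMap.mulLeft Γ(Y, U) (f ^ m)).comp (S k).subtype).codRestrict (S (k + m)) fun a => by
      refine Submodule.subset_span ?_
      show f ^ m * (a : 𝒮.presheaf.obj (op U)) ∈ 𝒜 (deg (k + m))
      have h := SetLike.mul_mem_graded (SetLike.pow_mem_graded m hf) (hS k a)
      have hd' : deg (k + m) = m • d + deg k := by
        zify
        rw [hdeg, hdeg]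
        push_cast [smul_eq_mul]
        ring
      rw [hd']
      exact h
  refine flat_of_exhausted (S := fun k => S k) (fun k => hd₀ (deg k) (by have := hdeg k; have := hnn k; omega) U hU)
    ι t (fun k m a => ?_) (fun z => ?_) (fun k a ha => ?_)
  · refine congrArg (fun s => e.symm (tr s)) ?_
    show GrModX.frac 𝒜 𝒜 hf n (k + m + K₀) (f ^ m • (a : 𝒮.presheaf.obj (op U))) = _
    rw [show k + m + K₀ = k + K₀ + m by omega, GrModX.frac_raise]
  · obtain ⟨k, m, hm, hz⟩ := GrModX.exists_eq_frac 𝒜 𝒜 hf n hd (tr.symm (e z))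
    refine ⟨k, ⟨f ^ K₀ • m, Submodule.subset_span ?_⟩, ?_⟩
    · obtain ⟨i, hi, hmem⟩ := (hm.smul 𝒜 (SetLike.pow_mem_graded K₀ hf)).exists_mem (by
        have := hnn k
        push_cast [smul_eq_mul] at this ⊢
        nlinarith)
      have : i = deg k := by
        zify
        rw [hdeg, hi]
        push_cast [smul_eq_mul]
        ring
      rw [← this]
      exact hmem
    · show e.symm (tr (GrModX.frac 𝒜 𝒜 hf n (k + K₀) (f ^ K₀ • m))) = z
      rw [GrModX.frac_raise, ← hz, AddEquiv.apply_symm_apply, AddEquiv.symm_apply_apply]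
  · have h0 : GrModX.frac 𝒜 𝒜 hf n (k + K₀) (a : 𝒮.presheaf.obj (op U)) = 0 :=
      tr.injective (e.symm.injective (by rw [map_zero, map_zero]; exact ha))
    obtain ⟨N, hN⟩ := GrModX.exists_pow_smul_of_frac_eq_zero 𝒜 𝒜 hf n hd
      (Or.inr ⟨deg k, hdeg k, hS k a⟩) h0
    exact ⟨N, Subtype.ext hN⟩

include hP in
theorem isFlatOver_twist (hflat : EventuallyFlat 𝒮) {n : ℤ} {L : P.Modules}
    {lam : ∀ (U : Y.Opens) (hU : IsAffineOpen U),
      L ⟶ (Scheme.Modules.pushforward (RelProj.emb p chart U hU)).obj (GrTwist.twist (𝒮.deg U hU) n)}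
    (hL : RelProj.IsRelTwist 𝒮 p chart n L lam) : FlatMod.IsFlatOver p L := by
  intro x
  obtain ⟨U, hU, y, rfl⟩ := exists_chart_point (chart := chart) x
  obtain ⟨f, d, hd, hf, hy, -⟩ := GrModX.exists_basicOpen_le (𝒮.deg U hU)
    (V := (⊤ : (Proj (𝒮.deg U hU)).Opens)) (y := y) trivial
  have hle : RelProj.emb p chart U hU ''ᵁ Proj.basicOpen (𝒮.deg U hU) f ≤ p ⁻¹ᵁ U :=
    (Scheme.Hom.image_le_opensRange _ _).trans (RelTildeX.opensRange_emb p chart U hU).le
  exact (QCoh.flat_appLE_iff p (RelTildeX.isQCoh_twist hL)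
    ((Proj.isAffineOpen_basicOpen _ f hf hd).image_of_isOpenImmersion _) hU hle).1
    (flat_sections hP hflat hL U hU hd hf hle) _ ⟨y, hy, rfl⟩

include hP in
theorem flat_of_eventuallyFlat (hflat : EventuallyFlat 𝒮) : Flat p := by
  classical
  obtain ⟨L, lam, hL⟩ := exists_isRelTwist hP (n := 0)
  refine (HasRingHomProperty.iff_exists_appLE (P := @Flat)
    (RingHom.Flat.stableUnderComposition.stableUnderCompositionWithLocalizationAway
      RingHom.Flat.holdsForLocalizationAway).left).2 fun x => ?_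
  obtain ⟨U, hU, y, rfl⟩ := exists_chart_point (chart := chart) x
  obtain ⟨f, d, hd, hf, hy, -⟩ := GrModX.exists_basicOpen_le (𝒮.deg U hU)
    (V := (⊤ : (Proj (𝒮.deg U hU)).Opens)) (y := y) trivial
  let 𝒜 := 𝒮.deg U hU
  let j := RelProj.emb p chart U hU
  let O := j ''ᵁ Proj.basicOpen 𝒜 f
  have hle : O ≤ p ⁻¹ᵁ U :=
    (Scheme.Hom.image_le_opensRange _ _).trans (RelTildeX.opensRange_emb p chart U hU).le
  refine ⟨⟨U, hU⟩, ⟨O, (Proj.isAffineOpen_basicOpen _ f hf hd).image_of_isOpenImmersion _⟩, ⟨y, hy, rfl⟩, hle, ?_⟩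
  let Q := j ⁻¹ᵁ O
  have eQ : Q = Proj.basicOpen 𝒜 f := j.preimage_image_eq _
  haveI : IsIso (j.app O) := Scheme.Hom.isIso_app j O (j.image_le_opensRange _)
  let e : Γ(L, O) ≃+ Γ(GrMod.tilde 𝒜 𝒜 0, Q) :=
    AddEquiv.ofBijective ((lam U hU).app O).hom (hL.bijective U hU O
      ((j.image_le_opensRange _).trans (RelTildeX.opensRange_emb p chart U hU).le))
  let one : Γ(GrMod.tilde 𝒜 𝒜 0, Q) :=
    (GrMod.tilde 𝒜 𝒜 0).presheaf.map (homOfLE eQ.le).op (GrModX.frac 𝒜 𝒜 hf 0 0 1)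
  let e₀ : Γ(L, O) := e.symm one
  have hone : ∀ y : Q, GrMod.val one y = (1 : GrTwist.Loc 𝒜 y.1) := fun y => by
    show GrMod.val (GrModX.frac 𝒜 𝒜 hf 0 0 1) ⟨y.1, eQ.le y.2⟩ = _
    rw [GrModX.val_frac, GrModX.pz_of_mem 𝒜 (SetLike.GradedOne.one_mem (A := 𝒜)) (by simp)]
    refine @Eq.trans _ _ (Localization.mk 1 1 : GrTwist.Loc 𝒜 y.1) _ ?_ Localization.mk_one
    exact congrArg (fun t => (Localization.mk 1 t : GrTwist.Loc 𝒜 y.1)) (Subtype.ext (pow_zero f))
  have hval : ∀ (a : Γ(P, O)) (y : Q), GrMod.val (e (a • e₀)) y = (((j.app O) a).1 y : GrTwist.A0 𝒜 y.1).val := by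
    intro a y
    show cval lam U hU (a • e₀) y = _
    rw [cval_smul]
    have h1 : cval lam U hU e₀ y = 1 := by
      show GrMod.val (e (e.symm one)) y = _
      rw [AddEquiv.apply_symm_apply, hone]
    rw [h1, mul_one]
  letI : Algebra Γ(Y, U) Γ(P, O) := (p.appLE U O hle).hom.toAlgebra
  letI : Module Γ(Y, U) Γ(L, O) := Module.compHom _ (p.appLE U O hle).hom
  let φ : Γ(P, O) →ₗ[Γ(Y, U)] Γ(L, O) :=
    { toFun := fun a => a • e₀
      map_add' := fun a b => add_smul a b e₀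
      map_smul' := fun r a => mul_smul ((p.appLE U O hle).hom r) a e₀ }
  have hbij : Function.Bijective φ := by
    refine ⟨(injective_iff_map_eq_zero _).2 fun a ha => ?_, fun z => ?_⟩
    · refine ((ConcreteCategory.isIso_iff_bijective (j.app O)).1 inferInstance).1 ?_
      rw [map_zero]
      refine Subtype.ext (funext fun y => HomogeneousLocalization.val_injective _ ?_)
      have h2 := hval a y
      rw [show a • e₀ = 0 from ha, map_zero] at h2
      exact h2.symm.trans (HomogeneousLocalization.val_zero (𝒜 := 𝒜)).symm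
    · let w : Γ(GrMod.tilde 𝒜 𝒜 0, Proj.basicOpen 𝒜 f) :=
        (GrMod.tilde 𝒜 𝒜 0).presheaf.map (homOfLE eQ.ge).op (e z)
      obtain ⟨k, m, hm, hw⟩ := GrModX.exists_eq_frac 𝒜 𝒜 hf 0 hd w
      have hmk : m ∈ 𝒜 (k • d) := by
        rcases hm with rfl | ⟨i, hi, hmem⟩
        · exact zero_mem _
        · have : i = k • d := by
            zify
            rw [hi]
            simp
          exact this ▸ hmem
      obtain ⟨a, ha⟩ := ((ConcreteCategory.isIso_iff_bijective (j.app O)).1 inferInstance).2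
        ((Proj 𝒜).presheaf.map (homOfLE eQ.le).op (GrModX.cf 𝒜 hf k hmk))
      refine ⟨a, e.injective (GrModX.ext_val 𝒜 𝒜 fun y => ?_)⟩
      refine (hval a y).trans ?_
      rw [ha]
      have hwy : GrMod.val (e z) y = GrMod.val w ⟨y.1, eQ.le y.2⟩ := rfl
      rw [hwy, hw, GrModX.val_frac, GrModX.pz_of_deg 𝒜 hm]
      exact (GrModX.oval_awayToSection 𝒜 hf k hmk ⟨y.1, eQ.le y.2⟩)
  have hf' := flat_sections hP hflat hL U hU hd hf hle
  exact Module.Flat.of_linearEquiv (LinearEquiv.ofBijective φ hbij)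

end Groth.Agent.ProjX
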