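import Groth.Agent.ProjX.TwistPull
import Groth.Agent.GrModX.AdjunctCases
import Groth.Agent.GrModX.BijTransfer
import Groth.Agent.RelTildeX.Twist
import Mathlib.Algebra.Category.Ring.Constructions

/-!
# Twisting sheaves of a relative `Proj` under base change
-/

set_option linter.style.haveILetI false
set_option linter.unusedSectionVars false
set_option backward.isDefEq.respectTransparency false
set_option backward.isDefEq.respectTransparency.types false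

noncomputable section

universe u

open CategoryTheory CategoryTheory.Limits AlgebraicGeometry TopologicalSpace Opposite
open scoped HomogeneousIdeal

namespace Groth.Agent.ProjX.BC

open Groth.Agent

variable {Y Y' P P' : Scheme.{u}} {ψ : Y' ⟶ Y} {𝒮 : RelProj.QCGrAlg Y} {𝒮' : RelProj.QCGrAlg Y'}
  {φ : ∀ (U : Y.Opens) (hU : IsAffineOpen U) (U' : Y'.Opens) (hU' : IsAffineOpen U') (_ : U' ≤ ψ ⁻¹ᵁ U),
      𝒮.deg U hU →+*ᵍ 𝒮'.deg U' hU'}
  (hirr : ∀ (U : Y.Opens) (hU : IsAffineOpen U) (U' : Y'.Opens) (hU' : IsAffineOpen U') (hle : U' ≤ ψ ⁻¹ᵁ U),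
      (𝒮'.deg U' hU')₊ ≤ ((𝒮.deg U hU)₊).map (φ U hU U' hU' hle))
  (hnat : ∀ (U : Y.Opens) (hU : IsAffineOpen U) (U' : Y'.Opens) (hU' : IsAffineOpen U') (hle : U' ≤ ψ ⁻¹ᵁ U)
      (V : Y.Opens) (hV : IsAffineOpen V) (V' : Y'.Opens) (hV' : IsAffineOpen V') (hle' : V' ≤ ψ ⁻¹ᵁ V)
      (i : V ≤ U) (i' : V' ≤ U') (a : 𝒮.presheaf.obj (op U)),
      φ V hV V' hV' hle' (𝒮.res hU hV i a) = 𝒮'.res hU' hV' i' (φ U hU U' hU' hle a))
  {p : P ⟶ Y} {chart : ∀ (U : Y.Opens) (hU : IsAffineOpen U), (((p ⁻¹ᵁ U : P.Opens) : Scheme.{u}) ≅ Proj (𝒮.deg U hU))}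
  (hP : RelProj.IsRelProj 𝒮 p chart)
  {p' : P' ⟶ Y'}
  {chart' : ∀ (U' : Y'.Opens) (hU' : IsAffineOpen U'), (((p' ⁻¹ᵁ U' : P'.Opens) : Scheme.{u}) ≅ Proj (𝒮'.deg U' hU'))}
  (hP' : RelProj.IsRelProj 𝒮' p' chart')
  {g : P' ⟶ P}
  (hg : ∀ (U : Y.Opens) (hU : IsAffineOpen U) (U' : Y'.Opens) (hU' : IsAffineOpen U') (hle : U' ≤ ψ ⁻¹ᵁ U),
      RelProj.emb p' chart' U' hU' ≫ g =
        Proj.map (φ U hU U' hU' hle) (hirr U hU U' hU' hle) ≫ RelProj.emb p chart U hU)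
  {n : ℤ} {L : P.Modules}
  {lam : ∀ (U : Y.Opens) (hU : IsAffineOpen U),
    L ⟶ (Scheme.Modules.pushforward (RelProj.emb p chart U hU)).obj (GrTwist.twist (𝒮.deg U hU) n)}
  (hL : RelProj.IsRelTwist 𝒮 p chart n L lam)
  {L' : P'.Modules}
  {lam' : ∀ (U' : Y'.Opens) (hU' : IsAffineOpen U'),
    L' ⟶ (Scheme.Modules.pushforward (RelProj.emb p' chart' U' hU')).obj (GrTwist.twist (𝒮'.deg U' hU') n)}
  (hL' : RelProj.IsRelTwist 𝒮' p' chart' n L' lam')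

include hg in
lemma emb_base (U : Y.Opens) (hU : IsAffineOpen U) (U' : Y'.Opens) (hU' : IsAffineOpen U') (hle : U' ≤ ψ ⁻¹ᵁ U)
    (y : ProjectiveSpectrum (𝒮'.deg U' hU')) :
    (RelProj.emb p chart U hU).base (ProjectiveSpectrum.comap (φ U hU U' hU' hle) (hirr U hU U' hU' hle) y) =
      g ((RelProj.emb p' chart' U' hU').base y) :=
  (congrArg (fun χ : Proj (𝒮'.deg U' hU') ⟶ P => χ.base y) (hg U hU U' hU' hle)).symm

variable (lam lam') in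
/-- `t` is a partial section of `L'` whose values are the images of those of `s`. -/
def Good (W : P.Opens) (s : Γ(L, W)) (W' : P'.Opens) (t : Γ(L', W'))
    (U : Y.Opens) (hU : IsAffineOpen U) (U' : Y'.Opens) (hU' : IsAffineOpen U') (hle : U' ≤ ψ ⁻¹ᵁ U) : Prop :=
  ∀ (y : ProjectiveSpectrum (𝒮'.deg U' hU')) (hy : (RelProj.emb p' chart' U' hU').base y ∈ W')
    (hy' : (RelProj.emb p chart U hU).base
      (ProjectiveSpectrum.comap (φ U hU U' hU' hle) (hirr U hU U' hU' hle) y) ∈ W),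
    cval lam' U' hU' t ⟨y, hy⟩ =
      GrTwist.locMap (φ U hU U' hU' hle) (hirr U hU U' hU' hle) y (cval lam U hU s ⟨_, hy'⟩)

include hnat hP hP' hg hL hL' in
lemma Good.down {W : P.Opens} {s : Γ(L, W)} {W' : P'.Opens} {t : Γ(L', W')}
    {U : Y.Opens} {hU : IsAffineOpen U} {U' : Y'.Opens} {hU' : IsAffineOpen U'} {hle : U' ≤ ψ ⁻¹ᵁ U}
    (h : Good hirr lam lam' W s W' t U hU U' hU' hle) (r : Γ(Y, U)) (r' : Γ(Y', U'))
    (D : Y.Opens) (hD : IsAffineOpen D) (D' : Y'.Opens) (hD' : IsAffineOpen D')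
    (e : D = Y.basicOpen r) (e' : D' = Y'.basicOpen r') (hle' : D' ≤ ψ ⁻¹ᵁ D) :
    Good hirr lam lam' W s W' t D hD D' hD' hle' := by
  subst e; subst e'
  intro z hz hz'
  have hzU := mem_comap_of_mem hP' hU' r' hz
  have hzV := mem_comap_of_mem hP hU r hz'
  refine (hL'.compat U' hU' r' W' t z hz hzU).trans ?_
  have hpt : ProjectiveSpectrum.comap (φ U hU U' hU' hle) (hirr U hU U' hU' hle)
      (ProjectiveSpectrum.comap _ (𝒮'.irrelevant_le_map U' hU' r') z) =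
      ProjectiveSpectrum.comap _ (𝒮.irrelevant_le_map U hU r)
        (ProjectiveSpectrum.comap _ (hirr (Y.basicOpen r) hD (Y'.basicOpen r') hD' hle') z) :=
    ProjectiveSpectrum.ext (HomogeneousIdeal.ext' fun i a _ => by
      show 𝒮'.res hU' hD' (Y'.basicOpen_le r') (φ U hU U' hU' hle a) ∈ z.asHomogeneousIdeal ↔
        φ _ hD _ hD' hle' (𝒮.res hU hD (Y.basicOpen_le r) a) ∈ z.asHomogeneousIdeal
      rw [hnat U hU U' hU' hle])
  have h2 : (RelProj.emb p chart U hU).base (ProjectiveSpectrum.comap (φ U hU U' hU' hle) (hirr U hU U' hU' hle)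
      (ProjectiveSpectrum.comap _ (𝒮'.irrelevant_le_map U' hU' r') z)) ∈ W := by
    rw [hpt]; exact hzV
  refine (congrArg _ (h _ hzU h2)).trans ?_
  refine Eq.trans ?_ (congrArg _ (hL.compat U hU r W s _ hz' hzV)).symm
  exact (locMap_square (𝒮.res hU hD (Y.basicOpen_le r)) (𝒮.irrelevant_le_map U hU r)
    (φ _ hD _ hD' hle') (hirr _ hD _ hD' hle')
    (φ U hU U' hU' hle) (hirr U hU U' hU' hle)
    (𝒮'.res hU' hD' (Y'.basicOpen_le r')) (𝒮'.irrelevant_le_map U' hU' r')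
    (fun a => hnat U hU U' hU' hle _ hD _ hD' hle' (Y.basicOpen_le r) (Y'.basicOpen_le r') a) z
    (V := ((RelProj.emb p chart U hU ⁻¹ᵁ W : (Proj (𝒮.deg U hU)).Opens) : Set (Proj (𝒮.deg U hU))))
    (fun x => GrTwist.val (V := RelProj.emb p chart U hU ⁻¹ᵁ W) ((lam U hU).app W s) x) hzV h2).symm

lemma Good.res {W : P.Opens} {s : Γ(L, W)} {W' W'' : P'.Opens} (i : W'' ≤ W') {t : Γ(L', W')}
    {U : Y.Opens} {hU : IsAffineOpen U} {U' : Y'.Opens} {hU' : IsAffineOpen U'} {hle : U' ≤ ψ ⁻¹ᵁ U}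
    (h : Good hirr lam lam' W s W' t U hU U' hU' hle) :
    Good hirr lam lam' W s W'' (AModX.res L' i t) U hU U' hU' hle := fun y hy hy' => by
  unfold cval
  rw [val_lam_res]
  exact h y (i hy) hy'

include hnat hP hP' hg hL hL' in
/-- Two candidates agree. -/
lemma Good.unique {W : P.Opens} {s : Γ(L, W)} {W' : P'.Opens} (hW' : W' ≤ g ⁻¹ᵁ W) {a b : Γ(L', W')}
    {U₁ : Y.Opens} {h₁ : IsAffineOpen U₁} {U₁' : Y'.Opens} {h₁' : IsAffineOpen U₁'} {l₁ : U₁' ≤ ψ ⁻¹ᵁ U₁}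
    {U₂ : Y.Opens} {h₂ : IsAffineOpen U₂} {U₂' : Y'.Opens} {h₂' : IsAffineOpen U₂'} {l₂ : U₂' ≤ ψ ⁻¹ᵁ U₂}
    (hW₁ : W' ≤ p' ⁻¹ᵁ U₁') (hW₂ : W' ≤ p' ⁻¹ᵁ U₂')
    (ha : Good hirr lam lam' W s W' a U₁ h₁ U₁' h₁' l₁) (hb : Good hirr lam lam' W s W' b U₂ h₂ U₂' h₂' l₂) :
    a = b := by
  refine AModX.eq_of_locally _ _ fun x hx => ?_
  obtain ⟨r₁, r₂, er, hxr⟩ := exists_basicOpen_le_affine_inter h₁ h₂ (ψ (p' x)) ⟨l₁ (hW₁ hx), l₂ (hW₂ hx)⟩
  obtain ⟨q₁, q₂, eq', hxq⟩ := exists_basicOpen_le_affine_inter h₁' h₂' (p' x) ⟨hW₁ hx, hW₂ hx⟩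
  obtain ⟨c, hcD, hxc⟩ := (h₁'.basicOpen q₁).exists_basicOpen_le (V := ψ ⁻¹ᵁ Y.basicOpen r₁) ⟨p' x, hxr⟩ hxq
  obtain ⟨c₁, hc₁⟩ := h₁'.basicOpen_basicOpen_is_basicOpen q₁ c
  obtain ⟨c₂, hc₂⟩ : ∃ c₂ : Γ(Y', U₂'), Y'.basicOpen c₂ = Y'.basicOpen c := by
    have key : ∀ (E : Y'.Opens), E = Y'.basicOpen q₂ → ∀ c : Γ(Y', E),
        ∃ c₂ : Γ(Y', U₂'), Y'.basicOpen c₂ = Y'.basicOpen c := by
      rintro E rfl c
      exact h₂'.basicOpen_basicOpen_is_basicOpen q₂ c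
    exact key _ eq' c
  let D := Y.basicOpen r₁
  let D' := Y'.basicOpen c
  have hD' : IsAffineOpen D' := (h₁'.basicOpen q₁).basicOpen c
  let W'' := W' ⊓ p' ⁻¹ᵁ D'
  refine ⟨W'', inf_le_left, ⟨hx, hxc⟩, (hL'.bijective D' hD' W'' inf_le_right).1 (twist_ext fun ⟨z, hz⟩ => ?_)⟩
  have ha' := ((ha.res hirr (inf_le_left : W'' ≤ W')).down hirr hnat hP hP' hg hL hL' r₁ c₁ D (h₁.basicOpen r₁) D' hD'
    rfl hc₁.symm hcD) z hz
  have hb' := ((hb.res hirr (inf_le_left : W'' ≤ W')).down hirr hnat hP hP' hg hL hL' r₂ c₂ D (h₁.basicOpen r₁) D' hD'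
    er hc₂.symm hcD) z hz
  have hmem : (RelProj.emb p chart D (h₁.basicOpen r₁)).base (ProjectiveSpectrum.comap (φ D (h₁.basicOpen r₁) D' hD' hcD)
      (hirr D (h₁.basicOpen r₁) D' hD' hcD) z) ∈ W := by
    rw [emb_base hirr hg]
    exact hW' hz.1
  exact (ha' hmem).trans (hb' hmem).symm

variable (lam lam') in
/-- `t` is the image of `s`. -/
def IsImage (W : P.Opens) (s : Γ(L, W)) (t : Γ(L', g ⁻¹ᵁ W)) : Prop :=
  ∀ (U : Y.Opens) (hU : IsAffineOpen U) (U' : Y'.Opens) (hU' : IsAffineOpen U') (hle : U' ≤ ψ ⁻¹ᵁ U),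
    Good hirr lam lam' W s (g ⁻¹ᵁ W) t U hU U' hU' hle

lemma exists_pair (x : P') : ∃ (U : Y.Opens) (_ : IsAffineOpen U) (U' : Y'.Opens) (_ : IsAffineOpen U'),
    U' ≤ ψ ⁻¹ᵁ U ∧ x ∈ p' ⁻¹ᵁ U' := by
  obtain ⟨_, ⟨U, hU, rfl⟩, hxU, -⟩ := Y.isBasis_affineOpens.exists_subset_of_mem_open
    (Set.mem_univ (ψ (p' x))) isOpen_univ
  obtain ⟨_, ⟨U', hU', rfl⟩, hxU', hsub⟩ := Y'.isBasis_affineOpens.exists_subset_of_mem_open
    (a := p' x) (u := ((ψ ⁻¹ᵁ U : Y'.Opens) : Set Y')) hxU (ψ ⁻¹ᵁ U).isOpen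
  exact ⟨U, hU, U', hU', hsub, hxU'⟩

include hnat hP hP' hg hL hL' in
theorem existsUnique_image (W : P.Opens) (s : Γ(L, W)) : ∃! t : Γ(L', g ⁻¹ᵁ W), IsImage hirr lam lam' W s t := by
  let I : Type u := {q : Y.affineOpens × Y'.affineOpens // q.2.1 ≤ ψ ⁻¹ᵁ q.1.1}
  let Vw : I → P'.Opens := fun q => g ⁻¹ᵁ W ⊓ p' ⁻¹ᵁ q.1.2.1
  have hloc : ∀ q : I, ∃ t : Γ(L', Vw q), Good hirr lam lam' W s (Vw q) t q.1.1.1 q.1.1.2 q.1.2.1 q.1.2.2 q.2 := by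
    rintro ⟨⟨⟨U, hU⟩, ⟨U', hU'⟩⟩, hle⟩
    let j' := RelProj.emb p' chart' U' hU'
    have hsub : (j' ⁻¹ᵁ (g ⁻¹ᵁ W ⊓ p' ⁻¹ᵁ U')).1 ⊆
        ProjectiveSpectrum.comap (φ U hU U' hU' hle) (hirr U hU U' hU' hle) ⁻¹'
          (RelProj.emb p chart U hU ⁻¹ᵁ W).1 := fun y hy => by
      show (RelProj.emb p chart U hU).base _ ∈ W
      rw [emb_base hirr hg]
      exact hy.1
    obtain ⟨t, ht⟩ := (hL'.bijective U' hU' (g ⁻¹ᵁ W ⊓ p' ⁻¹ᵁ U') inf_le_right).2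
      (GrTwist.comapApp (φ U hU U' hU' hle) (hirr U hU U' hU' hle) n (RelProj.emb p chart U hU ⁻¹ᵁ W)
        (j' ⁻¹ᵁ (g ⁻¹ᵁ W ⊓ p' ⁻¹ᵁ U')) hsub ((lam U hU).app W s))
    refine ⟨t, fun y hy hy' => ?_⟩
    rw [cval, ht]
    rfl
  choose t ht using hloc
  obtain ⟨T, hT, -⟩ := TopCat.Sheaf.existsUnique_gluing' ⟨L'.presheaf, L'.isSheaf⟩ Vw (g ⁻¹ᵁ W)
    (fun _ => homOfLE inf_le_left)
    (fun x hx => by
      obtain ⟨U, hU, U', hU', hle, hx'⟩ := exists_pair (ψ := ψ) (p' := p') x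
      exact Opens.mem_iSup.2 ⟨⟨⟨⟨U, hU⟩, ⟨U', hU'⟩⟩, hle⟩, hx, hx'⟩)
    t (fun a b => Good.unique hirr hnat hP hP' hg hL hL' (inf_le_left.trans inf_le_left)
      (inf_le_left.trans inf_le_right) (inf_le_right.trans inf_le_right)
      ((ht a).res hirr inf_le_left) ((ht b).res hirr inf_le_right))
  refine ⟨T, fun U hU U' hU' hle y hy hy' => ?_, fun T' hT' => ?_⟩
  · let q : I := ⟨⟨⟨U, hU⟩, ⟨U', hU'⟩⟩, hle⟩
    have hyU : (RelProj.emb p' chart' U' hU').base y ∈ p' ⁻¹ᵁ U' := by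
      rw [← RelTildeX.opensRange_emb p' chart' U' hU']; exact ⟨y, rfl⟩
    have := ht q y ⟨hy, hyU⟩ hy'
    rw [← (show AModX.res L' inf_le_left T = t q from hT q)] at this
    unfold cval at this
    rw [val_lam_res] at this
    exact this
  · refine TopCat.Sheaf.eq_of_locally_eq' ⟨L'.presheaf, L'.isSheaf⟩ Vw (g ⁻¹ᵁ W) (fun _ => homOfLE inf_le_left)
      (fun x hx => by
        obtain ⟨U, hU, U', hU', hle, hx'⟩ := exists_pair (ψ := ψ) (p' := p') x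
        exact Opens.mem_iSup.2 ⟨⟨⟨⟨U, hU⟩, ⟨U', hU'⟩⟩, hle⟩, hx, hx'⟩) _ _ fun q => ?_
    refine Eq.trans ?_ (hT q).symm
    exact Good.unique hirr hnat hP hP' hg hL hL' inf_le_left inf_le_right inf_le_right
      ((hT' _ q.1.1.2 _ q.1.2.2 q.2).res hirr inf_le_left) (ht q)

include hg in
lemma emb_app (U : Y.Opens) (hU : IsAffineOpen U) (U' : Y'.Opens) (hU' : IsAffineOpen U') (hle : U' ≤ ψ ⁻¹ᵁ U)
    (W : P.Opens) (r : Γ(P, W)) (y : (RelProj.emb p' chart' U' hU' ⁻¹ᵁ (g ⁻¹ᵁ W) : (Proj (𝒮'.deg U' hU')).Opens))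
    (hy' : (RelProj.emb p chart U hU).base
      (ProjectiveSpectrum.comap (φ U hU U' hU' hle) (hirr U hU U' hU' hle) y.1) ∈ W) :
    (((RelProj.emb p' chart' U' hU').app (g ⁻¹ᵁ W) (g.app W r)).1 y : GrTwist.A0 (𝒮'.deg U' hU') y.1).val =
      GrTwist.locMap (φ U hU U' hU' hle) (hirr U hU U' hU' hle) y.1
        (((RelProj.emb p chart U hU).app W r).1 ⟨_, hy'⟩ : GrTwist.A0 (𝒮.deg U hU) _).val := by
  let χ := φ U hU U' hU' hle
  let j' := RelProj.emb p' chart' U' hU'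
  have hle2 : j' ⁻¹ᵁ (g ⁻¹ᵁ W) ≤ (Proj.map χ (hirr U hU U' hU' hle) ≫ RelProj.emb p chart U hU) ⁻¹ᵁ W := fun z hz => by
    show (Proj.map χ (hirr U hU U' hU' hle) ≫ RelProj.emb p chart U hU) z ∈ W
    rw [← hg U hU U' hU' hle]
    exact hz
  have h1 : (j'.app (g ⁻¹ᵁ W) (g.app W r)).1 y = ((j' ≫ g).appLE W (j' ⁻¹ᵁ (g ⁻¹ᵁ W)) le_rfl r).1 y := rfl
  have h2 : (j' ≫ g).appLE W (j' ⁻¹ᵁ (g ⁻¹ᵁ W)) le_rfl r =
      (Proj.map χ (hirr U hU U' hU' hle) ≫ RelProj.emb p chart U hU).appLE W (j' ⁻¹ᵁ (g ⁻¹ᵁ W)) hle2 r := by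
    simp only [j', hg U hU U' hU' hle]
    rfl
  rw [h1, h2]
  exact HomogeneousLocalization.val_localRingHom _

include hnat hP hP' hg hL hL' in
theorem exists_comap :
    ∃ θ : L ⟶ (Scheme.Modules.pushforward g).obj L',
      ∀ (W : P.Opens) (s : Γ(L, W)), IsImage hirr lam lam' W s (θ.app W s) := by
  choose T hT hTu using existsUnique_image hirr hnat hP hP' hg hL hL'
  have hadd : ∀ (W : P.Opens) (s s' : Γ(L, W)), T W (s + s') = T W s + T W s' := fun W s s' =>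
    (hTu W (s + s') _ fun U hU U' hU' hle y hy hy' => by
      have a1 := hT W s U hU U' hU' hle y hy hy'
      have a2 := hT W s' U hU U' hU' hle y hy hy'
      unfold cval at a1 a2 ⊢
      erw [map_add, map_add]
      show GrTwist.val _ _ + GrTwist.val _ _ = GrTwist.locMap _ _ _ (GrTwist.val _ _ + GrTwist.val _ _)
      erw [map_add, a1, a2]).symm
  let ξ : L.presheaf ⟶ ((Scheme.Modules.pushforward g).obj L').presheaf :=
    { app := fun W => AddCommGrpCat.ofHom (AddMonoidHom.mk' (T W.unop) (hadd W.unop))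
      naturality := fun W W' i => by
        ext s
        refine (hTu W'.unop _ _ fun U hU U' hU' hle y hy hy' => ?_).symm
        have a1 := hT W.unop s U hU U' hU' hle y (g.preimage_mono i.unop.le hy) (i.unop.le hy')
        show cval lam' U' hU' (AModX.res L' (g.preimage_mono i.unop.le) (T W.unop s)) ⟨y, hy⟩ =
          GrTwist.locMap _ _ _ (cval lam U hU (AModX.res L i.unop.le s) ⟨_, hy'⟩)
        unfold cval at a1 ⊢
        rw [val_lam_res, val_lam_res]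
        exact a1 }
  have hlin : ∀ (W : (Opens P)ᵒᵖ) (r : Γ(P, W.unop)) (s : Γ(L, W.unop)),
      ξ.app W (r • s) = r • (show Γ((Scheme.Modules.pushforward g).obj L', W.unop) from ξ.app W s) := fun W r s =>
    (hTu W.unop _ _ fun U hU U' hU' hle y hy hy' => by
      show cval lam' U' hU' (g.app W.unop r • T W.unop s) ⟨y, hy⟩ = _
      rw [cval_smul, cval_smul, map_mul, hT W.unop s U hU U' hU' hle y hy hy',
        emb_app hirr hg U hU U' hU' hle W.unop r ⟨y, hy⟩ hy']).symm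
  exact ⟨⟨PresheafOfModules.homMk ξ hlin⟩, hT⟩

variable (hpo : ∀ (U : Y.Opens) (hU : IsAffineOpen U) (U' : Y'.Opens) (hU' : IsAffineOpen U') (hle : U' ≤ ψ ⁻¹ᵁ U),
      IsPushout (ψ.appLE U U' hle) (𝒮.str.app (op U)) (𝒮'.str.app (op U'))
        (CommRingCat.ofHom (φ U hU U' hU' hle).toRingHom))

include hpo in
lemma isIso_chart_adjunct (U : Y.Opens) (hU : IsAffineOpen U) (U' : Y'.Opens) (hU' : IsAffineOpen U')
    (hle : U' ≤ ψ ⁻¹ᵁ U) :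
    IsIso (GrModX.adjunct (ℳ := 𝒮.deg U hU) (𝒩 := 𝒮'.deg U' hU') (φ U hU U' hU' hle) (hirr U hU U' hU' hle)
      (GrModX.ringSemilinear (φ U hU U' hU' hle)) (GrModX.ringSemilinear_mem (φ U hU U' hU' hle)) n) := by
  let A := (𝒮.presheaf.obj (op U) : CommRingCat.{u})
  let B := (𝒮'.presheaf.obj (op U') : CommRingCat.{u})
  algebraize [(ψ.appLE U U' hle).hom, (𝒮.str.app (op U)).hom, (𝒮'.str.app (op U')).hom,
    ((φ U hU U' hU' hle).toRingHom : A →+* B), ((𝒮'.str.app (op U')).hom.comp (ψ.appLE U U' hle).hom)]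
  haveI : IsScalarTower Γ(Y, U) A B := IsScalarTower.of_algebraMap_eq fun r => by
    have := congr_arg (fun χ => χ.hom r) (hpo U hU U' hU' hle).w
    exact this
  have h : Algebra.IsPushout Γ(Y, U) Γ(Y', U') A B :=
    CommRingCat.isPushout_iff_isPushout.mp (hpo U hU U' hU' hle)
  exact GrModX.isIso_adjunct_baseChange (R := Γ(Y, U)) (R' := Γ(Y', U')) (φ U hU U' hU' hle) (hirr U hU U' hU' hle) n
    (fun r => 𝒮.str_mem U hU r) (fun r => 𝒮'.str_mem U' hU' r) (IsScalarTower.toAlgHom Γ(Y, U) A B) (fun _ => rfl) h.out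

lemma locModMap_eq_locMap {A σ B σ' : Type u} [CommRing A] [SetLike σ A] [AddSubgroupClass σ A] {𝒜 : ℕ → σ}
    [GradedRing 𝒜] [CommRing B] [SetLike σ' B] [AddSubgroupClass σ' B] {ℬ : ℕ → σ'} [GradedRing ℬ]
    (χ : 𝒜 →+*ᵍ ℬ) (hχ : ℬ₊ ≤ (𝒜₊).map χ) (y : ProjectiveSpectrum ℬ)
    (q : GrTwist.Loc 𝒜 (ProjectiveSpectrum.comap χ hχ y)) :
    (GrMod.locModMap χ hχ (GrModX.ringSemilinear χ) y q : GrTwist.Loc ℬ y) = GrTwist.locMap χ hχ y q := by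
  obtain ⟨a, s, rfl⟩ := IsLocalization.exists_mk'_eq (ProjectiveSpectrum.comap χ hχ y).asHomogeneousIdeal.toIdeal.primeCompl q
  rw [← Localization.mk_eq_mk', GrTwist.locMap_mk]
  rfl

include hnat hP hP' hg hL hL' hpo in
theorem nonempty_iso : Nonempty ((Scheme.Modules.pullback g).obj L ≅ L') := by
  obtain ⟨θ, hθ⟩ := exists_comap hirr hnat hP hP' hg hL hL'
  let σ := ((Scheme.Modules.pullbackPushforwardAdjunction g).homEquiv L L').symm θ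
  have hσ : ∀ (O : P.Opens) (O' : P'.Opens) (h : O' ≤ g ⁻¹ᵁ O) (x : Γ(L, O)),
      σ.app O' (QCoh.pullSec g L h x) = AModX.res L' h (θ.app O x) := by
    intro O O' h x
    have e := ((Scheme.Modules.pullbackPushforwardAdjunction g).homEquiv L L').apply_symm_apply θ
    rw [Adjunction.homEquiv_unit] at e
    rw [QCoh.pullSec, QCoh.map_app_comm]
    exact congrArg _ (congrArg (fun χ : L ⟶ (Scheme.Modules.pushforward g).obj L' => χ.app O x) e)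
  -- the affine cover
  let I : Type u := Σ q : {q : Y.affineOpens × Y'.affineOpens // q.2.1 ≤ ψ ⁻¹ᵁ q.1.1},
    {f : (𝒮.presheaf.obj (op q.1.1.1)) × ℕ // 0 < f.2 ∧ f.1 ∈ 𝒮.deg q.1.1.1 q.1.1.2 f.2}
  let O' : I → P'.Opens := fun i => RelProj.emb p' chart' i.1.1.2.1 i.1.1.2.2 ''ᵁ
    Proj.basicOpen (𝒮'.deg i.1.1.2.1 i.1.1.2.2) (φ _ i.1.1.1.2 _ i.1.1.2.2 i.1.2 i.2.1.1)
  haveI : IsIso σ := by
    refine GrModX.isIso_of_bijective_affineCover σ (QCoh.isQCoh_pullback _ (RelTildeX.isQCoh_twist hL))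
      (RelTildeX.isQCoh_twist hL') O' (fun x => ?_) (fun i => ?_) ?_
    · obtain ⟨U, hU, U', hU', hle, hx⟩ := exists_pair (ψ := ψ) (p' := p') x
      obtain ⟨y, rfl⟩ : x ∈ (RelProj.emb p' chart' U' hU').opensRange := by
        rw [RelTildeX.opensRange_emb]; exact hx
      obtain ⟨f, d, hd, hf, hy⟩ := GrModX.exists_mem_basicOpen_map (φ U hU U' hU' hle) (hirr U hU U' hU' hle) y
      exact ⟨⟨⟨⟨⟨U, hU⟩, ⟨U', hU'⟩⟩, hle⟩, ⟨(f, d), hd, hf⟩⟩, y, hy, rfl⟩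
    · exact (Proj.isAffineOpen_basicOpen _ _ ((φ _ i.1.1.1.2 _ i.1.1.2.2 i.1.2).map_mem i.2.2.2)
        i.2.2.1).image_of_isOpenImmersion _
    rintro ⟨⟨⟨⟨U, hU⟩, ⟨U', hU'⟩⟩, hle⟩, ⟨⟨f, d⟩, hd, hf⟩⟩
    show Function.Bijective (σ.app (RelProj.emb p' chart' U' hU' ''ᵁ Proj.basicOpen _ (φ U hU U' hU' hle f)))
    let j := RelProj.emb p chart U hU
    let j' := RelProj.emb p' chart' U' hU'
    let χ := φ U hU U' hU' hle
    let hχ := hirr U hU U' hU' hle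
    let O₁ := j ''ᵁ Proj.basicOpen (𝒮.deg U hU) f
    let O₂ := j' ''ᵁ Proj.basicOpen (𝒮'.deg U' hU') (χ f)
    let Q₁ := j ⁻¹ᵁ O₁
    let Q₂ := j' ⁻¹ᵁ O₂
    have eQ₁ : Q₁ = Proj.basicOpen _ f := j.preimage_image_eq _
    have eQ₂ : Q₂ = Proj.basicOpen _ (χ f) := j'.preimage_image_eq _
    have hO : O₂ ≤ g ⁻¹ᵁ O₁ := by
      rintro _ ⟨y, hy, rfl⟩
      exact ⟨ProjectiveSpectrum.comap χ hχ y, hy, emb_base hirr hg U hU U' hU' hle y⟩
    have hQ : Q₂ ≤ Proj.map χ hχ ⁻¹ᵁ Q₁ := by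
      rw [eQ₁, eQ₂, Proj.map_preimage_basicOpen]
    have hAO₁ : IsAffineOpen O₁ := (Proj.isAffineOpen_basicOpen _ f hf hd).image_of_isOpenImmersion j
    have hAO₂ : IsAffineOpen O₂ := (Proj.isAffineOpen_basicOpen _ _ (χ.map_mem hf) hd).image_of_isOpenImmersion j'
    have hAQ₁ : IsAffineOpen Q₁ := eQ₁ ▸ Proj.isAffineOpen_basicOpen _ f hf hd
    have hAQ₂ : IsAffineOpen Q₂ := eQ₂ ▸ Proj.isAffineOpen_basicOpen _ _ (χ.map_mem hf) hd
    haveI : IsIso (j.app O₁) := Scheme.Hom.isIso_app j O₁ (j.image_le_opensRange _)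
    haveI : IsIso (j'.app O₂) := Scheme.Hom.isIso_app j' O₂ (j'.image_le_opensRange _)
    let ιR := (asIso (j.app O₁)).commRingCatIsoToRingEquiv
    let ιS := (asIso (j'.app O₂)).commRingCatIsoToRingEquiv
    let LP := GrMod.tilde (𝒮.deg U hU) (𝒮.deg U hU) n
    letI := (g.appLE O₁ O₂ hO).hom.toAlgebra
    letI := ((Proj.map χ hχ).appLE Q₁ Q₂ hQ).hom.toAlgebra
    letI : Module Γ(P, O₁) Γ((Scheme.Modules.pullback g).obj L, O₂) := Module.compHom _ (g.appLE O₁ O₂ hO).hom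
    haveI : IsScalarTower Γ(P, O₁) Γ(P', O₂) Γ((Scheme.Modules.pullback g).obj L, O₂) :=
      IsScalarTower.of_algebraMap_smul fun _ _ => rfl
    letI : Module Γ(Proj (𝒮.deg U hU), Q₁) Γ((Scheme.Modules.pullback (Proj.map χ hχ)).obj LP, Q₂) :=
      Module.compHom _ ((Proj.map χ hχ).appLE Q₁ Q₂ hQ).hom
    haveI : IsScalarTower Γ(Proj (𝒮.deg U hU), Q₁) Γ(Proj (𝒮'.deg U' hU'), Q₂)
        Γ((Scheme.Modules.pullback (Proj.map χ hχ)).obj LP, Q₂) :=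
      IsScalarTower.of_algebraMap_smul fun _ _ => rfl
    let pl : Γ(L, O₁) →ₗ[Γ(P, O₁)] Γ((Scheme.Modules.pullback g).obj L, O₂) :=
      { toFun := QCoh.pullSec g L hO
        map_add' := QCoh.pullSec_add g L hO
        map_smul' := QCoh.pullSec_smul g L hO }
    let pl₀ : Γ(LP, Q₁) →ₗ[Γ(Proj (𝒮.deg U hU), Q₁)] Γ((Scheme.Modules.pullback (Proj.map χ hχ)).obj LP, Q₂) :=
      { toFun := QCoh.pullSec (Proj.map χ hχ) LP hQ
        map_add' := QCoh.pullSec_add _ LP hQ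
        map_smul' := QCoh.pullSec_smul _ LP hQ }
    have hp : IsBaseChange Γ(P', O₂) pl :=
      QCoh.isBaseChange_pullback hAO₁ g hAO₂ (RelTildeX.isQCoh_twist hL) hO (fun _ => rfl) pl fun _ => rfl
    have hp₀ : IsBaseChange Γ(Proj (𝒮'.deg U' hU'), Q₂) pl₀ :=
      QCoh.isBaseChange_pullback hAQ₁ (Proj.map χ hχ) hAQ₂ (GrModX.isQCoh_tilde (𝒮.deg U hU) (𝒮.deg U hU) n) hQ
        (fun _ => rfl) pl₀ fun _ => rfl
    let eM : Γ(L, O₁) ≃+ Γ(LP, Q₁) :=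
      AddEquiv.ofBijective ((lam U hU).app O₁).hom (hL.bijective U hU O₁
        ((j.image_le_opensRange _).trans (RelTildeX.opensRange_emb p chart U hU).le))
    let eN : Γ(L', O₂) ≃+ Γ(GrMod.tilde (𝒮'.deg U' hU') (𝒮'.deg U' hU') n, Q₂) :=
      AddEquiv.ofBijective ((lam' U' hU').app O₂).hom (hL'.bijective U' hU' O₂
        ((j'.image_le_opensRange _).trans (RelTildeX.opensRange_emb p' chart' U' hU').le))
    let σ₀ := GrModX.adjunct (ℳ := 𝒮.deg U hU) (𝒩 := 𝒮'.deg U' hU') χ hχ (GrModX.ringSemilinear χ)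
      (GrModX.ringSemilinear_mem χ) n
    haveI : IsIso σ₀ := isIso_chart_adjunct hirr hpo U hU U' hU' hle
    have hι : ∀ r : Γ(P, O₁), ιS (g.appLE O₁ O₂ hO r) = (Proj.map χ hχ).appLE Q₁ Q₂ hQ (ιR r) := by
      intro r
      show j'.app O₂ (g.appLE O₁ O₂ hO r) = (Proj.map χ hχ).appLE Q₁ Q₂ hQ (j.app O₁ r)
      rw [Scheme.Hom.app_eq_appLE, Scheme.Hom.app_eq_appLE, ← ConcreteCategory.comp_apply,
        ← ConcreteCategory.comp_apply, Scheme.Hom.appLE_comp_appLE, Scheme.Hom.appLE_comp_appLE]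
      simp only [j', χ, hg U hU U' hU' hle]
      rfl
    refine GrModX.bijective_transfer ιR ιS hι hp hp₀ eM ?_ eN ?_ (σ.app O₂) (σ₀.app Q₂)
      (fun a b => map_add _ a b) (fun s a => Scheme.Modules.Hom.app_smul σ s a)
      (fun a b => map_add _ a b) (fun s a => Scheme.Modules.Hom.app_smul σ₀ s a) (fun m => ?_)
      ((ConcreteCategory.isIso_iff_bijective _).1 inferInstance)
    · intro r m
      exact Scheme.Modules.Hom.app_smul (lam U hU) r m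
    · intro r m
      exact Scheme.Modules.Hom.app_smul (lam' U' hU') r m
    · show σ₀.app Q₂ (QCoh.pullSec (Proj.map χ hχ) LP hQ ((lam U hU).app O₁ m)) =
        (lam' U' hU').app O₂ (σ.app O₂ (QCoh.pullSec g L hO m))
      rw [hσ]
      have e := ((Scheme.Modules.pullbackPushforwardAdjunction (Proj.map χ hχ)).homEquiv _ _).apply_symm_apply
        (GrMod.comap (ℳ := 𝒮.deg U hU) (𝒩 := 𝒮'.deg U' hU') χ hχ (GrModX.ringSemilinear χ) (GrModX.ringSemilinear_mem χ) n)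
      rw [Adjunction.homEquiv_unit] at e
      rw [QCoh.pullSec, QCoh.map_app_comm]
      have e' : σ₀.app (Proj.map χ hχ ⁻¹ᵁ Q₁)
          (((Scheme.Modules.pullbackPushforwardAdjunction (Proj.map χ hχ)).unit.app LP).app Q₁ ((lam U hU).app O₁ m)) =
          (GrMod.comap χ hχ (GrModX.ringSemilinear χ) (GrModX.ringSemilinear_mem χ) n).app Q₁ ((lam U hU).app O₁ m) :=
        congrArg (fun c : LP ⟶ (Scheme.Modules.pushforward (Proj.map χ hχ)).obj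
            (GrMod.tilde (𝒮'.deg U' hU') (𝒮'.deg U' hU') n) => c.app Q₁ ((lam U hU).app O₁ m)) e
      erw [e']
      refine twist_ext fun y => ?_
      refine Eq.trans ?_ (val_lam_res (lam := lam') (g ⁻¹ᵁ O₁) O₂ hO (θ.app O₁ m) U' hU' y.1 y.2).symm
      refine Eq.trans ?_ (hθ O₁ m U hU U' hU' hle y.1 (hO y.2) (hQ y.2)).symm
      exact locModMap_eq_locMap χ hχ y.1 _
  exact ⟨asIso σ⟩

end Groth.Agent.ProjX.BC
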