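import Groth.Agent.ProjX.TwistAmple
import Groth.Agent.AmpleX.Sect

/-!
# Sections of twisting sheaves on a relative `Proj` from compatible values in the charts
-/

set_option linter.style.haveILetI false
set_option linter.unusedSectionVars false
set_option backward.isDefEq.respectTransparency false
set_option backward.isDefEq.respectTransparency.types false

noncomputable section

universe u

open CategoryTheory CategoryTheory.Limits AlgebraicGeometry TopologicalSpace Opposite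
open scoped HomogeneousIdeal

namespace Groth.Agent.ProjX

open Groth.Agent

variable {Y P : Scheme.{u}} {𝒮 : RelProj.QCGrAlg Y} {p : P ⟶ Y}
  {chart : ∀ (U : Y.Opens) (hU : IsAffineOpen U), (((p ⁻¹ᵁ U : P.Opens) : Scheme.{u}) ≅ Proj (𝒮.deg U hU))}
  {n : ℤ} {L : P.Modules}
  {lam : ∀ (U : Y.Opens) (hU : IsAffineOpen U),
    L ⟶ (Scheme.Modules.pushforward (RelProj.emb p chart U hU)).obj (GrTwist.twist (𝒮.deg U hU) n)}

lemma val_lam_res (W W' : P.Opens) (h : W' ≤ W) (s : Γ(L, W)) (U : Y.Opens) (hU : IsAffineOpen U)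
    (y : ProjectiveSpectrum (𝒮.deg U hU)) (hy : y ∈ RelProj.emb p chart U hU ⁻¹ᵁ W') :
    GrTwist.val (V := RelProj.emb p chart U hU ⁻¹ᵁ W') ((lam U hU).app W' (AModX.res L h s)) ⟨y, hy⟩ =
      GrTwist.val (V := RelProj.emb p chart U hU ⁻¹ᵁ W) ((lam U hU).app W s) ⟨y, h hy⟩ := by
  rw [show (lam U hU).app W' (AModX.res L h s) = _ from (AModX.app_res (lam U hU) h s)]
  rfl

variable (hP : RelProj.IsRelProj 𝒮 p chart) (hL : RelProj.IsRelTwist 𝒮 p chart n L lam)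

include hP in
lemma mem_comap_of_mem {U : Y.Opens} (hU : IsAffineOpen U) (r : Γ(Y, U)) {W : P.Opens}
    {y : ProjectiveSpectrum (𝒮.deg (Y.basicOpen r) (hU.basicOpen r))}
    (hy : (RelProj.emb p chart (Y.basicOpen r) (hU.basicOpen r)).base y ∈ W) :
    (RelProj.emb p chart U hU).base (ProjectiveSpectrum.comap (𝒮.res hU (hU.basicOpen r) (Y.basicOpen_le r))
      (𝒮.irrelevant_le_map U hU r) y) ∈ W := by
  have := congrArg (fun ψ : Proj (𝒮.deg (Y.basicOpen r) (hU.basicOpen r)) ⟶ P => ψ.base y)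
    (RelProj.map_res_emb hP U hU r)
  show (Proj.map (𝒮.res hU (hU.basicOpen r) (Y.basicOpen_le r)) (𝒮.irrelevant_le_map U hU r) ≫
    RelProj.emb p chart U hU).base y ∈ W
  rw [this]
  exact hy

include hP hL in
theorem existsUnique_sect (W : P.Opens)
    (t : ∀ (U : Y.Opens) (hU : IsAffineOpen U), Γ(GrTwist.twist (𝒮.deg U hU) n, RelProj.emb p chart U hU ⁻¹ᵁ W))
    (hcompat : ∀ (U : Y.Opens) (hU : IsAffineOpen U) (r : Γ(Y, U))
      (y : ProjectiveSpectrum (𝒮.deg (Y.basicOpen r) (hU.basicOpen r)))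
      (hy : (RelProj.emb p chart (Y.basicOpen r) (hU.basicOpen r)).base y ∈ W),
      GrTwist.val (t (Y.basicOpen r) (hU.basicOpen r)) ⟨y, hy⟩ =
        GrTwist.locMap (𝒮.res hU (hU.basicOpen r) (Y.basicOpen_le r)) (𝒮.irrelevant_le_map U hU r) y
          (GrTwist.val (t U hU) ⟨_, mem_comap_of_mem hP hU r hy⟩)) :
    ∃! s : Γ(L, W), ∀ (U : Y.Opens) (hU : IsAffineOpen U), (lam U hU).app W s = t U hU := by
  classical
  -- a section agrees with `t` in the chart `U`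
  let Good : ∀ (W' : P.Opens), W' ≤ W → Γ(L, W') → ∀ (U : Y.Opens), IsAffineOpen U → Prop :=
    fun W' h s U hU => ∀ (y : ProjectiveSpectrum (𝒮.deg U hU)) (hy : y ∈ RelProj.emb p chart U hU ⁻¹ᵁ W'),
      GrTwist.val (V := RelProj.emb p chart U hU ⁻¹ᵁ W') ((lam U hU).app W' s) ⟨y, hy⟩ =
        GrTwist.val (t U hU) ⟨y, h hy⟩
  have down : ∀ (W' : P.Opens) (h : W' ≤ W) (s : Γ(L, W')) (U : Y.Opens) (hU : IsAffineOpen U) (r : Γ(Y, U))
      (D : Y.Opens) (hD : IsAffineOpen D), D = Y.basicOpen r → Good W' h s U hU → Good W' h s D hD := by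
    intro W' h s U hU r D hD e hg
    subst e
    intro y hy
    refine (hL.compat U hU r W' s y hy (mem_comap_of_mem hP hU r hy)).trans ?_
    rw [hg _ (mem_comap_of_mem hP hU r hy)]
    exact (hcompat U hU r y (h hy)).symm
  have all : ∀ (W' : P.Opens) (h : W' ≤ W) (s : Γ(L, W')) (U : Y.Opens) (hU : IsAffineOpen U),
      W' ≤ p ⁻¹ᵁ U → Good W' h s U hU → ∀ V hV, Good W' h s V hV := by
    intro W' h s U hU hW' hg V hV y hy
    have hxV : RelProj.emb p chart V hV y ∈ p ⁻¹ᵁ V := by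
      rw [← RelTildeX.opensRange_emb p chart V hV]; exact ⟨y, rfl⟩
    obtain ⟨r, r', e, hxr⟩ := exists_basicOpen_le_affine_inter hU hV (p (RelProj.emb p chart V hV y))
      ⟨hW' hy, hxV⟩
    let W'' := W' ⊓ p ⁻¹ᵁ Y.basicOpen r
    have h'' : W'' ≤ W := inf_le_left.trans h
    have hD : Good W'' h'' (AModX.res L inf_le_left s) (Y.basicOpen r) (hU.basicOpen r) :=
      down W'' h'' _ U hU r _ _ rfl fun z hz => (val_lam_res W' W'' inf_le_left s U hU z hz).trans (hg z _)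
    obtain ⟨t', ht'⟩ := (hL.bijective V hV W'' (inf_le_right.trans (p.preimage_mono (e ▸ Y.basicOpen_le r')))).2
      ((GrTwist.twist (𝒮.deg V hV) n).presheaf.map (homOfLE ((RelProj.emb p chart V hV).preimage_mono h'')).op (t V hV))
    have hV' : Good W'' h'' t' V hV := fun z hz => by rw [ht']; rfl
    have hD' := down W'' h'' t' V hV r' (Y.basicOpen r) (hU.basicOpen r) e hV'
    have heq : t' = AModX.res L inf_le_left s :=
      (hL.bijective _ (hU.basicOpen r) W'' inf_le_right).1 (twist_ext fun ⟨z, hz⟩ => (hD' z hz).trans (hD z hz).symm)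
    rw [heq] at hV'
    exact ((val_lam_res W' W'' inf_le_left s V hV y ⟨hy, hxr⟩).symm.trans (hV' y ⟨hy, hxr⟩))
  have hloc : ∀ U : Y.affineOpens, ∃ s : Γ(L, W ⊓ p ⁻¹ᵁ U.1), ∀ V hV, Good _ inf_le_left s V hV := fun U => by
    obtain ⟨s, hs⟩ := (hL.bijective U.1 U.2 (W ⊓ p ⁻¹ᵁ U.1) inf_le_right).2
      ((GrTwist.twist (𝒮.deg U.1 U.2) n).presheaf.map
        (homOfLE ((RelProj.emb p chart U.1 U.2).preimage_mono inf_le_left)).op (t U.1 U.2))
    exact ⟨s, all _ inf_le_left s U.1 U.2 inf_le_right fun z hz => by rw [hs]; rfl⟩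
  choose s hs using hloc
  have hcov : ∀ x : P, ∃ U : Y.affineOpens, x ∈ p ⁻¹ᵁ U.1 := fun x => by
    obtain ⟨_, ⟨U, hU, rfl⟩, hxU, -⟩ := Y.isBasis_affineOpens.exists_subset_of_mem_open
      (Set.mem_univ (p x)) isOpen_univ
    exact ⟨⟨U, hU⟩, hxU⟩
  have hext : ∀ {W' : P.Opens} (a b : Γ(L, W')) (h : W' ≤ W),
      (∀ V hV, Good W' h a V hV) → (∀ V hV, Good W' h b V hV) → a = b := by
    intro W' a b h ha hb
    refine AModX.eq_of_locally _ _ fun x hx => ?_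
    obtain ⟨U, hxU⟩ := hcov x
    refine ⟨W' ⊓ p ⁻¹ᵁ U.1, inf_le_left, ⟨hx, hxU⟩, (hL.bijective U.1 U.2 _ inf_le_right).1
      (twist_ext fun ⟨z, hz⟩ => ?_)⟩
    rw [val_lam_res, val_lam_res, ha U.1 U.2, hb U.1 U.2]
  obtain ⟨S, hS, -⟩ := TopCat.Sheaf.existsUnique_gluing' ⟨L.presheaf, L.isSheaf⟩
    (fun U : Y.affineOpens => W ⊓ p ⁻¹ᵁ U.1) W (fun _ => homOfLE inf_le_left)
    (fun x hx => Opens.mem_iSup.2 ((hcov x).imp fun U hU => ⟨hx, hU⟩)) s (fun U V => by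
      refine hext (W' := (W ⊓ p ⁻¹ᵁ U.1) ⊓ (W ⊓ p ⁻¹ᵁ V.1)) _ _ (inf_le_left.trans inf_le_left)
        (fun A hA z hz => ?_) fun A hA z hz => ?_
      · exact (val_lam_res _ _ inf_le_left (s U) A hA z hz).trans (hs U A hA z _)
      · exact (val_lam_res _ _ inf_le_right (s V) A hA z hz).trans (hs V A hA z _))
  have hSgood : ∀ V hV, Good W le_rfl S V hV := fun V hV z hz => by
    obtain ⟨U, hU⟩ := hcov (RelProj.emb p chart V hV z)
    refine (val_lam_res W _ inf_le_left S V hV z ⟨hz, hU⟩).symm.trans ?_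
    rw [show AModX.res L inf_le_left S = s U from hS U]
    exact hs U V hV z _
  refine ⟨S, fun U hU => twist_ext fun ⟨z, hz⟩ => hSgood U hU z hz, fun S' hS' => ?_⟩
  exact hext S' S le_rfl (fun V hV z hz => by rw [hS' V hV]) hSgood

/-- The locus of a section, read in a chart. -/
lemma locus_inf_preimage {W : P.Opens} (e : Γ(L, W)) (U : Y.Opens) (hU : IsAffineOpen U)
    (hL : RelProj.IsRelTwist 𝒮 p chart n L lam) :
    AmpleX.locus e ⊓ p ⁻¹ᵁ U = RelProj.emb p chart U hU ''ᵁ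
      AmpleX.locus (M := GrTwist.twist (𝒮.deg U hU) n) (U := RelProj.emb p chart U hU ⁻¹ᵁ W) ((lam U hU).app W e) := by
  let j := RelProj.emb p chart U hU
  have hle : j ''ᵁ (j ⁻¹ᵁ W) ≤ W := by
    rintro _ ⟨z, hz, rfl⟩
    exact hz
  let a : Γ(L, j ''ᵁ (j ⁻¹ᵁ W)) := AModX.res L hle e
  have hiso : (RelTildeX.twistIso hL U hU).hom.app (j ⁻¹ᵁ W) a = (lam U hU).app W e := by
    refine twist_ext fun ⟨z, hz⟩ => ?_
    exact val_lam_res W _ hle e U hU z ⟨z, hz, rfl⟩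
  rw [← hiso, AmpleX.locus_iso, AmpleX.image_locus j a, AmpleX.locus_res,
    Scheme.Hom.image_preimage_eq_opensRange_inf, RelTildeX.opensRange_emb]
  rw [inf_comm (p ⁻¹ᵁ U), ← inf_assoc, inf_eq_left.2 (AmpleX.locus_le e)]

end Groth.Agent.ProjX

namespace Groth.Agent.ProjX

open Groth.Agent

variable {Y P : Scheme.{u}} {𝒮 : RelProj.QCGrAlg Y} {p : P ⟶ Y}
  {chart : ∀ (U : Y.Opens) (hU : IsAffineOpen U), (((p ⁻¹ᵁ U : P.Opens) : Scheme.{u}) ≅ Proj (𝒮.deg U hU))}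

lemma emb_preimage (Xf : P.Opens) (U : Y.Opens) (hU : IsAffineOpen U) (f : 𝒮.presheaf.obj (op U))
    (h : Xf ⊓ p ⁻¹ᵁ U = (p ⁻¹ᵁ U).ι ''ᵁ ((chart U hU).hom ⁻¹ᵁ Proj.basicOpen (𝒮.deg U hU) f)) :
    RelProj.emb p chart U hU ⁻¹ᵁ Xf = Proj.basicOpen (𝒮.deg U hU) f := by
  have hid : ∀ y, (chart U hU).hom ((chart U hU).inv y) = y := fun y => by simp
  have hι : ∀ y, RelProj.emb p chart U hU y = (p ⁻¹ᵁ U).ι ((chart U hU).inv y) := fun y => rfl
  refine Opens.ext (Set.ext fun y => ⟨fun hy => ?_, fun hy => ?_⟩)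
  · have hy' : RelProj.emb p chart U hU y ∈ Xf ⊓ p ⁻¹ᵁ U := ⟨hy, ((chart U hU).inv y).2⟩
    rw [h] at hy'
    obtain ⟨z, hz, hzy⟩ := hy'
    obtain rfl : z = (chart U hU).inv y := Subtype.ext hzy
    have hz' : (chart U hU).hom ((chart U hU).inv y) ∈ Proj.basicOpen (𝒮.deg U hU) f := hz
    rwa [hid] at hz'
  · refine (h.ge ⟨(chart U hU).inv y, ?_, rfl⟩).1
    show (chart U hU).hom ((chart U hU).inv y) ∈ Proj.basicOpen (𝒮.deg U hU) f
    rwa [hid]

/-- A section framing a module on the whole open gives a trivialisation. -/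
lemma nonempty_iso_of_locus {X : Scheme.{u}} {M : X.Modules} {W : X.Opens} (e : Γ(M, W))
    (h : AmpleX.locus e = W) : Nonempty (M.restrict W.ι ≅ Coh.structureModule W.toScheme) := by
  let a : Γ(M, W.ι ''ᵁ ⊤) := AModX.res M W.ι_image_top.le e
  let s : Coh.structureModule W.toScheme ⟶ M.restrict W.ι := InvX.ofSect (M := M.restrict W.ι) a
  have hf : InvX.IsFrame a := AmpleX.isFrame_res_of_le e (W.ι_image_top.le.trans h.ge)
  have hg : InvX.IsFrame (M := M.restrict W.ι) (U := ⊤) (InvX.one s) := by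
    rw [InvX.one_ofSect]
    exact (AmpleX.isFrame_restrict_iff W.ι a).2 hf
  haveI : IsIso s := by
    refine Scheme.Modules.Hom.isIso_iff_isIso_app.2 fun V => ?_
    refine (ConcreteCategory.isIso_iff_bijective _).2 ?_
    have : (s.app V : _ → _) = fun r : Γ(W.toScheme, V) => r • AModX.res (M.restrict W.ι) (le_top : V ≤ ⊤) (InvX.one s) :=
      funext fun r => InvX.app_eq_smul s r
    rw [this]
    exact hg V le_top
  exact ⟨(asIso s).symm⟩

theorem nonempty_iso_relTwist_basicOpen (hP : RelProj.IsRelProj 𝒮 p chart) {d : ℕ}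
    (f : 𝒮.presheaf.obj (op ⊤))
    (hf : ∀ (U : Y.Opens) (hU : IsAffineOpen U), (𝒮.presheaf.map (homOfLE le_top).op).hom f ∈ 𝒮.deg U hU d)
    (Xf : P.Opens)
    (hXf : ∀ (U : Y.Opens) (hU : IsAffineOpen U),
      Xf ⊓ p ⁻¹ᵁ U =
        (p ⁻¹ᵁ U).ι ''ᵁ ((chart U hU).hom ⁻¹ᵁ
          Proj.basicOpen (𝒮.deg U hU) ((𝒮.presheaf.map (homOfLE le_top).op).hom f)))
    (n : ℤ) (L : P.Modules)
    (lam : ∀ (U : Y.Opens) (hU : IsAffineOpen U),
      L ⟶ (Scheme.Modules.pushforward (RelProj.emb p chart U hU)).obj (GrTwist.twist (𝒮.deg U hU) (n * (d : ℤ))))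
    (hL : RelProj.IsRelTwist 𝒮 p chart (n * (d : ℤ)) L lam) :
    Nonempty (L.restrict Xf.ι ≅ Coh.structureModule (Xf : Scheme.{u})) := by
  have hnon : ∀ (U : Y.Opens) (hU : IsAffineOpen U),
      GrTwistX.NonVan (𝒜 := 𝒮.deg U hU) ((𝒮.presheaf.map (homOfLE le_top).op).hom f)
        (RelProj.emb p chart U hU ⁻¹ᵁ Xf) := fun U hU x => by
    have := x.2
    exact (emb_preimage Xf U hU _ (hXf U hU)).le this
  let φ : ∀ (U : Y.Opens) (hU : IsAffineOpen U),
      GrTwistX.UnitFrac (𝒜 := 𝒮.deg U hU) (n * (d : ℤ)) (RelProj.emb p chart U hU ⁻¹ᵁ Xf) := fun U hU =>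
    GrTwistX.powFrac (hf U hU) SetLike.GradedOne.one_mem (zero_add d).symm n (hnon U hU)
      (fun x h => x.1.isPrime.ne_top ((Ideal.eq_top_iff_one _).mpr h))
  obtain ⟨e, he, -⟩ := existsUnique_sect hP hL Xf (fun U hU => GrTwistX.fracSect (φ U hU)) fun U hU r y hy => by
    have hres : 𝒮.res hU (hU.basicOpen r) (Y.basicOpen_le r) ((𝒮.presheaf.map (homOfLE le_top).op).hom f) =
        (𝒮.presheaf.map (homOfLE le_top).op).hom f := by
      rw [RelProj.QCGrAlg.res_apply, ← RingHom.comp_apply, ← CommRingCat.hom_comp, ← Functor.map_comp]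
      rfl
    refine Eq.trans ?_ (GrTwist.locMap_mk _ _ y _ _).symm
    have hnum : ∀ q q' : ℕ, 𝒮.res hU (hU.basicOpen r) (Y.basicOpen_le r)
        ((𝒮.presheaf.map (homOfLE le_top).op).hom f ^ q * 1 ^ q') =
        (𝒮.presheaf.map (homOfLE le_top).op).hom f ^ q * 1 ^ q' := fun q q' => by
      rw [map_mul, map_pow, map_pow, map_one, hres]
    have hden : ∀ q q' : ℕ, 𝒮.res hU (hU.basicOpen r) (Y.basicOpen_le r)
        (1 ^ q * (𝒮.presheaf.map (homOfLE le_top).op).hom f ^ q') =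
        1 ^ q * (𝒮.presheaf.map (homOfLE le_top).op).hom f ^ q' := fun q q' => by
      rw [map_mul, map_pow, map_pow, map_one, hres]
    exact congr_arg₂ Localization.mk (hnum _ _).symm (Subtype.ext (hden _ _).symm)
  refine nonempty_iso_of_locus e (le_antisymm (AmpleX.locus_le e) fun x hx => ?_)
  obtain ⟨_, ⟨U, hU, rfl⟩, hxU, -⟩ := Y.isBasis_affineOpens.exists_subset_of_mem_open
    (Set.mem_univ (p x)) isOpen_univ
  refine (inf_le_left : AmpleX.locus e ⊓ p ⁻¹ᵁ U ≤ AmpleX.locus e) ?_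
  rw [locus_inf_preimage e U hU hL, he U hU]
  obtain ⟨y, hy⟩ : x ∈ (RelProj.emb p chart U hU).opensRange := by
    rw [RelTildeX.opensRange_emb]; exact hxU
  subst hy
  refine ⟨y, AmpleX.le_locus _ le_rfl ?_ hx, rfl⟩
  rw [AModX.res_self]
  intro V hV
  exact GrTwistX.trivMap_bijective ((φ U hU).res hV)

theorem basicOpen_eq_genLocus (hgen : 𝒮.IsGenDegOne) {d : ℕ} (f : 𝒮.presheaf.obj (op ⊤))
    (hf : ∀ (U : Y.Opens) (hU : IsAffineOpen U), (𝒮.presheaf.map (homOfLE le_top).op).hom f ∈ 𝒮.deg U hU d)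
    (Xf : P.Opens)
    (hXf : ∀ (U : Y.Opens) (hU : IsAffineOpen U),
      Xf ⊓ p ⁻¹ᵁ U =
        (p ⁻¹ᵁ U).ι ''ᵁ ((chart U hU).hom ⁻¹ᵁ
          Proj.basicOpen (𝒮.deg U hU) ((𝒮.presheaf.map (homOfLE le_top).op).hom f)))
    (L : P.Modules)
    (lam : ∀ (U : Y.Opens) (hU : IsAffineOpen U),
      L ⟶ (Scheme.Modules.pushforward (RelProj.emb p chart U hU)).obj (GrTwist.twist (𝒮.deg U hU) (d : ℤ)))
    (hL : RelProj.IsRelTwist 𝒮 p chart (d : ℤ) L lam) (s : Coh.structureModule P ⟶ L)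
    (hs : ∀ (U : Y.Opens) (hU : IsAffineOpen U) (y : Proj (𝒮.deg U hU)),
      GrTwist.val (V := RelProj.emb p chart U hU ⁻¹ᵁ ⊤)
        ((lam U hU).app ⊤ (s.app ⊤ (show Γ(Coh.structureModule P, ⊤) from (1 : Γ(P, ⊤))))) ⟨y, Set.mem_univ _⟩ =
        Localization.mk ((𝒮.presheaf.map (homOfLE le_top).op).hom f) 1) :
    Xf = CohB1.genLocus L s := by
  rw [AmpleX.genLocus_eq_locus]
  have key : ∀ (U : Y.Opens) (hU : IsAffineOpen U), AmpleX.locus (InvX.one s) ⊓ p ⁻¹ᵁ U = Xf ⊓ p ⁻¹ᵁ U := by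
    intro U hU
    let fU := (𝒮.presheaf.map (homOfLE le_top : U ⟶ ⊤).op).hom f
    have ht : (lam U hU).app ⊤ (InvX.one s) = degSec (𝒮.deg U hU) (hf U hU) :=
      twist_ext fun ⟨y, hy⟩ => hs U hU y
    have hcov : ⨆ g : (𝒮.deg U hU 1 : Set (𝒮.presheaf.obj (op U))), Proj.basicOpen (𝒮.deg U hU)
        ((g : 𝒮.presheaf.obj (op U)) ^ d) = ⊤ := by
      refine top_unique ((iSup_basicOpen_deg_one hgen U hU _ Ideal.subset_span).ge.trans (iSup_mono fun g => ?_))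
      intro x hx h
      exact hx (x.isPrime.mem_of_pow_mem d h)
    have hg : ∀ g : (𝒮.deg U hU 1 : Set (𝒮.presheaf.obj (op U))),
        (g : 𝒮.presheaf.obj (op U)) ^ d ∈ 𝒮.deg U hU d := fun g => by
      have := SetLike.pow_mem_graded d g.2
      rwa [smul_eq_mul, mul_one] at this
    have hloc : AmpleX.locus (M := GrTwist.twist (𝒮.deg U hU) (d : ℤ)) (U := ⊤) (degSec (𝒮.deg U hU) (hf U hU)) =
        Proj.basicOpen (𝒮.deg U hU) fU := by
      have h := genLocus_degSec (𝒮.deg U hU) (fun g : (𝒮.deg U hU 1 : Set (𝒮.presheaf.obj (op U))) => (g : 𝒮.presheaf.obj (op U)) ^ d)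
        hg hcov (hf U hU)
      rwa [AmpleX.genLocus_eq_locus, InvX.one_ofSect] at h
    rw [locus_inf_preimage (InvX.one s) U hU hL, ht]
    refine (congrArg (fun O => RelProj.emb p chart U hU ''ᵁ O) hloc).trans ?_
    rw [← emb_preimage Xf U hU _ (hXf U hU), Scheme.Hom.image_preimage_eq_opensRange_inf,
      RelTildeX.opensRange_emb, inf_comm]
  refine Opens.ext (Set.ext fun x => ?_)
  obtain ⟨_, ⟨U, hU, rfl⟩, hxU, -⟩ := Y.isBasis_affineOpens.exists_subset_of_mem_open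
    (Set.mem_univ (p x)) isOpen_univ
  exact ⟨fun h => ((key U hU).ge ⟨h, hxU⟩).1, fun h => ((key U hU).le ⟨h, hxU⟩).1⟩

end Groth.Agent.ProjX
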