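import Groth.Agent.ProjX.SubIdeal
import Groth.Agent.TwistX.Global
import Groth.Agent.TwistX.PConePull
import Groth.Agent.RGLib.PullbackFrame
import Groth.Agent.PnCoh.TwistQCoh
import Groth.Agent.SegreX.Basic
import Groth.Prelude.Def_ProjUP

/-!
# Forms vanishing on a closed subscheme of projective space
-/

set_option autoImplicit false
set_option linter.style.haveILetI false
set_option backward.isDefEq.respectTransparency false
set_option backward.isDefEq.respectTransparency.types false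
set_option maxHeartbeats 1000000

universe u

open CategoryTheory CategoryTheory.Limits AlgebraicGeometry TopologicalSpace HomogeneousLocalization Opposite

namespace Groth.Agent.ProjX.VanishForms

open Groth.Agent

/-- Membership in the pulled back ideal on an affine chart. -/
theorem mem_comap_ideal_iff {X W : Scheme.{u}} [IsAffine W] (J : X.IdealSheafData) (j : W ⟶ X) [IsOpenImmersion j]
    {D : X.Opens} (hD : IsAffineOpen D) (hjD : j.opensRange = D) (e : ⊤ ≤ j ⁻¹ᵁ D) (s : Γ(X, D)) :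
    j.appLE D ⊤ e s ∈ (J.comap j).ideal ⟨⊤, isAffineOpen_top W⟩ ↔ s ∈ J.ideal ⟨D, hD⟩ := by
  obtain rfl : j ''ᵁ ⊤ = D := (Scheme.Hom.image_top_eq_opensRange j).trans hjD
  rw [Scheme.IdealSheafData.ideal_comap_of_isOpenImmersion, Ideal.mem_comap]
  have h1 : j.appLE (j ''ᵁ ⊤) ⊤ e = (j.appIso ⊤).hom := (Scheme.Hom.appIso_hom' j ⊤).symm
  rw [h1]
  have h2 : (j.appIso ⊤).inv.hom ((j.appIso ⊤).hom s) = s := Iso.hom_inv_id_apply _ _
  rw [h2]

variable {R : Type u} [CommRing R] {n : ℕ}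

local notation "𝒢" => CohB1.polyGrading n R

/-- A form vanishes on a closed subscheme iff its fractions vanish on the charts. -/
theorem pullSec_eq_zero_iff {Z : Scheme.{u}} (i : Z ⟶ CohB1.ProjSpace n R) [QuasiCompact i]
    (s : Finset (MvPolynomial (Fin (n + 1)) R)) (hs1 : ∀ f ∈ s, f ∈ 𝒢 1)
    (hs : (HomogeneousIdeal.irrelevant 𝒢).toIdeal = Ideal.span (s : Set (MvPolynomial (Fin (n + 1)) R)))
    (d : ℕ) (F : MvPolynomial (Fin (n + 1)) R) (hF : F ∈ 𝒢 d) :
    ProjUP.pullSec i (Twist.twistProjSpace n R d) (Twist.globalOf 𝒢 ⟨F, hF⟩) = 0 ↔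
      Proj16.InPart 𝒢 i s hs1 d F := by
  let M := Twist.twist 𝒢 (d : ℤ)
  let Q := (Scheme.Modules.pullback i).obj M
  let g : Γ(M, ⊤) := Twist.globalOf 𝒢 ⟨F, hF⟩
  have hM : Coh.IsQCoh M := PnCoh.isQCoh_twist_mvPolynomial (Fin (n + 1)) R d
  have hps : ProjUP.pullSec i (Twist.twistProjSpace n R d) (Twist.globalOf 𝒢 ⟨F, hF⟩) =
      QCoh.pullSec i M (le_refl (i ⁻¹ᵁ ⊤)) g :=
    (ConcreteCategory.congr_hom (Q.presheaf.map_id _) _).symm
  rw [hps]
  have key : ∀ f (hf : f ∈ s), Q.presheaf.map (homOfLE (le_top : i ⁻¹ᵁ Proj.basicOpen 𝒢 f ≤ ⊤)).op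
      (QCoh.pullSec i M (le_refl (i ⁻¹ᵁ ⊤)) g) = 0 ↔
      Away.mk 𝒢 (hs1 f hf) d F (Proj16.smul_one_mem 𝒢 hF) ∈ Proj16.away1Ideal 𝒢 i (hs1 f hf) := by
    intro f hf
    let D := Proj.basicOpen 𝒢 f
    have hfd : f ^ d ∈ 𝒢 d := by simpa using SetLike.pow_mem_graded d (hs1 f hf)
    let e : Γ(M, D) := AModX.res M (le_top : D ≤ ⊤) (Twist.globalOf 𝒢 ⟨f ^ d, hfd⟩)
    have he : InvX.IsFrame e :=
      TwistX.isFrame_res_globalOf hfd fun y => TwistX.notMem_pow (show f ∉ y.1.asHomogeneousIdeal from y.2) d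
    have he' : H23.Frame.IsFrame M (fun _ : Fin 1 => e) := fun W h => by
      have : H23.Frame.comb M (fun _ : Fin 1 => e) W h =
          (fun r : Γ(CohB1.ProjSpace n R, W) => r • AModX.res M h e) ∘ fun c : Fin 1 → _ => c 0 := by
        funext c
        simp [H23.Frame.comb, AModX.res]
      rw [this]
      exact (he W h).comp (Equiv.funUnique (Fin 1) _).bijective
    let r : Γ(CohB1.ProjSpace n R, D) := Proj.awayToSection 𝒢 f (Away.mk 𝒢 (hs1 f hf) d F (Proj16.smul_one_mem 𝒢 hF))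
    have hres : AModX.res M (le_top : D ≤ ⊤) g = r • e := by
      refine Subtype.ext (funext fun y => Subtype.ext ?_)
      refine Eq.trans ?_ (Twist.coe_smul_val (d : ℤ) y.1 (r.1 y) (e.1 y)).symm
      show (Localization.mk F _ : Twist.Loc 𝒢 y.1) = (r.1 y).val * Localization.mk (f ^ d) _
      rw [TwistX.awayToSection_val (hs1 f hf) d F _ y (fun h => y.2 (y.1.isPrime.mem_of_pow_mem _ h)),
        Localization.mk_mul, Localization.mk_eq_mk_iff, Localization.r_iff_exists]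
      exact ⟨1, by simp; ring⟩
    have hQ := RGLib.PullbackFrame.isFrame_pullback i hM he'
    have h1 : Q.presheaf.map (homOfLE (le_top : i ⁻¹ᵁ D ≤ ⊤)).op (QCoh.pullSec i M (le_refl (i ⁻¹ᵁ ⊤)) g) =
        i.app D r • QCoh.pullSec i M le_rfl e := by
      rw [ExistEasy.pullSec_res i M (le_top : D ≤ ⊤) (le_top : i ⁻¹ᵁ D ≤ i ⁻¹ᵁ ⊤) le_rfl le_rfl,
        show M.presheaf.map (homOfLE (le_top : D ≤ ⊤)).op g = r • e from hres, QCoh.pullSec_smul,
        Scheme.Hom.app_eq_appLE]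
    rw [h1]
    have h2 : i.app D r • QCoh.pullSec i M le_rfl e = 0 ↔ i.app D r = 0 := by
      refine ⟨fun h => ?_, fun h => by rw [h, zero_smul]⟩
      have h3 := (hQ (i ⁻¹ᵁ D) le_rfl).1 (a₁ := fun _ => i.app D r) (a₂ := 0) (by
        simp only [H23.Frame.comb, Fin.sum_univ_one, Pi.zero_apply, zero_smul]
        rw [show Q.presheaf.map (homOfLE (le_refl (i ⁻¹ᵁ D))).op (QCoh.pullSec i M le_rfl e) =
          QCoh.pullSec i M le_rfl e from ConcreteCategory.congr_hom (Q.presheaf.map_id _) _]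
        exact h)
      exact congrFun h3 0
    rw [h2]
    have hDaff : IsAffineOpen D := by
      rw [show D = (Proj.awayι 𝒢 f (hs1 f hf) one_pos).opensRange from (Proj.opensRange_awayι 𝒢 f (hs1 f hf) one_pos).symm]
      exact isAffineOpen_opensRange _
    have heD : (⊤ : (Spec (.of (Away 𝒢 f))).Opens) ≤ Proj.awayι 𝒢 f (hs1 f hf) one_pos ⁻¹ᵁ D := by
      intro z _
      show Proj.awayι 𝒢 f (hs1 f hf) one_pos z ∈ Proj.basicOpen 𝒢 f
      rw [← Proj.opensRange_awayι 𝒢 f (hs1 f hf) one_pos]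
      exact ⟨z, rfl⟩
    unfold Proj16.away1Ideal Proj16.chartIdeal
    rw [Ideal.mem_comap, ← TwistX.awayι_appLE_awayToSection (hs1 f hf) one_pos _ heD]
    refine Iff.trans ?_ (mem_comap_ideal_iff i.ker _ hDaff (Proj.opensRange_awayι 𝒢 f (hs1 f hf) one_pos) heD r).symm
    rw [Scheme.Hom.ker_apply]
    exact Iff.rfl
  constructor
  · intro h f hf ha
    exact (key f hf).1 (by rw [h, map_zero])
  · intro h
    refine TopCat.Sheaf.eq_of_locally_eq' ⟨Q.presheaf, Q.isSheaf⟩ (fun f : s => i ⁻¹ᵁ Proj.basicOpen 𝒢 f.1) _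
      (fun f => homOfLE le_top) (fun z _ => ?_) _ _ fun f => ?_
    · obtain ⟨f, hy⟩ := Opens.mem_iSup.mp
        ((Proj.iSup_basicOpen_eq_top 𝒢 (fun f : s => f.1) (by
          rw [hs, Subtype.range_coe_subtype]; rfl)).ge (Set.mem_univ (i z)))
      exact Opens.mem_iSup.2 ⟨f, hy⟩
    · exact ((key f.1 f.2).2 (h f.1 f.2 hF)).trans
        (map_zero (Q.presheaf.map (homOfLE (le_top : i ⁻¹ᵁ Proj.basicOpen 𝒢 f.1 ≤ ⊤)).op).hom).symm

/-- A closed subscheme of projective space is `Proj` of the forms modulo those vanishing on it. -/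
theorem exists_iso {Z : Scheme.{u}} (i : Z ⟶ CohB1.ProjSpace n R) [IsClosedImmersion i]
    {B : Type u} [CommRing B] [Algebra R B] (ℬ : ℕ → Submodule R B) [GradedAlgebra ℬ]
    (φ : 𝒢 →+*ᵍ ℬ) (hφs : Function.Surjective φ)
    (hker : ∀ (d : ℕ) (F : MvPolynomial (Fin (n + 1)) R) (hF : F ∈ 𝒢 d),
      φ F = 0 ↔ ProjUP.pullSec i (Twist.twistProjSpace n R d) (Twist.globalOf 𝒢 ⟨F, hF⟩) = 0)
    (hφ : HomogeneousIdeal.irrelevant ℬ ≤ (HomogeneousIdeal.irrelevant 𝒢).map φ) :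
    ∃ e : Z ≅ Proj ℬ, e.hom ≫ Proj.map φ hφ = i := by
  classical
  let s : Finset (MvPolynomial (Fin (n + 1)) R) := Finset.univ.image MvPolynomial.X
  have hs1 : ∀ f ∈ s, f ∈ 𝒢 1 := fun f hf => by
    obtain ⟨j, -, rfl⟩ := Finset.mem_image.1 hf
    exact MvPolynomial.isHomogeneous_X R j
  have hs : (HomogeneousIdeal.irrelevant 𝒢).toIdeal = Ideal.span (s : Set (MvPolynomial (Fin (n + 1)) R)) := by
    refine le_antisymm ((SegreX.irrelevant_le_span n R).trans (Ideal.span_mono ?_))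
      (Ideal.span_le.2 fun a ha => HomogeneousIdeal.mem_irrelevant_of_mem _ one_pos (hs1 a ha))
    rintro _ ⟨j, rfl⟩
    exact Finset.mem_coe.2 (Finset.mem_image_of_mem _ (Finset.mem_univ j))
  refine ProjX.exists_iso_of_ker i s hs1 hs φ hφs hφ fun a => ?_
  have hpart : ∀ m, GradedRing.proj 𝒢 m a ∈ 𝒢 m := fun m => SetLike.coe_mem _
  constructor
  · intro h m
    refine (pullSec_eq_zero_iff i s hs1 hs m _ (hpart m)).1 ((hker m _ (hpart m)).1 ?_)
    rw [GradedRing.proj_apply, GradedRingHom.map_directSumDecompose, h, DirectSum.decompose_zero]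
    rfl
  · intro h
    rw [← DirectSum.sum_support_decompose 𝒢 a, map_sum]
    refine Finset.sum_eq_zero fun m _ => (hker m _ (SetLike.coe_mem _)).2 ((pullSec_eq_zero_iff i s hs1 hs m _ (SetLike.coe_mem _)).2 ?_)
    exact h m

end Groth.Agent.ProjX.VanishForms
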